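import Cfsg.Agent.Lib.ChevStructure.CheckCore
import Cfsg.Agent.Lib.ChevStructure.CommGL

/-!
Products of root elements x_r(1) in characteristic two as bit matrices packed in natural numbers, with a
certificate for the rank.
-/

set_option autoImplicit false
set_option linter.unusedSectionVars false

namespace Cfsg.Agent.Lib.EvenInvolutions

open Cfsg.Lie Cfsg.Agent.Lib.ChevStructure
open scoped MatrixGroups Matrix

/-- Row b of a packed matrix. -/
def rowN (d M b : ℕ) : ℕ := (M >>> (b * d)) &&& (2 ^ d - 1)

/-- Add row b to row a for the pairs (a, b), reading the rows of `M`. -/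
def mulP (d : ℕ) (ps : List (ℕ × ℕ)) (M : ℕ) : ℕ :=
  ps.foldl (fun acc p => acc ^^^ (rowN d M p.2 <<< (p.1 * d))) M

/-- The packed identity matrix. -/
def idN (d : ℕ) : ℕ := (List.range d).foldl (fun acc a => acc ^^^ 2 ^ (a * d + a)) 0

/-- The off-diagonal entries of x_r(1) which are odd. -/
def rootPairs (F : Fast) (r : ℕ) : List (ℕ × ℕ) :=
  (List.range (F.l + F.n)).flatMap fun b =>
    (((F.appQ r 1 [(b, 1)]).map Prod.fst).dedup.filter fun a =>
      !Nat.beq a b && decide (Fast.sumKey a (F.appQ r 1 [(b, 1)]) % 12 = 6)).map fun a => (a, b)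

/-- The diagonal of x_r(1) is odd. -/
def rootDiag (F : Fast) (r : ℕ) : Bool :=
  Nat.blt r F.n && allLt (F.l + F.n) fun b => decide (Fast.sumKey b (F.appQ r 1 [(b, 1)]) % 12 = 6)

/-- The packed product of a word. -/
def evalW (F : Fast) (L : List ℕ) : ℕ :=
  L.foldr (fun r M => mulP (F.l + F.n) (rootPairs F r) M) (idN (F.l + F.n))

theorem rowN_testBit {d c : ℕ} (M b : ℕ) :
    (rowN d M b).testBit c = (M.testBit (b * d + c) && decide (c < d)) := by
  simp [rowN, Bool.and_comm]

theorem shifted_testBit {d c a a' : ℕ} (M b : ℕ) (hc : c < d) :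
    (rowN d M b <<< (a' * d)).testBit (a * d + c) = (decide (a' = a) && M.testBit (b * d + c)) := by
  rw [Nat.testBit_shiftLeft, rowN_testBit]
  rcases lt_trichotomy a' a with h | rfl | h
  · have h1 : (a' + 1) * d ≤ a * d := Nat.mul_le_mul_right d h
    rw [Nat.add_mul, one_mul] at h1
    have : ¬ a * d + c - a' * d < d := by omega
    simp [this, h.ne]
  · simp [hc]
  · have h1 : (a + 1) * d ≤ a' * d := Nat.mul_le_mul_right d h
    rw [Nat.add_mul, one_mul] at h1
    have : ¬ a' * d ≤ a * d + c := by omega
    simp [this, h.ne']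

variable {R : Type*} [CommRing R] [CharP R 2]

/-- A bit in R. -/
def bitR (R : Type*) [CommRing R] (b : Bool) : R := if b then 1 else 0

theorem bitR_xor (a b : Bool) : bitR R (a ^^ b) = bitR R a + bitR R b := by
  cases a <;> cases b <;> simp [bitR, CharTwo.add_self_eq_zero]

theorem bitR_int (x : ℤ) : (x : R) = bitR R (decide (x % 2 = 1)) := by
  have h2 : (2 : R) = 0 := CharTwo.two_eq_zero
  conv_lhs => rw [← Int.mul_ediv_add_emod x 2]
  rcases Int.emod_two_eq x with h | h <;> simp [bitR, h, h2]

theorem mulP_bit (d : ℕ) (M : ℕ) {a c : ℕ} (hc : c < d) : ∀ (ps : List (ℕ × ℕ)) (acc : ℕ),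
    bitR R ((ps.foldl (fun acc p => acc ^^^ (rowN d M p.2 <<< (p.1 * d))) acc).testBit (a * d + c)) =
      bitR R (acc.testBit (a * d + c)) +
        (ps.map fun p => if p.1 = a then bitR R (M.testBit (p.2 * d + c)) else 0).sum
  | [], acc => by simp
  | p :: ps, acc => by
    rw [List.foldl_cons, mulP_bit d M hc ps, Nat.testBit_xor, List.map_cons, List.sum_cons, ← add_assoc]
    congr 1
    rw [bitR_xor, shifted_testBit M p.2 hc]
    by_cases h : p.1 = a <;> simp [h, bitR]

variable {D : ChevalleyDatum}

/-- The matrix of a packed natural number. -/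
def toMat (D : ChevalleyDatum) (R : Type*) [CommRing R] (M : ℕ) : Matrix D.Idx D.Idx R :=
  Matrix.of fun x y => bitR R (M.testBit (Fast.cod x * (D.rank + D.nroots) + Fast.cod y))

/-- The matrix of a list of pairs. -/
def pairMat (D : ChevalleyDatum) (R : Type*) [CommRing R] (ps : List (ℕ × ℕ)) : Matrix D.Idx D.Idx R :=
  Matrix.of fun x y => (ps.map fun p => if p.1 = Fast.cod x ∧ p.2 = Fast.cod y then (1 : R) else 0).sum

theorem cod_lt (x : D.Idx) : Fast.cod x < D.rank + D.nroots := by
  rcases x with x | x <;> simp only [Fast.cod] <;> have := x.isLt <;> omega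

theorem cod_surj' {c : ℕ} (hc : c < D.rank + D.nroots) : ∃ x : D.Idx, Fast.cod x = c := by
  by_cases h : c < D.rank
  · exact ⟨Sum.inl ⟨c, h⟩, rfl⟩
  · exact ⟨Sum.inr ⟨c - D.rank, by omega⟩, by simp only [Fast.cod]; omega⟩

theorem toMat_mulP (M : ℕ) {ps : List (ℕ × ℕ)} (h : ∀ p ∈ ps, p.2 < D.rank + D.nroots) :
    toMat D R (mulP (D.rank + D.nroots) ps M) = (1 + pairMat D R ps) * toMat D R M := by
  ext x z
  rw [Matrix.add_mul, Matrix.one_mul, Matrix.add_apply, Matrix.mul_apply]
  simp only [toMat, pairMat, Matrix.of_apply]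
  rw [mulP, mulP_bit (R := R) _ M (cod_lt z)]
  congr 1
  induction ps with
  | nil => simp
  | cons p ps ih =>
    simp only [List.map_cons, List.sum_cons, add_mul, Finset.sum_add_distrib,
      ih fun q hq => h q (List.mem_cons_of_mem _ hq)]
    congr 1
    obtain ⟨w, hw⟩ := cod_surj' (h p List.mem_cons_self)
    rw [Finset.sum_eq_single w]
    · by_cases hx : p.1 = Fast.cod x <;> simp [hx, hw]
    · intro y _ hy
      rw [if_neg (fun hh => hy (Fast.cod_inj (by rw [hw, ← hh.2]))), zero_mul]
    · simp

theorem toMat_idN : toMat D R (idN (D.rank + D.nroots)) = 1 := by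
  ext x y
  set d := D.rank + D.nroots with hd
  have key : ∀ n, bitR R (((List.range n).foldl (fun acc a => acc ^^^ 2 ^ (a * d + a)) 0).testBit
      (Fast.cod x * d + Fast.cod y)) = if Fast.cod x < n ∧ x = y then 1 else 0 := by
    intro n
    induction n with
    | zero => simp [bitR]
    | succ n ih =>
      rw [List.range_succ, List.foldl_append, List.foldl_cons, List.foldl_nil, Nat.testBit_xor, bitR_xor, ih,
        Nat.testBit_two_pow]
      have hxy : (n * d + n = Fast.cod x * d + Fast.cod y) ↔ (Fast.cod x = n ∧ x = y) := by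
        constructor
        · intro e
          have hy : Fast.cod y < d := cod_lt y
          have hx : Fast.cod x < d := cod_lt x
          have : n = Fast.cod x := by
            rcases lt_trichotomy n (Fast.cod x) with h | h | h
            · have h1 : (n + 1) * d ≤ Fast.cod x * d := Nat.mul_le_mul_right d h
              rw [Nat.add_mul, one_mul] at h1
              omega
            · exact h
            · have h1 : (Fast.cod x + 1) * d ≤ n * d := Nat.mul_le_mul_right d h
              rw [Nat.add_mul, one_mul] at h1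
              omega
          subst this
          exact ⟨rfl, Fast.cod_inj (by omega)⟩
        · rintro ⟨rfl, rfl⟩; rfl
      simp only [bitR, hxy, decide_eq_true_eq]
      by_cases he : x = y
      · rcases lt_trichotomy (Fast.cod x) n with h1 | h1 | h1
        · rw [if_pos ⟨h1, he⟩, if_neg (fun h => h1.ne h.1), if_pos ⟨by omega, he⟩, add_zero]
        · rw [if_neg (fun h => h.1.ne h1), if_pos ⟨h1, he⟩, if_pos ⟨by omega, he⟩, zero_add]
        · rw [if_neg (fun h => by omega), if_neg (fun h => by omega), if_neg (fun h => by omega), zero_add]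
      · simp [he]
  simp only [toMat, Matrix.of_apply, idN, Matrix.one_apply]
  rw [key d]
  simp [hd, cod_lt]

theorem toMat_xor (M N : ℕ) : toMat D R (M ^^^ N) = toMat D R M + toMat D R N := by
  ext x y
  simp [toMat, Nat.testBit_xor, bitR_xor]

variable {F : Fast} (H : Fast.Certified F D)
include H

theorem sum_eq : F.l + F.n = D.rank + D.nroots := by rw [H.hl, H.hn]

theorem pairs_spec {r : Rt D} (h : rootDiag F r.val = true) :
    (1 : Matrix D.Idx D.Idx R) + pairMat D R (rootPairs F r.val) = xI D R r 1 := by
  simp only [rootDiag, Bool.and_eq_true, allLt_iff, decide_eq_true_eq] at h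
  have hx : xI D R r 1 = (xI D ℤ r 1).map (Int.castRingHom R) := by
    rw [H.core.xI_map, map_one]
  ext x y
  have hval : Fast.sumKey (Fast.cod x) (F.appQ r.val 1 [(Fast.cod y, 1)]) = 6 * xI D ℤ r 1 x y := by
    have e := congrFun (H.appQ_sem r 1 [(Fast.cod y, 1)]) x
    rw [Fast.sem_single, Matrix.smul_mulVec, Pi.smul_apply, Matrix.mulVec_single_one] at e
    simpa [Fast.sem] using e
  have hpar : xI D R r 1 x y =
      bitR R (decide (Fast.sumKey (Fast.cod x) (F.appQ r.val 1 [(Fast.cod y, 1)]) % 12 = 6)) := by
    rw [hx, Matrix.map_apply, eq_intCast, bitR_int, hval]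
    congr 1
    exact decide_eq_decide.2 (by omega)
  rw [hpar, Matrix.add_apply, pairMat, Matrix.of_apply, rootPairs]
  set d := F.l + F.n with hd
  have hy : Fast.cod y < d := by rw [hd, sum_eq H]; exact cod_lt y
  set f : ℕ → List ℕ := fun b => ((F.appQ r.val 1 [(b, 1)]).map Prod.fst).dedup.filter fun a =>
      !Nat.beq a b && decide (Fast.sumKey a (F.appQ r.val 1 [(b, 1)]) % 12 = 6) with hf
  have hnd : ((List.range d).flatMap fun b => (f b).map fun a => (a, b)).Nodup := by
    refine List.nodup_flatMap.2 ⟨fun b _ => ((List.nodup_dedup _).filter _).map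
      (fun _ _ h => congrArg Prod.fst h), ?_⟩
    refine (List.nodup_range (n := d)).imp fun {a b} hab => ?_
    intro p hp hq
    simp only [List.mem_map] at hp hq
    obtain ⟨_, -, rfl⟩ := hp
    obtain ⟨_, -, h⟩ := hq
    exact hab (congrArg Prod.snd h).symm
  have hcount : ∀ L : List (ℕ × ℕ), L.Nodup →
      (L.map fun p => if p.1 = Fast.cod x ∧ p.2 = Fast.cod y then (1 : R) else 0).sum =
        if (Fast.cod x, Fast.cod y) ∈ L then 1 else 0 := by
    intro L
    induction L with
    | nil => simp
    | cons p L ih =>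
      intro hL
      obtain ⟨hp, hL⟩ := List.nodup_cons.1 hL
      simp only [List.map_cons, List.sum_cons, ih hL, List.mem_cons]
      by_cases e : p = (Fast.cod x, Fast.cod y)
      · subst e; simp [hp]
      · rw [if_neg (fun hh => e (Prod.ext hh.1 hh.2)), zero_add]
        simp [Ne.symm e]
  rw [hcount _ hnd]
  set s := decide (Fast.sumKey (Fast.cod x) (F.appQ r.val 1 [(Fast.cod y, 1)]) % 12 = 6) with hs
  by_cases hxy : x = y
  · subst hxy
    have : s = true := by rw [hs, decide_eq_true_eq]; exact h.2 _ hy
    rw [this, Matrix.one_apply_eq, if_neg, add_zero]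
    · rfl
    · simp [hf]
  · rw [Matrix.one_apply_ne hxy, zero_add]
    have hne : Fast.cod x ≠ Fast.cod y := fun e => hxy (Fast.cod_inj e)
    have hmem : (Fast.cod x, Fast.cod y) ∈ ((List.range d).flatMap fun b => (f b).map fun a => (a, b)) ↔
        s = true := by
      simp only [List.mem_flatMap, List.mem_range, List.mem_map, Prod.mk.injEq]
      constructor
      · rintro ⟨b, -, a, ha, rfl, rfl⟩
        simp only [hf, List.mem_filter, Bool.and_eq_true] at ha
        exact ha.2.2
      · intro ht
        refine ⟨_, hy, _, ?_, rfl, rfl⟩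
        simp only [hf, List.mem_filter, Bool.and_eq_true, List.mem_dedup]
        refine ⟨?_, ?_, ht⟩
        · by_contra hk
          rw [hs, decide_eq_true_eq, Fast.sumKey_eq_zero fun e he heq => hk ?_] at ht
          · omega
          · exact List.mem_map.2 ⟨e, he, heq⟩
        · cases hb : Nat.beq (Fast.cod x) (Fast.cod y)
          · rfl
          · exact absurd (Nat.eq_of_beq_eq_true hb) hne
    by_cases ht : s = true
    · rw [if_pos (hmem.2 ht), ht]; rfl
    · rw [if_neg (mt hmem.1 ht), Bool.eq_false_iff.2 ht]; rfl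

theorem rootPairs_lt (r : ℕ) : ∀ p ∈ rootPairs F r, p.2 < D.rank + D.nroots := by
  intro p hp
  simp only [rootPairs, List.mem_flatMap, List.mem_range, List.mem_map] at hp
  obtain ⟨b, hb, a, -, rfl⟩ := hp
  rw [← sum_eq H]; exact hb

/-- The packed product is the product of the root elements. -/
theorem toMat_evalW : ∀ {L : List ℕ}, L.all (rootDiag F) = true →
    toMat D R (evalW F L) = (((L.map fun k => H.core.XN R k 1).prod : GL D.Idx R) : Matrix D.Idx D.Idx R)
  | [], _ => by simp [evalW, sum_eq H, toMat_idN]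
  | k :: L, h => by
    rw [List.all_cons, Bool.and_eq_true] at h
    have e : evalW F (k :: L) = mulP (D.rank + D.nroots) (rootPairs F k) (evalW F L) := by
      simp only [evalW, List.foldr_cons, sum_eq H]
    have hk : k < D.nroots := by
      have := h.1
      simp only [rootDiag, Bool.and_eq_true, Nat.blt_eq] at this
      rw [H.hn]; exact this.1
    rw [e, toMat_mulP _ (rootPairs_lt H k), toMat_evalW h.2, List.map_cons, List.prod_cons, Units.val_mul,
      show k = (⟨k, hk⟩ : Rt D).val from rfl, pairs_spec H (r := ⟨k, hk⟩) h.1, H.core.XN_fin]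
    rfl

/-- Words with the same packed product have the same product. -/
theorem prod_eq_of_evalW {L L' : List ℕ} (h : L.all (rootDiag F) = true) (h' : L'.all (rootDiag F) = true)
    (e : Nat.beq (evalW F L) (evalW F L') = true) :
    (L.map fun k => H.core.XN R k 1).prod = (L'.map fun k => H.core.XN R k 1).prod := by
  refine Units.ext ?_
  rw [← toMat_evalW H h, ← toMat_evalW H h', Nat.eq_of_beq_eq_true e]

end Cfsg.Agent.Lib.EvenInvolutions
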