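import Cfsg.Agent.Lib.EvenInvolutions.Classes
import Cfsg.Agent.Lib.ChevStructure.Cert.E6

/-! Tables and kernel certificates for the classes of involutions of type E6 in characteristic two. -/

set_option autoImplicit false
set_option maxRecDepth 100000

namespace Cfsg.Agent.Lib.EvenInvolutions.CertE6

open Cfsg.Agent.Lib.ChevStructure

/-- representatives of the involutions of W -/
def reps : List (List ℕ) := [[], [71], [68, 66], [55, 65, 67], [55, 65, 67, 46]]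

/-- absorption of orthogonal roots -/
def tab : List (List (ℕ × List ℕ × ℕ)) := [
  [(36, [1, 3, 2, 0, 4, 3, 1, 2, 3, 4], 1),
    (37, [1, 3, 2, 0, 4, 3, 1, 2, 3, 5], 1),
    (38, [1, 3, 2, 0, 4, 3, 1, 2, 3], 1),
    (39, [1, 3, 2, 0, 4, 3, 1, 2, 5, 4], 1),
    (40, [1, 3, 2, 0, 4, 3, 1, 2, 5], 1),
    (41, [1, 3, 2, 0, 4, 3, 1, 2], 1),
    (42, [1, 3, 2, 0, 4, 3, 1, 5, 4, 3], 1),
    (43, [1, 3, 2, 0, 4, 3, 1, 5, 4], 1),
    (44, [1, 3, 2, 0, 4, 3, 1, 5], 1),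
    (45, [1, 3, 2, 0, 4, 3, 1], 1),
    (46, [1, 3, 2, 0, 4, 3, 2, 5, 4, 3], 1),
    (47, [1, 3, 2, 0, 4, 3, 2, 5, 4], 1),
    (48, [1, 3, 2, 0, 4, 3, 2, 5], 1),
    (49, [1, 3, 2, 0, 4, 3, 2], 1),
    (50, [1, 3, 2, 0, 4, 3, 5, 4], 1),
    (51, [1, 3, 2, 0, 4, 3, 5], 1),
    (52, [1, 3, 2, 0, 4, 3], 1),
    (53, [1, 3, 2, 0, 4, 5], 1),
    (54, [1, 3, 2, 0, 4], 1),
    (55, [1, 3, 2, 0], 1),
    (56, [1, 3, 2, 4, 3, 1, 5, 4, 3, 2], 1),
    (57, [1, 3, 2, 4, 3, 1, 5, 4, 3], 1),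
    (58, [1, 3, 2, 4, 3, 1, 5, 4], 1),
    (59, [1, 3, 2, 4, 3, 1, 5], 1),
    (60, [1, 3, 2, 4, 3, 1], 1),
    (61, [1, 3, 2, 4, 3, 5, 4], 1),
    (62, [1, 3, 2, 4, 3, 5], 1),
    (63, [1, 3, 2, 4, 3], 1),
    (64, [1, 3, 2, 4, 5], 1),
    (65, [1, 3, 2, 4], 1),
    (66, [1, 3, 2], 1),
    (67, [1, 3, 4, 5], 1),
    (68, [1, 3, 4], 1),
    (69, [1, 3], 1),
    (70, [1], 1),
    (71, [], 1)],
  [(36, [0, 4, 3, 1, 2, 3, 4], 2),
    (37, [0, 4, 3, 1, 2, 3, 5], 2),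
    (38, [0, 4, 3, 1, 2, 3], 2),
    (39, [0, 4, 3, 1, 2, 5, 4], 2),
    (40, [0, 4, 3, 1, 2, 5], 2),
    (41, [0, 4, 3, 1, 2], 2),
    (42, [0, 4, 3, 1, 5, 4, 3], 2),
    (43, [0, 4, 3, 1, 5, 4], 2),
    (44, [0, 4, 3, 1, 5], 2),
    (45, [0, 4, 3, 1], 2),
    (56, [2, 3, 1, 5, 4, 3, 2], 2),
    (57, [2, 3, 1, 5, 4, 3], 2),
    (58, [2, 3, 1, 5, 4], 2),
    (59, [2, 3, 1, 5], 2),
    (60, [2, 3, 1], 2)],
  [(39, [0, 3, 1, 2, 5, 4], 3),
    (44, [0, 3, 1, 5], 3),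
    (46, [0, 3, 2, 5, 4, 3], 3),
    (47, [0, 3, 2, 5, 4], 3),
    (51, [0, 3, 5], 3),
    (53, [0, 5], 3)],
  [(46, [], 4)],
  []]

/-- representatives of the classes -/
def ys : List (List ℕ) := [[71], [68, 66], [55, 65, 67]]

/-- fusion -/
def fus : List (ℕ × List ℕ) := [
  (0, []),
  (0, []),
  (1, []),
  (2, []),
  (2, [39, 32, 39, 37, 34, 37, 36, 35, 36, 42, 29, 42, 39, 32, 39, 37, 34, 37, 42, 29, 42, 39, 32, 39, 10, 46, 67, 65, 10])]

/-- row operations -/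
def ops0 : List (ℕ × List ℕ) := [(0, [3, 5, 77])]

/-- pivots -/
def piv0 : List (ℕ × ℕ) := [(0, 6), (52, 7), (53, 8), (54, 9), (55, 10), (56, 11), (57, 12), (58, 13), (59, 14), (60, 15), (61, 16), (67, 22), (68, 23), (69, 24), (70, 25), (71, 26), (72, 27), (73, 28), (74, 29), (75, 30), (76, 31), (77, 1)]

/-- row operations -/
def ops1 : List (ℕ × List ℕ) := [(0, [1, 4, 5, 74]), (2, [0, 4, 72, 74]), (27, [29, 66]), (34, [37, 69]), (35, [40, 71]), (43, [48, 75]), (46, [49, 76]), (54, [56, 77]), (74, [72])]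

/-- pivots -/
def piv1 : List (ℕ × ℕ) := [(0, 9), (2, 11), (27, 6), (34, 7), (35, 8), (42, 10), (43, 12), (44, 13), (46, 14), (47, 15), (51, 16), (54, 17), (55, 18), (58, 19), (60, 20), (61, 21), (62, 22), (63, 23), (64, 25), (65, 28), (66, 27), (67, 32), (68, 36), (69, 34), (70, 39), (71, 35), (72, 0), (73, 41), (74, 2), (75, 43), (76, 46), (77, 54)]

/-- row operations -/
def ops2 : List (ℕ × List ℕ) := [(0, [1, 4, 73]), (1, [2, 5, 61]), (2, [0, 5, 71, 73]), (16, [26, 28, 47, 50, 64, 76]), (19, [33, 36, 55, 57, 67, 77]), (20, [39, 59]), (21, [40, 60]), (35, [41, 70]), (42, [48, 74]), (43, [62, 72]), (44, [63, 75]), (47, [50, 76]), (50, [47, 64]), (55, [57, 77]), (57, [55, 67]), (61, [71]), (71, [73]), (73, [71]), (76, [47, 50]), (77, [55, 57])]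

/-- pivots -/
def piv2 : List (ℕ × ℕ) := [(0, 10), (1, 22), (2, 12), (16, 6), (19, 7), (20, 8), (21, 11), (35, 9), (42, 13), (43, 23), (44, 24), (45, 14), (46, 25), (47, 16), (49, 15), (50, 26), (51, 29), (53, 17), (54, 32), (55, 19), (56, 18), (57, 33), (58, 37), (59, 20), (60, 21), (61, 0), (65, 27), (66, 30), (68, 34), (69, 38), (70, 35), (71, 2), (72, 43), (73, 3), (74, 42), (75, 44), (76, 28), (77, 36)]

theorem sign : Data.E6.fast.eiSign = true := by decide +kernel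

theorem cover : Data.E6.fast.eiCover reps tab = true := by decide +kernel

theorem fusion : allLt reps.length (fun k => (reps.getD k []).isEmpty ||
    (Nat.blt (fus.getD k (0, [])).1 ys.length &&
      ((fus.getD k (0, [])).2 ++ reps.getD k []).all (rootDiag Data.E6.fast) &&
      (ys.getD (fus.getD k (0, [])).1 [] ++ (fus.getD k (0, [])).2).all (rootDiag Data.E6.fast) &&
      Nat.beq (evalW Data.E6.fast ((fus.getD k (0, [])).2 ++ reps.getD k []))
        (evalW Data.E6.fast (ys.getD (fus.getD k (0, [])).1 [] ++ (fus.getD k (0, [])).2)))) = true := by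
  decide +kernel

theorem diag : ys.all (fun y => (y ++ y).all (rootDiag Data.E6.fast)) = true := by decide +kernel

theorem square : ys.all (fun y => Nat.beq (evalW Data.E6.fast (y ++ y)) (evalW Data.E6.fast [])) = true := by decide +kernel

theorem rank0 : rankCert Data.E6.fast (ys.getD 0 []) ops0 piv0 = true := by decide +kernel

theorem rank1 : rankCert Data.E6.fast (ys.getD 1 []) ops1 piv1 = true := by decide +kernel

theorem rank2 : rankCert Data.E6.fast (ys.getD 2 []) ops2 piv2 = true := by decide +kernel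

end Cfsg.Agent.Lib.EvenInvolutions.CertE6
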