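import Cfsg.Agent.Lib.EvenInvolutions.Classes
import Cfsg.Agent.Lib.ChevStructure.Cert.E7

/-! Tables and kernel certificates for the classes of involutions of type E7 in characteristic two. -/

set_option autoImplicit false
set_option maxRecDepth 100000

namespace Cfsg.Agent.Lib.EvenInvolutions.CertE7

open Cfsg.Agent.Lib.ChevStructure

/-- representatives of the involutions of W -/
def reps : List (List ℕ) := [[], [125], [125, 92], [125, 92, 87], [125, 92, 63], [125, 92, 87, 78], [125, 92, 87, 73], [125, 92, 87, 78, 73], [125, 92, 87, 78, 73, 66], [125, 92, 87, 78, 73, 66, 63]]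

/-- absorption of orthogonal roots -/
def tab : List (List (ℕ × List ℕ × ℕ)) := [
  [(63, [0, 2, 3, 1, 4, 3, 2, 0, 5, 4, 3, 1, 2, 3, 4, 5], 1),
    (64, [0, 2, 3, 1, 4, 3, 2, 0, 5, 4, 3, 1, 2, 3, 4, 6], 1),
    (65, [0, 2, 3, 1, 4, 3, 2, 0, 5, 4, 3, 1, 2, 3, 4], 1),
    (66, [0, 2, 3, 1, 4, 3, 2, 0, 5, 4, 3, 1, 2, 3, 6, 5], 1),
    (67, [0, 2, 3, 1, 4, 3, 2, 0, 5, 4, 3, 1, 2, 3, 6], 1),
    (68, [0, 2, 3, 1, 4, 3, 2, 0, 5, 4, 3, 1, 2, 3], 1),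
    (69, [0, 2, 3, 1, 4, 3, 2, 0, 5, 4, 3, 1, 2, 6, 5, 4], 1),
    (70, [0, 2, 3, 1, 4, 3, 2, 0, 5, 4, 3, 1, 2, 6, 5], 1),
    (71, [0, 2, 3, 1, 4, 3, 2, 0, 5, 4, 3, 1, 2, 6], 1),
    (72, [0, 2, 3, 1, 4, 3, 2, 0, 5, 4, 3, 1, 2], 1),
    (73, [0, 2, 3, 1, 4, 3, 2, 0, 5, 4, 3, 1, 6, 5, 4, 3], 1),
    (74, [0, 2, 3, 1, 4, 3, 2, 0, 5, 4, 3, 1, 6, 5, 4], 1),
    (75, [0, 2, 3, 1, 4, 3, 2, 0, 5, 4, 3, 1, 6, 5], 1),
    (76, [0, 2, 3, 1, 4, 3, 2, 0, 5, 4, 3, 1, 6], 1),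
    (77, [0, 2, 3, 1, 4, 3, 2, 0, 5, 4, 3, 1], 1),
    (78, [0, 2, 3, 1, 4, 3, 2, 0, 5, 4, 3, 2, 6, 5, 4, 3], 1),
    (79, [0, 2, 3, 1, 4, 3, 2, 0, 5, 4, 3, 2, 6, 5, 4], 1),
    (80, [0, 2, 3, 1, 4, 3, 2, 0, 5, 4, 3, 2, 6, 5], 1),
    (81, [0, 2, 3, 1, 4, 3, 2, 0, 5, 4, 3, 2, 6], 1),
    (82, [0, 2, 3, 1, 4, 3, 2, 0, 5, 4, 3, 2], 1),
    (83, [0, 2, 3, 1, 4, 3, 2, 0, 5, 4, 3, 6, 5, 4], 1),
    (84, [0, 2, 3, 1, 4, 3, 2, 0, 5, 4, 3, 6, 5], 1),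
    (85, [0, 2, 3, 1, 4, 3, 2, 0, 5, 4, 3, 6], 1),
    (86, [0, 2, 3, 1, 4, 3, 2, 0, 5, 4, 3], 1),
    (87, [0, 2, 3, 1, 4, 3, 2, 0, 5, 4, 6, 5], 1),
    (88, [0, 2, 3, 1, 4, 3, 2, 0, 5, 4, 6], 1),
    (89, [0, 2, 3, 1, 4, 3, 2, 0, 5, 4], 1),
    (90, [0, 2, 3, 1, 4, 3, 2, 0, 5, 6], 1),
    (91, [0, 2, 3, 1, 4, 3, 2, 0, 5], 1),
    (92, [0, 2, 3, 1, 4, 3, 2, 0], 1),
    (93, [0, 2, 3, 1, 4, 3, 2, 5, 4, 3, 1, 6, 5, 4, 3, 2], 1),
    (94, [0, 2, 3, 1, 4, 3, 2, 5, 4, 3, 1, 6, 5, 4, 3], 1),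
    (95, [0, 2, 3, 1, 4, 3, 2, 5, 4, 3, 1, 6, 5, 4], 1),
    (96, [0, 2, 3, 1, 4, 3, 2, 5, 4, 3, 1, 6, 5], 1),
    (97, [0, 2, 3, 1, 4, 3, 2, 5, 4, 3, 1, 6], 1),
    (98, [0, 2, 3, 1, 4, 3, 2, 5, 4, 3, 1], 1),
    (99, [0, 2, 3, 1, 4, 3, 2, 5, 4, 3, 6, 5, 4], 1),
    (100, [0, 2, 3, 1, 4, 3, 2, 5, 4, 3, 6, 5], 1),
    (101, [0, 2, 3, 1, 4, 3, 2, 5, 4, 3, 6], 1),
    (102, [0, 2, 3, 1, 4, 3, 2, 5, 4, 3], 1),
    (103, [0, 2, 3, 1, 4, 3, 2, 5, 4, 6, 5], 1),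
    (104, [0, 2, 3, 1, 4, 3, 2, 5, 4, 6], 1),
    (105, [0, 2, 3, 1, 4, 3, 2, 5, 4], 1),
    (106, [0, 2, 3, 1, 4, 3, 2, 5, 6], 1),
    (107, [0, 2, 3, 1, 4, 3, 2, 5], 1),
    (108, [0, 2, 3, 1, 4, 3, 2], 1),
    (109, [0, 2, 3, 1, 4, 3, 5, 4, 6, 5], 1),
    (110, [0, 2, 3, 1, 4, 3, 5, 4, 6], 1),
    (111, [0, 2, 3, 1, 4, 3, 5, 4], 1),
    (112, [0, 2, 3, 1, 4, 3, 5, 6], 1),
    (113, [0, 2, 3, 1, 4, 3, 5], 1),
    (114, [0, 2, 3, 1, 4, 3], 1),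
    (115, [0, 2, 3, 1, 4, 5, 6], 1),
    (116, [0, 2, 3, 1, 4, 5], 1),
    (117, [0, 2, 3, 1, 4], 1),
    (118, [0, 2, 3, 1], 1),
    (119, [0, 2, 3, 4, 5, 6], 1),
    (120, [0, 2, 3, 4, 5], 1),
    (121, [0, 2, 3, 4], 1),
    (122, [0, 2, 3], 1),
    (123, [0, 2], 1),
    (124, [0], 1),
    (125, [], 1)],
  [(63, [5, 4, 3, 1, 2, 3, 4, 5], 2),
    (64, [5, 4, 3, 1, 2, 3, 4, 6], 2),
    (65, [5, 4, 3, 1, 2, 3, 4], 2),
    (66, [5, 4, 3, 1, 2, 3, 6, 5], 2),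
    (67, [5, 4, 3, 1, 2, 3, 6], 2),
    (68, [5, 4, 3, 1, 2, 3], 2),
    (69, [5, 4, 3, 1, 2, 6, 5, 4], 2),
    (70, [5, 4, 3, 1, 2, 6, 5], 2),
    (71, [5, 4, 3, 1, 2, 6], 2),
    (72, [5, 4, 3, 1, 2], 2),
    (73, [5, 4, 3, 1, 6, 5, 4, 3], 2),
    (74, [5, 4, 3, 1, 6, 5, 4], 2),
    (75, [5, 4, 3, 1, 6, 5], 2),
    (76, [5, 4, 3, 1, 6], 2),
    (77, [5, 4, 3, 1], 2),
    (78, [5, 4, 3, 2, 6, 5, 4, 3], 2),
    (79, [5, 4, 3, 2, 6, 5, 4], 2),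
    (80, [5, 4, 3, 2, 6, 5], 2),
    (81, [5, 4, 3, 2, 6], 2),
    (82, [5, 4, 3, 2], 2),
    (83, [5, 4, 3, 6, 5, 4], 2),
    (84, [5, 4, 3, 6, 5], 2),
    (85, [5, 4, 3, 6], 2),
    (86, [5, 4, 3], 2),
    (87, [5, 4, 6, 5], 2),
    (88, [5, 4, 6], 2),
    (89, [5, 4], 2),
    (90, [5, 6], 2),
    (91, [5], 2),
    (92, [], 2)],
  [(63, [], 4),
    (66, [3, 1, 2, 3], 3),
    (69, [3, 1, 2, 4], 3),
    (70, [3, 1, 2], 3),
    (73, [3, 1, 4, 3], 3),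
    (74, [3, 1, 4], 3),
    (75, [3, 1], 3),
    (78, [3, 2, 4, 3], 3),
    (79, [3, 2, 4], 3),
    (80, [3, 2], 3),
    (83, [3, 4], 3),
    (84, [3], 3),
    (87, [], 3)],
  [(63, [0, 2, 3, 1, 4, 3, 2, 0, 5, 4, 6, 5], 5),
    (66, [0, 2, 3, 1, 4, 3, 2, 0], 5),
    (73, [], 6),
    (78, [], 5)],
  [(66, [0, 2, 3, 1, 4, 3, 2, 0, 5, 4, 3, 1, 2, 3, 6, 5], 5),
    (69, [0, 2, 3, 1, 4, 3, 2, 0, 5, 4, 3, 1, 2, 6, 5, 4], 5),
    (70, [0, 2, 3, 1, 4, 3, 2, 0, 5, 4, 3, 1, 2, 6, 5], 5),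
    (73, [0, 2, 3, 1, 4, 3, 2, 0, 5, 4, 3, 1, 6, 5, 4, 3], 5),
    (74, [0, 2, 3, 1, 4, 3, 2, 0, 5, 4, 3, 1, 6, 5, 4], 5),
    (75, [0, 2, 3, 1, 4, 3, 2, 0, 5, 4, 3, 1, 6, 5], 5),
    (78, [0, 2, 3, 1, 4, 3, 2, 0, 5, 4, 3, 2, 6, 5, 4, 3], 5),
    (79, [0, 2, 3, 1, 4, 3, 2, 0, 5, 4, 3, 2, 6, 5, 4], 5),
    (80, [0, 2, 3, 1, 4, 3, 2, 0, 5, 4, 3, 2, 6, 5], 5),
    (83, [0, 2, 3, 1, 4, 3, 2, 0, 5, 4, 3, 6, 5, 4], 5),
    (84, [0, 2, 3, 1, 4, 3, 2, 0, 5, 4, 3, 6, 5], 5),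
    (87, [0, 2, 3, 1, 4, 3, 2, 0, 5, 4, 6, 5], 5)],
  [(63, [3, 2, 4, 3, 5, 4, 6, 5], 7),
    (66, [3, 2, 4, 3], 7),
    (73, [], 7)],
  [(63, [3, 1, 4, 3, 5, 4, 6, 5], 7),
    (66, [3, 1, 4, 3], 7),
    (78, [], 7)],
  [(63, [5, 4, 6, 5], 8),
    (66, [], 8)],
  [(63, [], 9)],
  []]

/-- representatives of the classes -/
def ys : List (List ℕ) := [[125], [125, 92], [125, 92, 63], [125, 92, 87], [125, 92, 87, 78]]

/-- fusion -/
def fus : List (ℕ × List ℕ) := [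
  (0, []),
  (0, []),
  (1, []),
  (3, []),
  (2, []),
  (4, []),
  (3, [69, 56, 69, 66, 59, 66, 64, 61, 64, 63, 62, 63, 78, 47, 78, 69, 56, 69, 66, 59, 66, 64, 61, 64, 93, 32, 93, 73, 52, 73, 69, 56, 69, 66, 59, 66, 78, 47, 78, 69, 56, 69, 73, 52, 73, 93, 32, 93, 93, 73, 87, 92, 93]),
  (4, [69, 56, 69, 93, 32, 93, 73, 52, 73, 78, 47, 78, 69, 56, 69, 66, 59, 66, 64, 61, 64, 63, 62, 63, 93, 32, 93, 73, 52, 73, 78, 47, 78, 69, 56, 69, 66, 59, 66, 64, 61, 64, 69, 56, 69, 73, 52, 73, 78, 47, 78, 69, 56, 69, 66, 59, 66, 69, 56, 69, 73, 52, 73, 78, 47, 78, 69, 56, 69, 93, 32, 93, 93, 73, 87, 92, 93]),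
  (4, [69, 56, 69, 93, 32, 93, 73, 52, 73, 78, 47, 78, 69, 56, 69, 66, 59, 66, 64, 61, 64, 63, 62, 63, 93, 32, 93, 73, 52, 73, 78, 47, 78, 69, 56, 69, 66, 59, 66, 64, 61, 64, 69, 56, 69, 66, 59, 66, 78, 47, 78, 69, 56, 69, 73, 52, 73, 93, 32, 93, 50, 87, 73, 66, 50, 93, 73, 87, 92, 93]),
  (4, [69, 56, 69, 93, 32, 93, 73, 52, 73, 78, 47, 78, 69, 56, 69, 66, 59, 66, 64, 61, 64, 63, 62, 63, 93, 32, 93, 73, 52, 73, 78, 47, 78, 69, 56, 69, 66, 59, 66, 64, 61, 64, 69, 56, 69, 66, 59, 66, 78, 47, 78, 69, 56, 69, 73, 52, 73, 93, 32, 93, 35, 87, 66, 92, 35, 50, 87, 73, 66, 50, 93, 73, 87, 92, 93])]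

/-- row operations -/
def ops0 : List (ℕ × List ℕ) := [(2, [4, 6, 132])]

/-- pivots -/
def piv0 : List (ℕ × ℕ) := [(2, 7), (100, 8), (101, 9), (102, 10), (103, 11), (104, 12), (105, 13), (106, 14), (107, 15), (108, 16), (109, 17), (110, 18), (111, 19), (112, 20), (113, 21), (114, 22), (115, 23), (116, 24), (117, 25), (118, 26), (119, 27), (120, 28), (121, 29), (122, 30), (123, 31), (124, 32), (125, 33), (126, 34), (127, 35), (128, 36), (129, 37), (130, 38), (131, 39), (132, 0)]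

/-- row operations -/
def ops1 : List (ℕ × List ℕ) := [(1, [2, 6, 99]), (2, [4, 6, 132]), (23, [100, 115]), (29, [101, 121]), (32, [102, 124]), (33, [103, 125]), (36, [106, 128]), (37, [107, 129]), (38, [110, 130]), (39, [116, 131]), (99, [132]), (132, [99])]

/-- pivots -/
def piv1 : List (ℕ × ℕ) := [(1, 40), (2, 7), (23, 8), (29, 9), (32, 10), (33, 11), (36, 14), (37, 15), (38, 18), (39, 24), (71, 41), (72, 42), (74, 43), (75, 44), (78, 46), (79, 47), (83, 50), (84, 51), (88, 55), (89, 56), (92, 60), (93, 61), (95, 64), (96, 65), (97, 67), (98, 68), (99, 0), (104, 12), (105, 13), (108, 16), (109, 17), (111, 19), (112, 20), (113, 21), (114, 22), (115, 23), (117, 25), (118, 26), (119, 27), (120, 28), (121, 29), (122, 30), (123, 31), (124, 32), (125, 33), (126, 34), (127, 35), (128, 36), (129, 37), (130, 38), (131, 39), (132, 5)]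

/-- row operations -/
def ops2 : List (ℕ × List ℕ) := [(1, [2, 6, 99]), (2, [4, 6, 132]), (6, [70]), (13, [104, 105]), (17, [108, 109]), (20, [111, 112]), (22, [113, 114]), (23, [100, 115]), (26, [117, 118]), (28, [119, 120]), (29, [101, 121]), (31, [122, 123]), (32, [102, 124]), (33, [103, 125]), (35, [126, 127]), (36, [106, 128]), (37, [107, 129]), (38, [110, 130]), (39, [116, 131]), (42, [71, 72]), (44, [74, 75]), (47, [78, 79]), (51, [83, 84]), (56, [88, 89]), (61, [92, 93]), (65, [95, 96]), (68, [97, 98]), (70, [99]), (99, [132])]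

/-- pivots -/
def piv2 : List (ℕ × ℕ) := [(1, 40), (2, 7), (6, 69), (13, 12), (17, 16), (20, 19), (22, 21), (23, 8), (26, 25), (28, 27), (29, 9), (31, 30), (32, 10), (33, 11), (35, 34), (36, 14), (37, 15), (38, 18), (39, 24), (42, 41), (44, 43), (47, 46), (51, 50), (56, 55), (61, 60), (65, 64), (68, 67), (70, 5), (72, 42), (75, 44), (79, 47), (84, 51), (89, 56), (93, 61), (96, 65), (98, 68), (99, 0), (105, 13), (109, 17), (112, 20), (114, 22), (115, 23), (118, 26), (120, 28), (121, 29), (123, 31), (124, 32), (125, 33), (127, 35), (128, 36), (129, 37), (130, 38), (131, 39)]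

/-- row operations -/
def ops3 : List (ℕ × List ℕ) := [(1, [2, 6, 99]), (2, [4, 6, 132]), (4, [1, 6, 94, 99]), (18, [23, 38, 100, 110, 115, 130]), (24, [29, 39, 101, 116, 121, 131]), (30, [104, 122]), (31, [105, 123]), (32, [102, 124]), (33, [103, 125]), (34, [108, 126]), (35, [109, 127]), (36, [106, 128]), (37, [107, 129]), (38, [110, 130]), (39, [116, 131]), (64, [71, 95]), (65, [72, 96]), (67, [74, 97]), (68, [75, 98]), (94, [99, 132]), (99, [94, 132]), (110, [38, 115]), (116, [39, 121]), (132, [94])]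

/-- pivots -/
def piv3 : List (ℕ × ℕ) := [(1, 40), (2, 7), (4, 45), (18, 8), (24, 9), (30, 12), (31, 13), (32, 10), (33, 11), (34, 16), (35, 17), (36, 14), (37, 15), (38, 18), (39, 24), (64, 41), (65, 42), (67, 43), (68, 44), (76, 48), (77, 49), (78, 46), (79, 47), (81, 52), (82, 53), (83, 50), (84, 51), (86, 57), (87, 58), (88, 55), (89, 56), (90, 62), (91, 63), (92, 60), (93, 61), (94, 0), (95, 64), (96, 65), (97, 67), (98, 68), (99, 3), (110, 23), (111, 19), (112, 20), (113, 21), (114, 22), (116, 29), (117, 25), (118, 26), (119, 27), (120, 28), (122, 30), (123, 31), (124, 32), (125, 33), (126, 34), (127, 35), (128, 36), (129, 37), (130, 38), (131, 39), (132, 5)]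

/-- row operations -/
def ops4 : List (ℕ × List ℕ) := [(1, [2, 6, 99]), (2, [4, 6, 132]), (4, [1, 6, 94, 99]), (6, [2, 4, 85, 94, 132]), (14, [32, 36, 102, 106, 124, 128]), (15, [33, 37, 103, 107, 125, 129]), (16, [30, 34, 104, 108, 122, 126]), (17, [31, 35, 105, 109, 123, 127]), (18, [23, 38, 100, 110, 115, 130]), (24, [29, 39, 101, 116, 121, 131]), (34, [108, 126]), (35, [109, 127]), (36, [106, 128]), (37, [107, 129]), (38, [110, 130]), (39, [116, 131]), (55, [78, 88]), (56, [79, 89]), (57, [76, 86]), (58, [77, 87]), (60, [83, 92]), (61, [84, 93]), (62, [81, 90]), (63, [82, 91]), (64, [71, 95]), (65, [72, 96]), (67, [74, 97]), (68, [75, 98]), (85, [94]), (94, [99, 132]), (106, [36, 124]), (107, [37, 125]), (108, [34, 122]), (109, [35, 123]), (110, [38, 115]), (116, [39, 121]), (132, [94])]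

/-- pivots -/
def piv4 : List (ℕ × ℕ) := [(1, 40), (2, 7), (4, 45), (6, 54), (14, 10), (15, 11), (16, 12), (17, 13), (18, 8), (24, 9), (34, 16), (35, 17), (36, 14), (37, 15), (38, 18), (39, 24), (55, 46), (56, 47), (57, 48), (58, 49), (60, 50), (61, 51), (62, 52), (63, 53), (64, 41), (65, 42), (67, 43), (68, 44), (85, 3), (86, 57), (87, 58), (88, 55), (89, 56), (90, 62), (91, 63), (92, 60), (93, 61), (94, 0), (95, 64), (96, 65), (97, 67), (98, 68), (106, 32), (107, 33), (108, 30), (109, 31), (110, 23), (111, 19), (112, 20), (113, 21), (114, 22), (116, 29), (117, 25), (118, 26), (119, 27), (120, 28), (126, 34), (127, 35), (128, 36), (129, 37), (130, 38), (131, 39), (132, 5)]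

theorem sign : Data.E7.fast.eiSign = true := by decide +kernel

theorem cover : Data.E7.fast.eiCover reps tab = true := by decide +kernel

theorem fusion : allLt reps.length (fun k => (reps.getD k []).isEmpty ||
    (Nat.blt (fus.getD k (0, [])).1 ys.length &&
      ((fus.getD k (0, [])).2 ++ reps.getD k []).all (rootDiag Data.E7.fast) &&
      (ys.getD (fus.getD k (0, [])).1 [] ++ (fus.getD k (0, [])).2).all (rootDiag Data.E7.fast) &&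
      Nat.beq (evalW Data.E7.fast ((fus.getD k (0, [])).2 ++ reps.getD k []))
        (evalW Data.E7.fast (ys.getD (fus.getD k (0, [])).1 [] ++ (fus.getD k (0, [])).2)))) = true := by
  decide +kernel

theorem diag : ys.all (fun y => (y ++ y).all (rootDiag Data.E7.fast)) = true := by decide +kernel

theorem square : ys.all (fun y => Nat.beq (evalW Data.E7.fast (y ++ y)) (evalW Data.E7.fast [])) = true := by decide +kernel

theorem rank0 : rankCert Data.E7.fast (ys.getD 0 []) ops0 piv0 = true := by decide +kernel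

theorem rank1 : rankCert Data.E7.fast (ys.getD 1 []) ops1 piv1 = true := by decide +kernel

theorem rank2 : rankCert Data.E7.fast (ys.getD 2 []) ops2 piv2 = true := by decide +kernel

theorem rank3 : rankCert Data.E7.fast (ys.getD 3 []) ops3 piv3 = true := by decide +kernel

theorem rank4 : rankCert Data.E7.fast (ys.getD 4 []) ops4 piv4 = true := by decide +kernel

end Cfsg.Agent.Lib.EvenInvolutions.CertE7
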