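import Cfsg.Agent.Lib.EvenInvolutions.Classes
import Cfsg.Agent.Lib.ChevStructure.Cert.E8

/-! Tables and kernel certificates for the classes of involutions of type E8 in characteristic two. -/

set_option autoImplicit false
set_option maxRecDepth 100000

namespace Cfsg.Agent.Lib.EvenInvolutions.CertE8

open Cfsg.Agent.Lib.ChevStructure

/-- representatives of the involutions of W -/
def reps : List (List ℕ) := [[], [239], [232, 233], [228, 222, 218], [226, 220, 213, 216], [228, 222, 218, 120], [226, 220, 213, 216, 168], [226, 220, 213, 216, 168, 139], [226, 220, 213, 216, 168, 139, 132], [226, 220, 213, 216, 168, 139, 132, 126]]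

/-- absorption of orthogonal roots -/
def tab : List (List (ℕ × List ℕ × ℕ)) := [
  [(120, [7, 6, 5, 4, 3, 1, 2, 0, 3, 2, 4, 3, 1, 5, 4, 3, 2, 0, 6, 5, 4, 3, 1, 2, 3, 4, 5, 6], 1),
    (121, [7, 6, 5, 4, 3, 1, 2, 0, 3, 2, 4, 3, 1, 5, 4, 3, 2, 0, 6, 5, 4, 3, 1, 2, 3, 4, 5, 7], 1),
    (122, [7, 6, 5, 4, 3, 1, 2, 0, 3, 2, 4, 3, 1, 5, 4, 3, 2, 0, 6, 5, 4, 3, 1, 2, 3, 4, 5], 1),
    (123, [7, 6, 5, 4, 3, 1, 2, 0, 3, 2, 4, 3, 1, 5, 4, 3, 2, 0, 6, 5, 4, 3, 1, 2, 3, 4, 7, 6], 1),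
    (124, [7, 6, 5, 4, 3, 1, 2, 0, 3, 2, 4, 3, 1, 5, 4, 3, 2, 0, 6, 5, 4, 3, 1, 2, 3, 4, 7], 1),
    (125, [7, 6, 5, 4, 3, 1, 2, 0, 3, 2, 4, 3, 1, 5, 4, 3, 2, 0, 6, 5, 4, 3, 1, 2, 3, 4], 1),
    (126, [7, 6, 5, 4, 3, 1, 2, 0, 3, 2, 4, 3, 1, 5, 4, 3, 2, 0, 6, 5, 4, 3, 1, 2, 3, 7, 6, 5], 1),
    (127, [7, 6, 5, 4, 3, 1, 2, 0, 3, 2, 4, 3, 1, 5, 4, 3, 2, 0, 6, 5, 4, 3, 1, 2, 3, 7, 6], 1),
    (128, [7, 6, 5, 4, 3, 1, 2, 0, 3, 2, 4, 3, 1, 5, 4, 3, 2, 0, 6, 5, 4, 3, 1, 2, 3, 7], 1),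
    (129, [7, 6, 5, 4, 3, 1, 2, 0, 3, 2, 4, 3, 1, 5, 4, 3, 2, 0, 6, 5, 4, 3, 1, 2, 3], 1),
    (130, [7, 6, 5, 4, 3, 1, 2, 0, 3, 2, 4, 3, 1, 5, 4, 3, 2, 0, 6, 5, 4, 3, 1, 2, 7, 6, 5, 4], 1),
    (131, [7, 6, 5, 4, 3, 1, 2, 0, 3, 2, 4, 3, 1, 5, 4, 3, 2, 0, 6, 5, 4, 3, 1, 2, 7, 6, 5], 1),
    (132, [7, 6, 5, 4, 3, 1, 2, 0, 3, 2, 4, 3, 1, 5, 4, 3, 2, 0, 6, 5, 4, 3, 1, 2, 7, 6], 1),
    (133, [7, 6, 5, 4, 3, 1, 2, 0, 3, 2, 4, 3, 1, 5, 4, 3, 2, 0, 6, 5, 4, 3, 1, 2, 7], 1),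
    (134, [7, 6, 5, 4, 3, 1, 2, 0, 3, 2, 4, 3, 1, 5, 4, 3, 2, 0, 6, 5, 4, 3, 1, 2], 1),
    (135, [7, 6, 5, 4, 3, 1, 2, 0, 3, 2, 4, 3, 1, 5, 4, 3, 2, 0, 6, 5, 4, 3, 1, 7, 6, 5, 4, 3], 1),
    (136, [7, 6, 5, 4, 3, 1, 2, 0, 3, 2, 4, 3, 1, 5, 4, 3, 2, 0, 6, 5, 4, 3, 1, 7, 6, 5, 4], 1),
    (137, [7, 6, 5, 4, 3, 1, 2, 0, 3, 2, 4, 3, 1, 5, 4, 3, 2, 0, 6, 5, 4, 3, 1, 7, 6, 5], 1),
    (138, [7, 6, 5, 4, 3, 1, 2, 0, 3, 2, 4, 3, 1, 5, 4, 3, 2, 0, 6, 5, 4, 3, 1, 7, 6], 1),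
    (139, [7, 6, 5, 4, 3, 1, 2, 0, 3, 2, 4, 3, 1, 5, 4, 3, 2, 0, 6, 5, 4, 3, 1, 7], 1),
    (140, [7, 6, 5, 4, 3, 1, 2, 0, 3, 2, 4, 3, 1, 5, 4, 3, 2, 0, 6, 5, 4, 3, 1], 1),
    (141, [7, 6, 5, 4, 3, 1, 2, 0, 3, 2, 4, 3, 1, 5, 4, 3, 2, 0, 6, 5, 4, 3, 2, 7, 6, 5, 4, 3], 1),
    (142, [7, 6, 5, 4, 3, 1, 2, 0, 3, 2, 4, 3, 1, 5, 4, 3, 2, 0, 6, 5, 4, 3, 2, 7, 6, 5, 4], 1),
    (143, [7, 6, 5, 4, 3, 1, 2, 0, 3, 2, 4, 3, 1, 5, 4, 3, 2, 0, 6, 5, 4, 3, 2, 7, 6, 5], 1),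
    (144, [7, 6, 5, 4, 3, 1, 2, 0, 3, 2, 4, 3, 1, 5, 4, 3, 2, 0, 6, 5, 4, 3, 2, 7, 6], 1),
    (145, [7, 6, 5, 4, 3, 1, 2, 0, 3, 2, 4, 3, 1, 5, 4, 3, 2, 0, 6, 5, 4, 3, 2, 7], 1),
    (146, [7, 6, 5, 4, 3, 1, 2, 0, 3, 2, 4, 3, 1, 5, 4, 3, 2, 0, 6, 5, 4, 3, 2], 1),
    (147, [7, 6, 5, 4, 3, 1, 2, 0, 3, 2, 4, 3, 1, 5, 4, 3, 2, 0, 6, 5, 4, 3, 7, 6, 5, 4], 1),
    (148, [7, 6, 5, 4, 3, 1, 2, 0, 3, 2, 4, 3, 1, 5, 4, 3, 2, 0, 6, 5, 4, 3, 7, 6, 5], 1),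
    (149, [7, 6, 5, 4, 3, 1, 2, 0, 3, 2, 4, 3, 1, 5, 4, 3, 2, 0, 6, 5, 4, 3, 7, 6], 1),
    (150, [7, 6, 5, 4, 3, 1, 2, 0, 3, 2, 4, 3, 1, 5, 4, 3, 2, 0, 6, 5, 4, 3, 7], 1),
    (151, [7, 6, 5, 4, 3, 1, 2, 0, 3, 2, 4, 3, 1, 5, 4, 3, 2, 0, 6, 5, 4, 3], 1),
    (152, [7, 6, 5, 4, 3, 1, 2, 0, 3, 2, 4, 3, 1, 5, 4, 3, 2, 0, 6, 5, 4, 7, 6, 5], 1),
    (153, [7, 6, 5, 4, 3, 1, 2, 0, 3, 2, 4, 3, 1, 5, 4, 3, 2, 0, 6, 5, 4, 7, 6], 1),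
    (154, [7, 6, 5, 4, 3, 1, 2, 0, 3, 2, 4, 3, 1, 5, 4, 3, 2, 0, 6, 5, 4, 7], 1),
    (155, [7, 6, 5, 4, 3, 1, 2, 0, 3, 2, 4, 3, 1, 5, 4, 3, 2, 0, 6, 5, 4], 1),
    (156, [7, 6, 5, 4, 3, 1, 2, 0, 3, 2, 4, 3, 1, 5, 4, 3, 2, 0, 6, 5, 7, 6], 1),
    (157, [7, 6, 5, 4, 3, 1, 2, 0, 3, 2, 4, 3, 1, 5, 4, 3, 2, 0, 6, 5, 7], 1),
    (158, [7, 6, 5, 4, 3, 1, 2, 0, 3, 2, 4, 3, 1, 5, 4, 3, 2, 0, 6, 5], 1),
    (159, [7, 6, 5, 4, 3, 1, 2, 0, 3, 2, 4, 3, 1, 5, 4, 3, 2, 0, 6, 7], 1),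
    (160, [7, 6, 5, 4, 3, 1, 2, 0, 3, 2, 4, 3, 1, 5, 4, 3, 2, 0, 6], 1),
    (161, [7, 6, 5, 4, 3, 1, 2, 0, 3, 2, 4, 3, 1, 5, 4, 3, 2, 0], 1),
    (162, [7, 6, 5, 4, 3, 1, 2, 0, 3, 2, 4, 3, 1, 5, 4, 3, 2, 6, 5, 4, 3, 1, 7, 6, 5, 4, 3, 2], 1),
    (163, [7, 6, 5, 4, 3, 1, 2, 0, 3, 2, 4, 3, 1, 5, 4, 3, 2, 6, 5, 4, 3, 1, 7, 6, 5, 4, 3], 1),
    (164, [7, 6, 5, 4, 3, 1, 2, 0, 3, 2, 4, 3, 1, 5, 4, 3, 2, 6, 5, 4, 3, 1, 7, 6, 5, 4], 1),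
    (165, [7, 6, 5, 4, 3, 1, 2, 0, 3, 2, 4, 3, 1, 5, 4, 3, 2, 6, 5, 4, 3, 1, 7, 6, 5], 1),
    (166, [7, 6, 5, 4, 3, 1, 2, 0, 3, 2, 4, 3, 1, 5, 4, 3, 2, 6, 5, 4, 3, 1, 7, 6], 1),
    (167, [7, 6, 5, 4, 3, 1, 2, 0, 3, 2, 4, 3, 1, 5, 4, 3, 2, 6, 5, 4, 3, 1, 7], 1),
    (168, [7, 6, 5, 4, 3, 1, 2, 0, 3, 2, 4, 3, 1, 5, 4, 3, 2, 6, 5, 4, 3, 1], 1),
    (169, [7, 6, 5, 4, 3, 1, 2, 0, 3, 2, 4, 3, 1, 5, 4, 3, 2, 6, 5, 4, 3, 7, 6, 5, 4], 1),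
    (170, [7, 6, 5, 4, 3, 1, 2, 0, 3, 2, 4, 3, 1, 5, 4, 3, 2, 6, 5, 4, 3, 7, 6, 5], 1),
    (171, [7, 6, 5, 4, 3, 1, 2, 0, 3, 2, 4, 3, 1, 5, 4, 3, 2, 6, 5, 4, 3, 7, 6], 1),
    (172, [7, 6, 5, 4, 3, 1, 2, 0, 3, 2, 4, 3, 1, 5, 4, 3, 2, 6, 5, 4, 3, 7], 1),
    (173, [7, 6, 5, 4, 3, 1, 2, 0, 3, 2, 4, 3, 1, 5, 4, 3, 2, 6, 5, 4, 3], 1),
    (174, [7, 6, 5, 4, 3, 1, 2, 0, 3, 2, 4, 3, 1, 5, 4, 3, 2, 6, 5, 4, 7, 6, 5], 1),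
    (175, [7, 6, 5, 4, 3, 1, 2, 0, 3, 2, 4, 3, 1, 5, 4, 3, 2, 6, 5, 4, 7, 6], 1),
    (176, [7, 6, 5, 4, 3, 1, 2, 0, 3, 2, 4, 3, 1, 5, 4, 3, 2, 6, 5, 4, 7], 1),
    (177, [7, 6, 5, 4, 3, 1, 2, 0, 3, 2, 4, 3, 1, 5, 4, 3, 2, 6, 5, 4], 1),
    (178, [7, 6, 5, 4, 3, 1, 2, 0, 3, 2, 4, 3, 1, 5, 4, 3, 2, 6, 5, 7, 6], 1),
    (179, [7, 6, 5, 4, 3, 1, 2, 0, 3, 2, 4, 3, 1, 5, 4, 3, 2, 6, 5, 7], 1),
    (180, [7, 6, 5, 4, 3, 1, 2, 0, 3, 2, 4, 3, 1, 5, 4, 3, 2, 6, 5], 1),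
    (181, [7, 6, 5, 4, 3, 1, 2, 0, 3, 2, 4, 3, 1, 5, 4, 3, 2, 6, 7], 1),
    (182, [7, 6, 5, 4, 3, 1, 2, 0, 3, 2, 4, 3, 1, 5, 4, 3, 2, 6], 1),
    (183, [7, 6, 5, 4, 3, 1, 2, 0, 3, 2, 4, 3, 1, 5, 4, 3, 2], 1),
    (184, [7, 6, 5, 4, 3, 1, 2, 0, 3, 2, 4, 3, 1, 5, 4, 3, 6, 5, 4, 7, 6, 5], 1),
    (185, [7, 6, 5, 4, 3, 1, 2, 0, 3, 2, 4, 3, 1, 5, 4, 3, 6, 5, 4, 7, 6], 1),
    (186, [7, 6, 5, 4, 3, 1, 2, 0, 3, 2, 4, 3, 1, 5, 4, 3, 6, 5, 4, 7], 1),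
    (187, [7, 6, 5, 4, 3, 1, 2, 0, 3, 2, 4, 3, 1, 5, 4, 3, 6, 5, 4], 1),
    (188, [7, 6, 5, 4, 3, 1, 2, 0, 3, 2, 4, 3, 1, 5, 4, 3, 6, 5, 7, 6], 1),
    (189, [7, 6, 5, 4, 3, 1, 2, 0, 3, 2, 4, 3, 1, 5, 4, 3, 6, 5, 7], 1),
    (190, [7, 6, 5, 4, 3, 1, 2, 0, 3, 2, 4, 3, 1, 5, 4, 3, 6, 5], 1),
    (191, [7, 6, 5, 4, 3, 1, 2, 0, 3, 2, 4, 3, 1, 5, 4, 3, 6, 7], 1),
    (192, [7, 6, 5, 4, 3, 1, 2, 0, 3, 2, 4, 3, 1, 5, 4, 3, 6], 1),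
    (193, [7, 6, 5, 4, 3, 1, 2, 0, 3, 2, 4, 3, 1, 5, 4, 3], 1),
    (194, [7, 6, 5, 4, 3, 1, 2, 0, 3, 2, 4, 3, 1, 5, 4, 6, 5, 7, 6], 1),
    (195, [7, 6, 5, 4, 3, 1, 2, 0, 3, 2, 4, 3, 1, 5, 4, 6, 5, 7], 1),
    (196, [7, 6, 5, 4, 3, 1, 2, 0, 3, 2, 4, 3, 1, 5, 4, 6, 5], 1),
    (197, [7, 6, 5, 4, 3, 1, 2, 0, 3, 2, 4, 3, 1, 5, 4, 6, 7], 1),
    (198, [7, 6, 5, 4, 3, 1, 2, 0, 3, 2, 4, 3, 1, 5, 4, 6], 1),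
    (199, [7, 6, 5, 4, 3, 1, 2, 0, 3, 2, 4, 3, 1, 5, 4], 1),
    (200, [7, 6, 5, 4, 3, 1, 2, 0, 3, 2, 4, 3, 1, 5, 6, 7], 1),
    (201, [7, 6, 5, 4, 3, 1, 2, 0, 3, 2, 4, 3, 1, 5, 6], 1),
    (202, [7, 6, 5, 4, 3, 1, 2, 0, 3, 2, 4, 3, 1, 5], 1),
    (203, [7, 6, 5, 4, 3, 1, 2, 0, 3, 2, 4, 3, 1], 1),
    (204, [7, 6, 5, 4, 3, 1, 2, 0, 3, 2, 4, 3, 5, 4, 6, 5, 7, 6], 1),
    (205, [7, 6, 5, 4, 3, 1, 2, 0, 3, 2, 4, 3, 5, 4, 6, 5, 7], 1),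
    (206, [7, 6, 5, 4, 3, 1, 2, 0, 3, 2, 4, 3, 5, 4, 6, 5], 1),
    (207, [7, 6, 5, 4, 3, 1, 2, 0, 3, 2, 4, 3, 5, 4, 6, 7], 1),
    (208, [7, 6, 5, 4, 3, 1, 2, 0, 3, 2, 4, 3, 5, 4, 6], 1),
    (209, [7, 6, 5, 4, 3, 1, 2, 0, 3, 2, 4, 3, 5, 4], 1),
    (210, [7, 6, 5, 4, 3, 1, 2, 0, 3, 2, 4, 3, 5, 6, 7], 1),
    (211, [7, 6, 5, 4, 3, 1, 2, 0, 3, 2, 4, 3, 5, 6], 1),
    (212, [7, 6, 5, 4, 3, 1, 2, 0, 3, 2, 4, 3, 5], 1),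
    (213, [7, 6, 5, 4, 3, 1, 2, 0, 3, 2, 4, 3], 1),
    (214, [7, 6, 5, 4, 3, 1, 2, 0, 3, 2, 4, 5, 6, 7], 1),
    (215, [7, 6, 5, 4, 3, 1, 2, 0, 3, 2, 4, 5, 6], 1),
    (216, [7, 6, 5, 4, 3, 1, 2, 0, 3, 2, 4, 5], 1),
    (217, [7, 6, 5, 4, 3, 1, 2, 0, 3, 2, 4], 1),
    (218, [7, 6, 5, 4, 3, 1, 2, 0, 3, 2], 1),
    (219, [7, 6, 5, 4, 3, 1, 2, 0, 3, 4, 5, 6, 7], 1),
    (220, [7, 6, 5, 4, 3, 1, 2, 0, 3, 4, 5, 6], 1),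
    (221, [7, 6, 5, 4, 3, 1, 2, 0, 3, 4, 5], 1),
    (222, [7, 6, 5, 4, 3, 1, 2, 0, 3, 4], 1),
    (223, [7, 6, 5, 4, 3, 1, 2, 0, 3], 1),
    (224, [7, 6, 5, 4, 3, 1, 2, 0], 1),
    (225, [7, 6, 5, 4, 3, 2, 0], 1),
    (226, [7, 6, 5, 4, 3, 1, 2, 3, 4, 5, 6, 7], 1),
    (227, [7, 6, 5, 4, 3, 1, 2, 3, 4, 5, 6], 1),
    (228, [7, 6, 5, 4, 3, 1, 2, 3, 4, 5], 1),
    (229, [7, 6, 5, 4, 3, 1, 2, 3, 4], 1),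
    (230, [7, 6, 5, 4, 3, 1, 2, 3], 1),
    (231, [7, 6, 5, 4, 3, 1, 2], 1),
    (232, [7, 6, 5, 4, 3, 1], 1),
    (233, [7, 6, 5, 4, 3, 2], 1),
    (234, [7, 6, 5, 4, 3], 1),
    (235, [7, 6, 5, 4], 1),
    (236, [7, 6, 5], 1),
    (237, [7, 6], 1),
    (238, [7], 1),
    (239, [], 1)],
  [(121, [0, 1, 3, 2, 4, 3, 1, 5, 4, 3, 2, 0, 6, 5, 4, 3, 1, 2, 3, 4, 5, 7], 2),
    (123, [0, 1, 3, 2, 4, 3, 1, 5, 4, 3, 2, 0, 6, 5, 4, 3, 1, 2, 3, 4, 7, 6], 2),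
    (124, [0, 1, 3, 2, 4, 3, 1, 5, 4, 3, 2, 0, 6, 5, 4, 3, 1, 2, 3, 4, 7], 2),
    (126, [0, 1, 3, 2, 4, 3, 1, 5, 4, 3, 2, 0, 6, 5, 4, 3, 1, 2, 3, 7, 6, 5], 2),
    (127, [0, 1, 3, 2, 4, 3, 1, 5, 4, 3, 2, 0, 6, 5, 4, 3, 1, 2, 3, 7, 6], 2),
    (128, [0, 1, 3, 2, 4, 3, 1, 5, 4, 3, 2, 0, 6, 5, 4, 3, 1, 2, 3, 7], 2),
    (130, [0, 1, 3, 2, 4, 3, 1, 5, 4, 3, 2, 0, 6, 5, 4, 3, 1, 2, 7, 6, 5, 4], 2),
    (131, [0, 1, 3, 2, 4, 3, 1, 5, 4, 3, 2, 0, 6, 5, 4, 3, 1, 2, 7, 6, 5], 2),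
    (132, [0, 1, 3, 2, 4, 3, 1, 5, 4, 3, 2, 0, 6, 5, 4, 3, 1, 2, 7, 6], 2),
    (133, [0, 1, 3, 2, 4, 3, 1, 5, 4, 3, 2, 0, 6, 5, 4, 3, 1, 2, 7], 2),
    (135, [0, 1, 3, 2, 4, 3, 1, 5, 4, 3, 2, 0, 6, 5, 4, 3, 1, 7, 6, 5, 4, 3], 2),
    (136, [0, 1, 3, 2, 4, 3, 1, 5, 4, 3, 2, 0, 6, 5, 4, 3, 1, 7, 6, 5, 4], 2),
    (137, [0, 1, 3, 2, 4, 3, 1, 5, 4, 3, 2, 0, 6, 5, 4, 3, 1, 7, 6, 5], 2),
    (138, [0, 1, 3, 2, 4, 3, 1, 5, 4, 3, 2, 0, 6, 5, 4, 3, 1, 7, 6], 2),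
    (139, [0, 1, 3, 2, 4, 3, 1, 5, 4, 3, 2, 0, 6, 5, 4, 3, 1, 7], 2),
    (141, [0, 1, 3, 2, 4, 3, 1, 5, 4, 3, 2, 0, 6, 5, 4, 3, 2, 7, 6, 5, 4, 3], 2),
    (142, [0, 1, 3, 2, 4, 3, 1, 5, 4, 3, 2, 0, 6, 5, 4, 3, 2, 7, 6, 5, 4], 2),
    (143, [0, 1, 3, 2, 4, 3, 1, 5, 4, 3, 2, 0, 6, 5, 4, 3, 2, 7, 6, 5], 2),
    (144, [0, 1, 3, 2, 4, 3, 1, 5, 4, 3, 2, 0, 6, 5, 4, 3, 2, 7, 6], 2),
    (145, [0, 1, 3, 2, 4, 3, 1, 5, 4, 3, 2, 0, 6, 5, 4, 3, 2, 7], 2),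
    (147, [0, 1, 3, 2, 4, 3, 1, 5, 4, 3, 2, 0, 6, 5, 4, 3, 7, 6, 5, 4], 2),
    (148, [0, 1, 3, 2, 4, 3, 1, 5, 4, 3, 2, 0, 6, 5, 4, 3, 7, 6, 5], 2),
    (149, [0, 1, 3, 2, 4, 3, 1, 5, 4, 3, 2, 0, 6, 5, 4, 3, 7, 6], 2),
    (150, [0, 1, 3, 2, 4, 3, 1, 5, 4, 3, 2, 0, 6, 5, 4, 3, 7], 2),
    (152, [0, 1, 3, 2, 4, 3, 1, 5, 4, 3, 2, 0, 6, 5, 4, 7, 6, 5], 2),
    (153, [0, 1, 3, 2, 4, 3, 1, 5, 4, 3, 2, 0, 6, 5, 4, 7, 6], 2),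
    (154, [0, 1, 3, 2, 4, 3, 1, 5, 4, 3, 2, 0, 6, 5, 4, 7], 2),
    (156, [0, 1, 3, 2, 4, 3, 1, 5, 4, 3, 2, 0, 6, 5, 7, 6], 2),
    (157, [0, 1, 3, 2, 4, 3, 1, 5, 4, 3, 2, 0, 6, 5, 7], 2),
    (159, [0, 1, 3, 2, 4, 3, 1, 5, 4, 3, 2, 0, 6, 7], 2),
    (162, [0, 1, 3, 2, 4, 3, 1, 5, 4, 3, 2, 6, 5, 4, 3, 1, 7, 6, 5, 4, 3, 2], 2),
    (163, [0, 1, 3, 2, 4, 3, 1, 5, 4, 3, 2, 6, 5, 4, 3, 1, 7, 6, 5, 4, 3], 2),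
    (164, [0, 1, 3, 2, 4, 3, 1, 5, 4, 3, 2, 6, 5, 4, 3, 1, 7, 6, 5, 4], 2),
    (165, [0, 1, 3, 2, 4, 3, 1, 5, 4, 3, 2, 6, 5, 4, 3, 1, 7, 6, 5], 2),
    (166, [0, 1, 3, 2, 4, 3, 1, 5, 4, 3, 2, 6, 5, 4, 3, 1, 7, 6], 2),
    (167, [0, 1, 3, 2, 4, 3, 1, 5, 4, 3, 2, 6, 5, 4, 3, 1, 7], 2),
    (169, [0, 1, 3, 2, 4, 3, 1, 5, 4, 3, 2, 6, 5, 4, 3, 7, 6, 5, 4], 2),
    (170, [0, 1, 3, 2, 4, 3, 1, 5, 4, 3, 2, 6, 5, 4, 3, 7, 6, 5], 2),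
    (171, [0, 1, 3, 2, 4, 3, 1, 5, 4, 3, 2, 6, 5, 4, 3, 7, 6], 2),
    (172, [0, 1, 3, 2, 4, 3, 1, 5, 4, 3, 2, 6, 5, 4, 3, 7], 2),
    (174, [0, 1, 3, 2, 4, 3, 1, 5, 4, 3, 2, 6, 5, 4, 7, 6, 5], 2),
    (175, [0, 1, 3, 2, 4, 3, 1, 5, 4, 3, 2, 6, 5, 4, 7, 6], 2),
    (176, [0, 1, 3, 2, 4, 3, 1, 5, 4, 3, 2, 6, 5, 4, 7], 2),
    (178, [0, 1, 3, 2, 4, 3, 1, 5, 4, 3, 2, 6, 5, 7, 6], 2),
    (179, [0, 1, 3, 2, 4, 3, 1, 5, 4, 3, 2, 6, 5, 7], 2),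
    (181, [0, 1, 3, 2, 4, 3, 1, 5, 4, 3, 2, 6, 7], 2),
    (184, [0, 1, 3, 2, 4, 3, 1, 5, 4, 3, 6, 5, 4, 7, 6, 5], 2),
    (185, [0, 1, 3, 2, 4, 3, 1, 5, 4, 3, 6, 5, 4, 7, 6], 2),
    (186, [0, 1, 3, 2, 4, 3, 1, 5, 4, 3, 6, 5, 4, 7], 2),
    (188, [0, 1, 3, 2, 4, 3, 1, 5, 4, 3, 6, 5, 7, 6], 2),
    (189, [0, 1, 3, 2, 4, 3, 1, 5, 4, 3, 6, 5, 7], 2),
    (191, [0, 1, 3, 2, 4, 3, 1, 5, 4, 3, 6, 7], 2),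
    (194, [0, 1, 3, 2, 4, 3, 1, 5, 4, 6, 5, 7, 6], 2),
    (195, [0, 1, 3, 2, 4, 3, 1, 5, 4, 6, 5, 7], 2),
    (197, [0, 1, 3, 2, 4, 3, 1, 5, 4, 6, 7], 2),
    (200, [0, 1, 3, 2, 4, 3, 1, 5, 6, 7], 2),
    (204, [0, 1, 3, 2, 4, 3, 5, 4, 6, 5, 7, 6], 2),
    (205, [0, 1, 3, 2, 4, 3, 5, 4, 6, 5, 7], 2),
    (207, [0, 1, 3, 2, 4, 3, 5, 4, 6, 7], 2),
    (210, [0, 1, 3, 2, 4, 3, 5, 6, 7], 2),
    (214, [0, 1, 3, 2, 4, 5, 6, 7], 2),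
    (219, [0, 1, 3, 4, 5, 6, 7], 2),
    (226, [1, 3, 4, 5, 6, 7], 2)],
  [(120, [0, 2, 3, 1, 4, 3, 2, 0, 6, 5, 4, 3, 1, 2, 3, 4, 5, 6], 3),
    (121, [0, 2, 3, 1, 4, 3, 2, 0, 6, 5, 4, 3, 1, 2, 3, 4, 5, 7], 3),
    (122, [0, 2, 3, 1, 4, 3, 2, 0, 6, 5, 4, 3, 1, 2, 3, 4, 5], 3),
    (123, [0, 2, 3, 1, 4, 3, 2, 0, 6, 5, 4, 3, 1, 2, 3, 4, 7, 6], 3),
    (124, [0, 2, 3, 1, 4, 3, 2, 0, 6, 5, 4, 3, 1, 2, 3, 4, 7], 3),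
    (125, [0, 2, 3, 1, 4, 3, 2, 0, 6, 5, 4, 3, 1, 2, 3, 4], 3),
    (126, [0, 2, 3, 1, 4, 3, 2, 0, 6, 5, 4, 3, 1, 2, 3, 7, 6, 5], 3),
    (127, [0, 2, 3, 1, 4, 3, 2, 0, 6, 5, 4, 3, 1, 2, 3, 7, 6], 3),
    (128, [0, 2, 3, 1, 4, 3, 2, 0, 6, 5, 4, 3, 1, 2, 3, 7], 3),
    (129, [0, 2, 3, 1, 4, 3, 2, 0, 6, 5, 4, 3, 1, 2, 3], 3),
    (130, [0, 2, 3, 1, 4, 3, 2, 0, 6, 5, 4, 3, 1, 2, 7, 6, 5, 4], 3),
    (131, [0, 2, 3, 1, 4, 3, 2, 0, 6, 5, 4, 3, 1, 2, 7, 6, 5], 3),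
    (132, [0, 2, 3, 1, 4, 3, 2, 0, 6, 5, 4, 3, 1, 2, 7, 6], 3),
    (133, [0, 2, 3, 1, 4, 3, 2, 0, 6, 5, 4, 3, 1, 2, 7], 3),
    (134, [0, 2, 3, 1, 4, 3, 2, 0, 6, 5, 4, 3, 1, 2], 3),
    (147, [0, 2, 3, 1, 4, 3, 2, 0, 6, 5, 4, 3, 7, 6, 5, 4], 3),
    (148, [0, 2, 3, 1, 4, 3, 2, 0, 6, 5, 4, 3, 7, 6, 5], 3),
    (149, [0, 2, 3, 1, 4, 3, 2, 0, 6, 5, 4, 3, 7, 6], 3),
    (150, [0, 2, 3, 1, 4, 3, 2, 0, 6, 5, 4, 3, 7], 3),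
    (151, [0, 2, 3, 1, 4, 3, 2, 0, 6, 5, 4, 3], 3),
    (152, [0, 2, 3, 1, 4, 3, 2, 0, 6, 5, 4, 7, 6, 5], 3),
    (153, [0, 2, 3, 1, 4, 3, 2, 0, 6, 5, 4, 7, 6], 3),
    (154, [0, 2, 3, 1, 4, 3, 2, 0, 6, 5, 4, 7], 3),
    (155, [0, 2, 3, 1, 4, 3, 2, 0, 6, 5, 4], 3),
    (156, [0, 2, 3, 1, 4, 3, 2, 0, 6, 5, 7, 6], 3),
    (157, [0, 2, 3, 1, 4, 3, 2, 0, 6, 5, 7], 3),
    (158, [0, 2, 3, 1, 4, 3, 2, 0, 6, 5], 3),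
    (159, [0, 2, 3, 1, 4, 3, 2, 0, 6, 7], 3),
    (160, [0, 2, 3, 1, 4, 3, 2, 0, 6], 3),
    (161, [0, 2, 3, 1, 4, 3, 2, 0], 3)],
  [(120, [], 5),
    (130, [0, 2, 3, 1, 4, 3, 2, 0, 5, 4, 3, 1, 2, 6, 5, 4], 4),
    (137, [0, 2, 3, 1, 4, 3, 2, 0, 5, 4, 3, 1, 6, 5], 4),
    (141, [0, 2, 3, 1, 4, 3, 2, 0, 5, 4, 3, 2, 6, 5, 4, 3], 4),
    (142, [0, 2, 3, 1, 4, 3, 2, 0, 5, 4, 3, 2, 6, 5, 4], 4),
    (148, [0, 2, 3, 1, 4, 3, 2, 0, 5, 4, 3, 6, 5], 4),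
    (152, [0, 2, 3, 1, 4, 3, 2, 0, 5, 4, 6, 5], 4),
    (166, [0, 2, 3, 1, 4, 3, 2, 5, 4, 3, 1, 6], 4),
    (171, [0, 2, 3, 1, 4, 3, 2, 5, 4, 3, 6], 4),
    (175, [0, 2, 3, 1, 4, 3, 2, 5, 4, 6], 4),
    (188, [0, 2, 3, 1, 4, 3, 5, 6], 4),
    (194, [0, 2, 3, 1, 4, 5, 6], 4),
    (204, [0, 2, 3, 4, 5, 6], 4)],
  [(126, [0, 2, 3, 7, 6, 5], 6),
    (132, [0, 2, 7, 6], 6),
    (139, [0, 7], 6),
    (168, [], 6)],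
  [(130, [0, 2, 3, 1, 4, 3, 2, 0, 5, 4, 3, 1, 2, 6, 5, 4], 6),
    (137, [0, 2, 3, 1, 4, 3, 2, 0, 5, 4, 3, 1, 6, 5], 6),
    (141, [0, 2, 3, 1, 4, 3, 2, 0, 5, 4, 3, 2, 6, 5, 4, 3], 6),
    (142, [0, 2, 3, 1, 4, 3, 2, 0, 5, 4, 3, 2, 6, 5, 4], 6),
    (148, [0, 2, 3, 1, 4, 3, 2, 0, 5, 4, 3, 6, 5], 6),
    (152, [0, 2, 3, 1, 4, 3, 2, 0, 5, 4, 6, 5], 6),
    (166, [0, 2, 3, 1, 4, 3, 2, 5, 4, 3, 1, 6], 6),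
    (171, [0, 2, 3, 1, 4, 3, 2, 5, 4, 3, 6], 6),
    (175, [0, 2, 3, 1, 4, 3, 2, 5, 4, 6], 6),
    (188, [0, 2, 3, 1, 4, 3, 5, 6], 6),
    (194, [0, 2, 3, 1, 4, 5, 6], 6),
    (204, [0, 2, 3, 4, 5, 6], 6)],
  [(126, [2, 3, 6, 5], 7),
    (132, [2, 6], 7),
    (139, [], 7)],
  [(126, [3, 5], 8),
    (132, [], 8)],
  [(126, [], 9)],
  []]

/-- representatives of the classes -/
def ys : List (List ℕ) := [[239], [232, 233], [228, 222, 218], [226, 220, 213, 216]]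

/-- fusion -/
def fus : List (ℕ × List ℕ) := [
  (0, []),
  (0, []),
  (1, []),
  (2, []),
  (3, []),
  (2, [121, 118, 121, 162, 77, 162, 135, 104, 135, 130, 109, 130, 126, 113, 126, 123, 116, 123, 141, 98, 141, 130, 109, 130, 126, 113, 126, 135, 104, 135, 130, 109, 130, 162, 77, 162, 135, 104, 135, 141, 98, 141, 130, 109, 130, 126, 113, 126, 123, 116, 123, 121, 118, 121, 162, 77, 162, 135, 104, 135, 130, 109, 130, 126, 113, 126, 141, 98, 141, 130, 109, 130, 135, 104, 135, 162, 77, 162, 79, 120, 218, 222, 79]),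
  (3, [135, 104, 135, 141, 98, 141, 130, 109, 130, 126, 113, 126, 123, 116, 123, 135, 104, 135, 141, 98, 141, 130, 109, 130, 126, 113, 126, 135, 104, 135, 141, 98, 141, 130, 109, 130, 135, 104, 135, 141, 98, 141, 56, 168, 216, 213, 56]),
  (3, [141, 98, 141, 130, 109, 130, 126, 113, 126, 123, 116, 123, 121, 118, 121, 135, 104, 135, 130, 109, 130, 162, 77, 162, 135, 104, 135, 141, 98, 141, 130, 109, 130, 126, 113, 126, 123, 116, 123, 135, 104, 135, 141, 98, 141, 130, 109, 130, 126, 113, 126, 162, 77, 162, 135, 104, 135, 130, 109, 130, 141, 98, 141, 162, 77, 162, 43, 220, 168, 216, 43, 99, 139, 168, 220, 99]),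
  (3, [141, 98, 141, 130, 109, 130, 126, 113, 126, 135, 104, 135, 130, 109, 130, 162, 77, 162, 135, 104, 135, 141, 98, 141, 130, 109, 130, 126, 113, 126, 123, 116, 123, 121, 118, 121, 126, 113, 126, 130, 109, 130, 135, 104, 135, 141, 98, 141, 130, 109, 130, 126, 113, 126, 162, 77, 162, 135, 104, 135, 130, 109, 130, 162, 77, 162, 135, 104, 135, 141, 98, 141, 57, 213, 168, 132, 57, 47, 220, 213, 168, 47, 79, 132, 213, 220, 79]),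
  (3, [141, 98, 141, 130, 109, 130, 126, 113, 126, 123, 116, 123, 121, 118, 121, 120, 119, 120, 135, 104, 135, 130, 109, 130, 126, 113, 126, 123, 116, 123, 121, 118, 121, 123, 116, 123, 126, 113, 126, 130, 109, 130, 162, 77, 162, 135, 104, 135, 141, 98, 141, 130, 109, 130, 126, 113, 126, 123, 116, 123, 135, 104, 135, 141, 98, 141, 130, 109, 130, 126, 113, 126, 135, 104, 135, 130, 109, 130, 162, 77, 162, 135, 104, 135, 141, 98, 141, 130, 109, 130, 141, 98, 141, 162, 77, 162, 111, 213, 139, 126, 111, 46, 168, 139, 213, 46, 142, 126, 139, 168, 142, 79, 132, 213, 220, 79])]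

/-- row operations -/
def ops0 : List (ℕ × List ℕ) := [(1, [4, 6, 247])]

/-- pivots -/
def piv0 : List (ℕ × ℕ) := [(1, 8), (128, 9), (130, 10), (133, 11), (137, 12), (142, 13), (148, 14), (154, 15), (159, 16), (163, 17), (166, 18), (168, 19), (169, 20), (176, 22), (181, 23), (185, 24), (188, 25), (190, 26), (191, 27), (195, 29), (198, 30), (200, 31), (201, 32), (204, 34), (206, 35), (207, 36), (209, 38), (210, 39), (211, 41), (214, 44), (216, 45), (217, 46), (219, 48), (220, 49), (221, 51), (223, 54), (224, 55), (225, 57), (226, 60), (228, 64), (229, 65), (230, 67), (231, 70), (232, 74), (233, 79), (235, 86), (236, 87), (237, 89), (238, 92), (239, 96), (240, 101), (241, 107), (242, 113), (243, 118), (244, 122), (245, 125), (246, 127), (247, 7)]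

/-- row operations -/
def ops1 : List (ℕ × List ℕ) := [(1, [2, 3, 5, 7, 241]), (3, [5, 7, 240]), (101, [107, 234]), (102, [108, 235]), (103, [109, 236]), (104, [110, 237]), (105, [111, 238]), (106, [112, 239]), (143, [149, 242]), (144, [150, 243]), (145, [151, 244]), (146, [152, 245]), (147, [153, 246]), (148, [154, 247]), (240, [241])]

/-- pivots -/
def piv1 : List (ℕ × ℕ) := [(1, 14), (3, 15), (101, 8), (102, 9), (103, 10), (104, 11), (105, 12), (106, 13), (143, 16), (144, 17), (145, 18), (146, 19), (147, 20), (148, 21), (170, 22), (171, 23), (172, 24), (173, 25), (174, 26), (175, 27), (176, 28), (177, 29), (178, 30), (179, 31), (180, 32), (181, 33), (182, 34), (183, 35), (184, 36), (185, 37), (186, 38), (187, 39), (188, 40), (189, 41), (190, 42), (191, 43), (192, 44), (193, 45), (194, 46),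 (195, 47), (196, 48), (197, 49), (198, 50), (199, 51), (200, 52), (201, 53), (202, 54), (203, 55), (204, 56), (205, 57), (206, 58), (207, 59), (208, 60), (209, 61), (210, 62), (211, 63), (212, 64), (213, 65), (214, 66), (215, 67), (216, 68), (217, 69), (218, 70), (219, 71), (220, 72), (221, 73), (222, 74), (223, 75), (224, 76), (225, 77), (226, 78), (227, 79), (228, 80), (229, 81), (230, 82), (231, 83), (232, 84), (233, 85), (234, 101), (235, 102), (236, 103), (237, 104), (238, 105), (239, 106), (240, 1), (241, 0), (242, 143), (243, 144), (244, 145), (245, 146), (246, 147), (247, 148)]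

/-- row operations -/
def ops2 : List (ℕ × List ℕ) := [(0, [2, 4, 5, 7, 230]), (2, [4, 7, 236]), (7, [0, 2, 226, 230, 236]), (60, [67, 87, 167, 187, 194, 246]), (61, [68, 88, 168, 188, 195, 247]), (62, [69, 169]), (63, [91, 191]), (73, [94, 201]), (77, [98, 207]), (78, [103, 210]), (82, [109, 217]), (83, [115, 220]), (84, [120, 224]), (85, [124, 229]), (100, [104, 211]), (111, [116, 221]), (112, [121, 225]), (131, [170, 237]), (134, [143, 231]), (135, [171, 238]), (139, [144, 232]), (140, [172, 239]), (146, [173, 240]), (151, [155, 233]), (152, [177, 241]), (157, [178, 242]), (161, [182, 243]), (164, [192, 244]), (167, [187, 246]), (168, [188, 247]), (186, [193, 245]), (187, [167, 194]), (188, [168, 195]), (226, [230]), (230, [236]), (246, [167, 187]), (247, [168, 188])]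

/-- pivots -/
def piv2 : List (ℕ × ℕ) := [(0, 25), (2, 19), (7, 29), (60, 8), (61, 9), (62, 10), (63, 11), (73, 12), (77, 13), (78, 14), (82, 15), (83, 16), (84, 17), (85, 18), (100, 22), (111, 23), (112, 24), (129, 20), (130, 21), (131, 26), (132, 27), (133, 28), (134, 30), (135, 31), (136, 32), (137, 33), (139, 34), (140, 35), (141, 36), (142, 37), (146, 38), (147, 39), (148, 40), (151, 44), (152, 45), (153, 46), (154, 47), (157, 48), (158, 49), (159, 50), (161, 54), (162, 55), (163, 56), (164, 64), (165, 65), (166, 66), (167, 60), (168, 61), (169, 62), (175, 41), (176, 42), (180, 51), (181, 52), (184, 57), (185, 58), (186, 86), (187, 67), (188, 68), (189, 89), (190, 90), (191, 63), (197, 70), (198, 71), (199, 92), (200, 93), (201, 73), (203, 74), (204, 75), (205, 96), (206, 97), (207, 77),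 (208, 101), (209, 102), (210, 78), (211, 100), (213, 79), (214, 80), (215, 107), (216, 108), (217, 82), (218, 113), (219, 114), (220, 83), (221, 111), (222, 118), (223, 119), (224, 84), (225, 112), (226, 2), (227, 122), (228, 123), (229, 85), (230, 0), (231, 134), (232, 139), (233, 151), (234, 125), (235, 126), (236, 6), (237, 131), (238, 135), (239, 140), (240, 146), (241, 152), (242, 157), (243, 161), (244, 164), (245, 186), (246, 87), (247, 88)]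

/-- row operations -/
def ops3 : List (ℕ × List ℕ) := [(0, [2, 4, 6, 7, 228]), (2, [4, 6, 234]), (3, [0, 2, 4, 5, 221, 228, 234]), (4, [0, 2, 224, 228, 234]), (51, [55, 64, 153, 157, 160, 233]), (52, [56, 86, 154, 179, 182, 241]), (53, [66, 87, 159, 180, 192, 242]), (59, [68, 89, 163, 184, 193, 243]), (62, [71, 92, 166, 187, 196, 244]), (63, [75, 96, 168, 189, 202, 245]), (73, [76, 101, 169, 199, 203, 246]), (80, [107, 212]), (81, [113, 213]), (82, [118, 215]), (83, [122, 218]), (84, [125, 222]), (85, [127, 227]), (95, [98, 102, 191, 200, 204, 247]), (109, [114, 214]), (110, [119, 216]), (111, [123, 219]), (112, [126, 223]), (116, [120, 217]), (117, [124, 220]), (128, [170, 235]), (129, [143, 229]), (130, [171, 236]), (131, [138, 225]), (132, [144, 230]), (133, [172, 237]), (135, [139, 226]),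 (136, [145, 231]), (137, [173, 238]), (141, [146, 232]), (142, [174, 239]), (148, [175, 240]), (153, [157, 233]), (154, [179, 241]), (157, [153, 160]), (159, [180, 242]), (163, [184, 243]), (166, [187, 244]), (168, [189, 245]), (169, [199, 246]), (179, [154, 182]), (180, [159, 192]), (184, [163, 193]), (187, [166, 196]), (189, [168, 202]), (191, [200, 247]), (199, [169, 203]), (200, [191, 204]), (224, [228]), (228, [234]), (233, [153, 157]), (234, [221, 224, 228]), (241, [154, 179]), (242, [159, 180]), (243, [163, 184]), (244, [166, 187]), (245, [168, 189]), (246, [169, 199]), (247, [191, 200])]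

/-- pivots -/
def piv3 : List (ℕ × ℕ) := [(0, 27), (2, 21), (3, 34), (4, 31), (51, 8), (52, 9), (53, 10), (59, 11), (62, 12), (63, 13), (73, 14), (80, 15), (81, 16), (82, 17), (83, 18), (84, 19), (85, 20), (95, 22), (109, 23), (110, 24), (111, 25), (112, 26), (116, 29), (117, 30), (128, 28), (129, 32), (130, 33), (131, 35), (132, 36), (133, 37), (135, 38), (136, 39), (137, 40), (141, 41), (142, 42), (148, 43), (149, 44), (150, 45), (151, 48), (152, 54), (153, 51), (154, 52), (155, 46), (156, 49), (157, 55), (158, 65), (159, 53), (161, 57), (162, 67), (163, 59), (164, 60), (165, 70), (166, 62), (167, 74), (168, 63), (169, 73), (177, 47), (178, 50), (179, 56), (180, 66), (181, 88), (183, 58), (184, 68), (185, 90), (186, 61), (187, 71), (188, 93), (189, 75), (190, 97), (191, 95), (194, 69), (195,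 91), (197, 72), (198, 94), (199, 76), (200, 98), (201, 103), (205, 77), (206, 99), (207, 104), (208, 78), (209, 100), (210, 105), (211, 106), (212, 80), (213, 81), (214, 109), (215, 82), (216, 110), (217, 116), (218, 83), (219, 111), (220, 117), (221, 1), (222, 84), (223, 112), (224, 2), (225, 131), (226, 135), (227, 85), (228, 0), (229, 129), (230, 132), (231, 136), (232, 141), (233, 64), (234, 3), (235, 128), (236, 130), (237, 133), (238, 137), (239, 142), (240, 148), (241, 86), (242, 87), (243, 89), (244, 92), (245, 96), (246, 101), (247, 102)]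

theorem sign : Data.E8.fast.eiSign = true := by decide +kernel

theorem cover : Data.E8.fast.eiCover reps tab = true := by decide +kernel

theorem fusion : allLt reps.length (fun k => (reps.getD k []).isEmpty ||
    (Nat.blt (fus.getD k (0, [])).1 ys.length &&
      ((fus.getD k (0, [])).2 ++ reps.getD k []).all (rootDiag Data.E8.fast) &&
      (ys.getD (fus.getD k (0, [])).1 [] ++ (fus.getD k (0, [])).2).all (rootDiag Data.E8.fast) &&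
      Nat.beq (evalW Data.E8.fast ((fus.getD k (0, [])).2 ++ reps.getD k []))
        (evalW Data.E8.fast (ys.getD (fus.getD k (0, [])).1 [] ++ (fus.getD k (0, [])).2)))) = true := by
  decide +kernel

theorem diag : ys.all (fun y => (y ++ y).all (rootDiag Data.E8.fast)) = true := by decide +kernel

theorem square : ys.all (fun y => Nat.beq (evalW Data.E8.fast (y ++ y)) (evalW Data.E8.fast [])) = true := by decide +kernel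

theorem rank0 : rankCert Data.E8.fast (ys.getD 0 []) ops0 piv0 = true := by decide +kernel

theorem rank1 : rankCert Data.E8.fast (ys.getD 1 []) ops1 piv1 = true := by decide +kernel

theorem rank2 : rankCert Data.E8.fast (ys.getD 2 []) ops2 piv2 = true := by decide +kernel

theorem rank3 : rankCert Data.E8.fast (ys.getD 3 []) ops3 piv3 = true := by decide +kernel

end Cfsg.Agent.Lib.EvenInvolutions.CertE8
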