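import Cfsg.Agent.Lib.EvenInvolutions.Classes
import Cfsg.Agent.Lib.ChevStructure.Cert.F4

/-! Tables and kernel certificates for the classes of involutions of type F4 in characteristic two. -/

set_option autoImplicit false
set_option maxRecDepth 100000

namespace Cfsg.Agent.Lib.EvenInvolutions.CertF4

open Cfsg.Agent.Lib.ChevStructure

/-- representatives of the involutions of W -/
def reps : List (List ℕ) := [[], [47], [44], [39, 45], [47, 41], [39, 45, 24], [47, 41, 30], [47, 41, 30, 25]]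

/-- absorption of orthogonal roots -/
def tab : List (List (ℕ × List ℕ × ℕ)) := [
  [(24, [3, 2, 1, 0, 2, 1, 2], 1),
    (25, [3, 2, 1, 0, 2, 1, 3], 1),
    (26, [3, 2, 1, 0, 2, 1], 1),
    (27, [0, 1, 2, 1, 0, 3, 2], 2),
    (28, [0, 1, 2, 1, 0, 3], 2),
    (29, [0, 1, 2, 1, 0], 2),
    (30, [3, 2, 1, 0, 2, 3], 1),
    (31, [3, 2, 1, 0, 2], 1),
    (32, [3, 2, 1, 0], 1),
    (33, [0, 1, 2, 1, 3, 2, 1], 2),
    (34, [0, 1, 2, 1, 3, 2], 2),
    (35, [0, 1, 2, 1, 3], 2),
    (36, [0, 1, 2, 1], 2),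
    (37, [0, 1, 2, 3], 2),
    (38, [0, 1, 2], 2),
    (39, [0, 1], 2),
    (40, [0], 2),
    (41, [3, 2, 1, 2, 3], 1),
    (42, [3, 2, 1, 2], 1),
    (43, [3, 2, 1], 1),
    (44, [], 2),
    (45, [3, 2], 1),
    (46, [3], 1),
    (47, [], 1)],
  [(25, [0, 1], 4),
    (27, [2, 1, 0, 3, 2], 3),
    (28, [2, 1, 0, 3], 3),
    (30, [0], 4),
    (33, [2, 1, 3, 2, 1], 3),
    (34, [2, 1, 3, 2], 3),
    (35, [2, 1, 3], 3),
    (37, [2, 3], 3),
    (41, [], 4)],
  [(24, [1, 0, 2, 1, 2], 3),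
    (25, [1, 0, 2, 1, 3], 3),
    (26, [1, 0, 2, 1], 3),
    (27, [3, 2], 4),
    (28, [3], 4),
    (29, [], 4),
    (30, [1, 0, 2, 3], 3),
    (31, [1, 0, 2], 3),
    (32, [1, 0], 3)],
  [(24, [], 5),
    (33, [3, 2], 6)],
  [(25, [1], 6),
    (27, [1, 0, 2], 5),
    (28, [1, 0], 5),
    (30, [], 6)],
  [(33, [], 7)],
  [(25, [], 7)],
  []]

/-- representatives of the classes -/
def ys : List (List ℕ) := [[47], [44], [47, 44], [39, 45]]

/-- fusion -/
def fus : List (ℕ × List ℕ) := [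
  (0, []),
  (0, []),
  (1, []),
  (3, []),
  (2, [23, 22, 20, 22, 23, 25, 24]),
  (3, [22, 20, 14, 22, 20, 14, 22, 20, 25, 24, 33, 27, 25]),
  (3, [27, 33, 27, 25, 24, 20, 22, 23, 14, 25, 24]),
  (3, [25, 20, 14, 22, 20, 14, 33, 22, 20, 22, 23, 24, 27, 33])]

/-- row operations -/
def ops0 : List (ℕ × List ℕ) := [(0, [2, 51])]

/-- pivots -/
def piv0 : List (ℕ × ℕ) := [(0, 4), (28, 5), (30, 6), (33, 7), (35, 8), (36, 9), (40, 11), (42, 12), (43, 13), (44, 15), (46, 19), (47, 20), (48, 22), (49, 25), (50, 27), (51, 3)]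

/-- row operations -/
def ops1 : List (ℕ × List ℕ) := [(1, [48]), (22, [45]), (23, [46]), (24, [47]), (31, [49]), (32, [50]), (33, [51])]

/-- pivots -/
def piv1 : List (ℕ × ℕ) := [(1, 7), (22, 4), (23, 5), (24, 6), (31, 8), (32, 9), (33, 10), (37, 11), (38, 12), (39, 13), (40, 14), (41, 15), (42, 16), (43, 17), (44, 18), (48, 0)]

/-- row operations -/
def ops2 : List (ℕ × List ℕ) := [(0, [2, 22, 45, 48, 51]), (1, [33, 48]), (23, [28, 46]), (24, [30, 47]), (31, [35, 49]), (32, [36, 50]), (33, [51]), (37, [40]), (38, [42]), (39, [43]), (41, [44])]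

/-- pivots -/
def piv2 : List (ℕ × ℕ) := [(0, 4), (1, 7), (23, 5), (24, 6), (31, 8), (32, 9), (33, 10), (37, 11), (38, 12), (39, 13), (40, 14), (41, 15), (42, 16), (43, 17), (44, 18), (46, 19), (47, 20), (48, 0), (49, 25), (50, 27), (51, 3)]

/-- row operations -/
def ops3 : List (ℕ × List ℕ) := [(0, [3, 49]), (3, [0, 43, 49]), (13, [25, 29, 41, 50]), (14, [26, 30, 42, 51]), (17, [31, 44]), (18, [36]), (24, [38, 48]), (37, [47]), (49, [43]), (50, [41]), (51, [42])]

/-- pivots -/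
def piv3 : List (ℕ × ℕ) := [(0, 6), (3, 12), (13, 4), (14, 5), (17, 7), (18, 8), (24, 11), (32, 15), (33, 16), (34, 9), (35, 10), (37, 19), (39, 22), (40, 23), (41, 13), (42, 14), (43, 1), (44, 17), (45, 20), (46, 21), (48, 24), (49, 2), (50, 25), (51, 26)]

theorem sign : Data.F4.fast.eiSign = true := by decide +kernel

theorem cover : Data.F4.fast.eiCover reps tab = true := by decide +kernel

theorem fusion : allLt reps.length (fun k => (reps.getD k []).isEmpty ||
    (Nat.blt (fus.getD k (0, [])).1 ys.length &&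
      ((fus.getD k (0, [])).2 ++ reps.getD k []).all (rootDiag Data.F4.fast) &&
      (ys.getD (fus.getD k (0, [])).1 [] ++ (fus.getD k (0, [])).2).all (rootDiag Data.F4.fast) &&
      Nat.beq (evalW Data.F4.fast ((fus.getD k (0, [])).2 ++ reps.getD k []))
        (evalW Data.F4.fast (ys.getD (fus.getD k (0, [])).1 [] ++ (fus.getD k (0, [])).2)))) = true := by
  decide +kernel

theorem diag : ys.all (fun y => (y ++ y).all (rootDiag Data.F4.fast)) = true := by decide +kernel

theorem square : ys.all (fun y => Nat.beq (evalW Data.F4.fast (y ++ y)) (evalW Data.F4.fast [])) = true := by decide +kernel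

theorem rank0 : rankCert Data.F4.fast (ys.getD 0 []) ops0 piv0 = true := by decide +kernel

theorem rank1 : rankCert Data.F4.fast (ys.getD 1 []) ops1 piv1 = true := by decide +kernel

theorem rank2 : rankCert Data.F4.fast (ys.getD 2 []) ops2 piv2 = true := by decide +kernel

theorem rank3 : rankCert Data.F4.fast (ys.getD 3 []) ops3 piv3 = true := by decide +kernel

theorem top : Data.F4.fast.eiTop 47 = true := by decide +kernel

end Cfsg.Agent.Lib.EvenInvolutions.CertF4
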