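import Cfsg.Agent.Lib.EvenInvolutions.Classes
import Cfsg.Agent.Lib.ChevStructure.Cert.G2

/-! Tables and kernel certificates for the classes of involutions of type G2 in characteristic two. -/

set_option autoImplicit false
set_option maxRecDepth 100000

namespace Cfsg.Agent.Lib.EvenInvolutions.CertG2

open Cfsg.Agent.Lib.ChevStructure

/-- representatives of the involutions of W -/
def reps : List (List ℕ) := [[], [11], [9], [11, 7]]

/-- absorption of orthogonal roots -/
def tab : List (List (ℕ × List ℕ × ℕ)) := [
  [(6, [1, 0], 1),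
    (7, [0, 1], 2),
    (8, [0], 2),
    (9, [], 2),
    (10, [1], 1),
    (11, [], 1)],
  [(7, [], 3)],
  [(6, [], 3)],
  []]

/-- representatives of the classes -/
def ys : List (List ℕ) := [[11], [9]]

/-- fusion -/
def fus : List (ℕ × List ℕ) := [
  (0, []),
  (0, []),
  (1, []),
  (1, [7, 4, 5, 6])]

/-- row operations -/
def ops0 : List (ℕ × List ℕ) := [(0, [13])]

/-- pivots -/
def piv0 : List (ℕ × ℕ) := [(0, 2), (8, 3), (10, 4), (11, 5), (12, 7), (13, 1)]

/-- row operations -/
def ops1 : List (ℕ × List ℕ) := [(1, [11]), (5, [9, 12]), (6, [10, 13])]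

/-- pivots -/
def piv1 : List (ℕ × ℕ) := [(1, 4), (5, 2), (6, 3), (11, 0), (12, 5), (13, 6)]

theorem sign : Data.G2.fast.eiSign = true := by decide +kernel

theorem cover : Data.G2.fast.eiCover reps tab = true := by decide +kernel

theorem fusion : allLt reps.length (fun k => (reps.getD k []).isEmpty ||
    (Nat.blt (fus.getD k (0, [])).1 ys.length &&
      ((fus.getD k (0, [])).2 ++ reps.getD k []).all (rootDiag Data.G2.fast) &&
      (ys.getD (fus.getD k (0, [])).1 [] ++ (fus.getD k (0, [])).2).all (rootDiag Data.G2.fast) &&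
      Nat.beq (evalW Data.G2.fast ((fus.getD k (0, [])).2 ++ reps.getD k []))
        (evalW Data.G2.fast (ys.getD (fus.getD k (0, [])).1 [] ++ (fus.getD k (0, [])).2)))) = true := by
  decide +kernel

theorem diag : ys.all (fun y => (y ++ y).all (rootDiag Data.G2.fast)) = true := by decide +kernel

theorem square : ys.all (fun y => Nat.beq (evalW Data.G2.fast (y ++ y)) (evalW Data.G2.fast [])) = true := by decide +kernel

theorem rank0 : rankCert Data.G2.fast (ys.getD 0 []) ops0 piv0 = true := by decide +kernel

theorem rank1 : rankCert Data.G2.fast (ys.getD 1 []) ops1 piv1 = true := by decide +kernel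

theorem top : Data.G2.fast.eiTop 11 = true := by decide +kernel

end Cfsg.Agent.Lib.EvenInvolutions.CertG2
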