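import Cfsg.Agent.Lib.EvenInvolutions.TwClasses
import Cfsg.Agent.Lib.ChevStructure.Cert.E6

/-! Tables and kernel certificates for the classes of involutions of type ²E6 in characteristic two. -/

set_option autoImplicit false
set_option maxRecDepth 100000

namespace Cfsg.Agent.Lib.EvenInvolutions.CertTwE6

open Cfsg.Agent.Lib.ChevStructure

/-- the symmetry on the roots -/
def pi : List ℕ := [0, 1, 2, 5, 16, 3, 6, 17, 8, 19, 22, 11, 26, 30, 33, 35, 4, 7, 18, 9, 20, 23, 10, 21, 24, 25, 12, 27, 31, 34, 13, 28, 32, 14, 29, 15, 56, 42, 57, 39, 43, 58, 37, 40, 44, 59, 46, 47, 50, 61, 48, 51, 62, 53, 64, 67, 36, 38, 41, 45, 60, 49, 52, 63, 54, 65, 68, 55, 66, 69, 70, 71]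

/-- the orbits of nodes -/
def Js : List (List ℕ) := [[1], [3], [2, 4], [0, 5]]

/-- the orbit of a node -/
def ix : List ℕ := [3, 0, 2, 1, 2, 3]

/-- representatives of the involutions of the twisted Weyl group -/
def reps : List (List ℕ) := [[], [71], [68, 66], [71, 60], [71, 59, 45], [71, 60, 44], [71, 60, 43, 40], [71, 60, 44, 39]]

/-- absorption of commuting orbits -/
def tab : List (List (ℕ × List ℕ × ℕ)) := [
  [(36, [3, 2, 1, 0, 2, 1, 2], 2),
    (37, [3, 2, 1, 0, 2, 1, 3], 2),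
    (38, [3, 2, 1, 0, 2, 1], 2),
    (39, [0, 1, 2, 1, 0, 3, 2], 1),
    (40, [3, 2, 1, 0, 2, 3], 2),
    (41, [3, 2, 1, 0, 2], 2),
    (42, [3, 2, 1, 0, 2, 1, 3], 2),
    (43, [3, 2, 1, 0, 2, 3], 2),
    (44, [0, 1, 2, 1, 0, 3], 1),
    (45, [3, 2, 1, 0], 2),
    (46, [0, 1, 2, 1, 3, 2, 1], 1),
    (47, [0, 1, 2, 1, 3, 2], 1),
    (48, [3, 2, 1, 2, 3], 2),
    (49, [3, 2, 1, 2], 2),
    (50, [3, 2, 1, 2, 3], 2),
    (51, [0, 1, 2, 1, 3], 1),
    (52, [3, 2, 1], 2),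
    (53, [0, 1, 2, 3], 1),
    (54, [3, 2], 2),
    (55, [3], 2),
    (56, [3, 2, 1, 0, 2, 1, 2], 2),
    (57, [3, 2, 1, 0, 2, 1], 2),
    (58, [3, 2, 1, 0, 2], 2),
    (59, [3, 2, 1, 0], 2),
    (60, [0, 1, 2, 1, 0], 1),
    (61, [3, 2, 1, 2], 2),
    (62, [3, 2, 1], 2),
    (63, [0, 1, 2, 1], 1),
    (64, [3, 2], 2),
    (65, [0, 1, 2], 1),
    (66, [], 2),
    (67, [3], 2),
    (68, [], 2),
    (69, [0, 1], 1),
    (70, [0], 1),
    (71, [], 1)],
  [(36, [2, 1, 2], 4),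
    (37, [2, 1, 3], 4),
    (38, [2, 1], 4),
    (39, [3, 2], 3),
    (40, [2, 3], 4),
    (41, [2], 4),
    (42, [2, 1, 3], 4),
    (43, [2, 3], 4),
    (44, [3], 3),
    (45, [], 4),
    (56, [2, 1, 2], 4),
    (57, [2, 1], 4),
    (58, [2], 4),
    (59, [], 4),
    (60, [], 3),
    (71, [], 0)],
  [(37, [0, 1], 3),
    (39, [0, 1, 2, 1, 0, 3, 2], 4),
    (40, [0], 3),
    (42, [0, 1], 3),
    (43, [0], 3),
    (44, [0, 1, 2, 1, 0, 3], 4),
    (46, [0, 1, 2, 1, 3, 2, 1], 4),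
    (47, [0, 1, 2, 1, 3, 2], 4),
    (48, [], 3),
    (50, [], 3),
    (51, [0, 1, 2, 1, 3], 4),
    (53, [0, 1, 2, 3], 4),
    (66, [], 0),
    (68, [], 0)],
  [(37, [1], 6),
    (39, [2], 5),
    (40, [], 6),
    (42, [1], 6),
    (43, [], 6),
    (44, [], 5),
    (48, [], 2),
    (50, [], 2),
    (60, [], 1),
    (66, [3, 2, 1, 2, 3], 2),
    (68, [3, 2, 1, 2, 3], 2),
    (71, [0, 1, 2, 1, 0], 1)],
  [(36, [], 5),
    (39, [3, 2], 6),
    (45, [], 1),
    (56, [], 5),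
    (59, [], 1),
    (71, [3, 2, 1, 0], 2)],
  [(36, [], 4),
    (39, [], 7),
    (44, [], 3),
    (45, [2, 1, 2], 4),
    (48, [0, 1, 2, 1, 0, 3], 4),
    (49, [0, 1, 2, 1, 0], 4),
    (50, [0, 1, 2, 1, 0, 3], 4),
    (55, [0, 1, 2, 1, 0, 2, 1, 2], 4),
    (56, [], 4),
    (59, [2, 1, 2], 4),
    (60, [3], 3),
    (61, [0, 1, 2, 1, 0], 4),
    (66, [0, 1, 2, 1, 0, 2, 1, 2, 3], 4),
    (67, [0, 1, 2, 1, 0, 2, 1, 2], 4),
    (68, [0, 1, 2, 1, 0, 2, 1, 2, 3], 4),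
    (71, [0, 1, 3, 2, 1, 0], 3)],
  [(37, [], 7),
    (40, [], 3),
    (42, [], 7),
    (43, [], 3),
    (46, [0, 1, 2, 3], 4),
    (48, [0], 3),
    (50, [0], 3),
    (53, [0, 1, 2, 1, 3, 2, 1], 4),
    (60, [2, 3], 4),
    (63, [0, 2, 3], 4),
    (66, [0, 3, 2, 1, 2, 3], 3),
    (68, [0, 3, 2, 1, 2, 3], 3),
    (70, [0, 2, 1, 3, 2, 1], 4),
    (71, [0, 2, 1, 3, 2, 1, 0], 4)],
  [(36, [3, 2], 6),
    (37, [], 6),
    (38, [3], 6),
    (39, [], 5),
    (40, [1], 6),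
    (41, [1, 3], 6),
    (42, [], 6),
    (43, [1], 6),
    (44, [2], 5),
    (45, [1, 3, 2], 6),
    (46, [0, 1], 5),
    (47, [0], 5),
    (48, [1, 0], 6),
    (49, [1, 0, 3], 6),
    (50, [1, 0], 6),
    (51, [0, 2], 5),
    (52, [1, 0, 3, 2], 6),
    (53, [0, 2, 1], 5),
    (54, [1, 0, 3, 2, 1], 6),
    (55, [1, 0, 3, 2, 1, 2], 6),
    (56, [3, 2], 6),
    (57, [3], 6),
    (58, [1, 3], 6),
    (59, [1, 3, 2], 6),
    (60, [2, 3], 5),
    (61, [1, 0, 3], 6),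
    (62, [1, 0, 3, 2], 6),
    (63, [0, 2, 3], 5),
    (64, [1, 0, 3, 2, 1], 6),
    (65, [0, 2, 1, 3], 5),
    (66, [1, 0, 3, 2, 1, 2, 3], 6),
    (67, [1, 0, 3, 2, 1, 2], 6),
    (68, [1, 0, 3, 2, 1, 2, 3], 6),
    (69, [0, 2, 1, 3, 2], 5),
    (70, [0, 2, 1, 3, 2, 1], 5),
    (71, [0, 2, 1, 3, 2, 1, 0], 5)]]

/-- representatives of the classes -/
def ys : List (List ℕ) := [[71], [68, 66], [71, 59, 45]]

/-- fusion: target and word of blocks -/
def fus : List (ℕ × List (List ℕ)) := [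
  (0, []),
  (0, []),
  (1, []),
  (1, [[48, 50]]),
  (2, []),
  (2, [[10, 22], [48, 50], [36, 56]]),
  (2, [[14, 33], [21, 23], [25], [63], [38, 57]]),
  (2, [[29, 34], [10, 22], [51], [36, 56], [25], [14, 33]])]

/-- row operations -/
def ops0 : List (ℕ × List ℕ) := [(0, [3, 5, 77])]

/-- pivots -/
def piv0 : List (ℕ × ℕ) := [(0, 6), (52, 7), (53, 8), (54, 9), (55, 10), (56, 11), (57, 12), (58, 13), (59, 14), (60, 15), (61, 16), (67, 22), (68, 23), (69, 24), (70, 25), (71, 26), (72, 27), (73, 28), (74, 29), (75, 30), (76, 31), (77, 1)]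

/-- row operations -/
def ops1 : List (ℕ × List ℕ) := [(0, [1, 4, 5, 74]), (2, [0, 4, 72, 74]), (27, [29, 66]), (34, [37, 69]), (35, [40, 71]), (43, [48, 75]), (46, [49, 76]), (54, [56, 77]), (74, [72])]

/-- pivots -/
def piv1 : List (ℕ × ℕ) := [(0, 9), (2, 11), (27, 6), (34, 7), (35, 8), (42, 10), (43, 12), (44, 13), (46, 14), (47, 15), (51, 16), (54, 17), (55, 18), (58, 19), (60, 20), (61, 21), (62, 22), (63, 23), (64, 25), (65, 28), (66, 27), (67, 32), (68, 36), (69, 34), (70, 39), (71, 35), (72, 0), (73, 41), (74, 2), (75, 43), (76, 46), (77, 54)]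

/-- row operations -/
def ops2 : List (ℕ × List ℕ) := [(0, [3, 5, 77]), (2, [0, 4, 5, 65, 77]), (3, [0, 2, 51, 65, 77]), (13, [23, 30, 52, 58, 68, 75]), (15, [25, 31, 53, 60, 70, 76]), (16, [54, 61]), (21, [41, 50]), (27, [55, 72]), (28, [56, 73]), (29, [67, 74]), (30, [58, 75]), (31, [60, 76]), (42, [62, 66]), (51, [65]), (58, [30, 68]), (60, [31, 70]), (65, [51]), (77, [51])]

/-- pivots -/
def piv2 : List (ℕ × ℕ) := [(0, 6), (2, 18), (3, 32), (13, 7), (15, 8), (16, 9), (21, 17), (27, 10), (28, 11), (29, 22), (30, 13), (31, 15), (42, 33), (43, 19), (44, 34), (46, 20), (47, 35), (48, 36), (49, 39), (50, 21), (51, 0), (57, 12), (58, 23), (59, 14), (60, 25), (61, 16), (63, 37), (64, 40), (65, 2), (66, 42), (69, 24), (71, 26), (72, 27), (73, 28), (74, 29), (75, 30), (76, 31), (77, 1)]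

theorem sign : Data.E6.fast.etDown Js ix [1, 1, 1, 1, 1, 1] = true := by decide +kernel

theorem cover : Data.E6.fast.etCover Js pi reps tab = true := by decide +kernel

/-- the checks for one fusion -/
def fusOK (R y : List ℕ) (w : List (List ℕ)) : Bool :=
  w.all (Data.E6.fast.etBlock pi) && (w.flatten ++ R).all (rootDiag Data.E6.fast) &&
    (y ++ w.flatten).all (rootDiag Data.E6.fast) && Nat.beq (evalW Data.E6.fast (w.flatten ++ R)) (evalW Data.E6.fast (y ++ w.flatten))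

theorem fusion : allLt reps.length (fun k => Nat.beq k 0 || Nat.beq k 3 ||
    (Nat.blt (fus.getD k (0, [])).1 ys.length &&
      fusOK (reps.getD k []) (ys.getD (fus.getD k (0, [])).1 []) (fus.getD k (0, [])).2)) = true := by
  decide +kernel

theorem special : fusOK [71, 60] [60, 66, 68] [[48, 50]] = true := by decide +kernel

theorem free : [(23, 60), (23, 68), (21, 60), (21, 66), (60, 66), (60, 68), (23, 21), (66, 68)].all
    (fun e => Data.E6.fast.eiFree1 e.1 e.2) = true := by decide +kernel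

theorem blocks : ys.all (Data.E6.fast.etBlock pi) = true := by decide +kernel

theorem diag : ys.all (fun y => (y ++ y).all (rootDiag Data.E6.fast)) = true := by decide +kernel

theorem square : ys.all (fun y => Nat.beq (evalW Data.E6.fast (y ++ y)) (evalW Data.E6.fast [])) = true := by decide +kernel

theorem rank0 : rankCert Data.E6.fast (ys.getD 0 []) ops0 piv0 = true := by decide +kernel

theorem rank1 : rankCert Data.E6.fast (ys.getD 1 []) ops1 piv1 = true := by decide +kernel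

theorem rank2 : rankCert Data.E6.fast (ys.getD 2 []) ops2 piv2 = true := by decide +kernel

end Cfsg.Agent.Lib.EvenInvolutions.CertTwE6
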