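import Cfsg.Agent.Lib.EvenInvolutions.TwClasses
import Cfsg.Agent.Lib.ChevStructure.Cert.F4

/-! Tables and kernel certificates for the classes of involutions of type ²F4. -/

set_option autoImplicit false
set_option maxRecDepth 100000

namespace Cfsg.Agent.Lib.EvenInvolutions.CertTwF4

open Cfsg.Agent.Lib.ChevStructure

/-- the isogeny on the roots -/
def pi : List ℕ := [3, 7, 8, 0, 9, 11, 18, 1, 2, 4, 15, 5, 16, 21, 23, 10, 12, 19, 6, 17, 22, 13, 20, 14, 33, 27, 34, 25, 30, 41, 28, 35, 37, 24, 26, 31, 42, 32, 43, 45, 46, 29, 36, 38, 47, 39, 40, 44]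

/-- the orbit words -/
def Js : List (List ℕ) := [[0, 3], [2, 1, 2, 1]]

/-- the orbit of a node -/
def ix : List ℕ := [0, 1, 1, 0]

/-- the elements of the twisted Weyl group -/
def words : List (List ℕ) := [[], [0], [1], [0, 1], [1, 0], [0, 1, 0], [1, 0, 1], [0, 1, 0, 1], [1, 0, 1, 0], [0, 1, 0, 1, 0], [1, 0, 1, 0, 1], [0, 1, 0, 1, 0, 1], [1, 0, 1, 0, 1, 0], [0, 1, 0, 1, 0, 1, 0], [1, 0, 1, 0, 1, 0, 1], [0, 1, 0, 1, 0, 1, 0, 1]]

/-- the reflections of the orbits and the longest element -/
def targets : List (List ℕ) := [[0], [1], [0, 1, 0, 1, 0, 1, 0, 1]]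

/-- conjugators of the involutions to the targets -/
def conjT : List (List ℕ × ℕ) := [
  ([], 3),
  ([], 0),
  ([], 1),
  ([], 3),
  ([], 3),
  ([0], 1),
  ([1], 0),
  ([], 3),
  ([], 3),
  ([1, 0], 0),
  ([0, 1], 1),
  ([], 3),
  ([], 3),
  ([0, 1, 0], 1),
  ([1, 0, 1], 0),
  ([], 2)]

/-- the root words of the representatives of the reflections -/
def nWord : List (List ℕ) := [[33, 14, 33, 24, 23, 24], [25, 22, 25, 27, 20, 27, 25, 22, 25, 27, 20, 27]]

/-- the root word of a product of reflections -/
def wordN (W : List ℕ) : List ℕ := W.flatMap fun m => nWord.getD m []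

/-- the generators -/
def gens : List (List ℕ) := [[33, 24], [14, 23], [27, 25, 28], [28, 30], [20, 22, 19], [19, 17], [27, 25, 30], [20, 22, 17]]

/-- representatives of the classes -/
def ys : List (List ℕ) := [[28, 30], [33, 24]]

/-- fusion -/
def fus : List (ℕ × List (List ℕ)) := [
  (1, [[14, 23]]),
  (0, [[20, 22, 17]]),
  (1, [[27, 25, 30], [33, 24], [14, 23], [19, 17], [14, 23], [27, 25, 30], [33, 24], [14, 23], [20, 22, 19], [28, 30], [14, 23]])]

theorem down : Data.F4.fast.etDown Js ix [2, 1, 1, 3] = true := by decide +kernel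

/-- the permutations of two words agree -/
def sameW (U V : List ℕ) : Bool :=
  allLt Data.F4.fast.l fun i =>
    Nat.beq (Data.F4.fast.etWord Js U (Data.F4.fast.p i)) (Data.F4.fast.etWord Js V (Data.F4.fast.p i))

theorem closed : allLt words.length (fun k => allLt 2 fun m =>
    words.any fun V => sameW (words.getD k [] ++ [m]) V) = true := by decide +kernel

theorem bounded : (words.all fun W => W.all fun m => Nat.blt m 2) = true := by decide +kernel

theorem classesW : allLt words.length (fun k => Nat.beq k 0 ||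
    !sameW (words.getD k [] ++ words.getD k []) [] ||
    (Nat.blt (conjT.getD k ([], 0)).2 3 && (conjT.getD k ([], 0)).1.all (fun m => Nat.blt m 2) &&
      sameW ((conjT.getD k ([], 0)).1 ++ words.getD k [])
        (targets.getD (conjT.getD k ([], 0)).2 [] ++ (conjT.getD k ([], 0)).1))) = true := by decide +kernel

/-- the checks of one fusion -/
def fusOK (R y : List ℕ) (w : List (List ℕ)) : Bool :=
  w.all (fun B => gens.contains B) && (w.flatten ++ R).all (rootDiag Data.F4.fast) &&
    (y ++ w.flatten).all (rootDiag Data.F4.fast) &&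
    Nat.beq (evalW Data.F4.fast (w.flatten ++ R)) (evalW Data.F4.fast (y ++ w.flatten))

theorem fusion : allLt 3 (fun k => Nat.blt (fus.getD k (0, [])).1 2 &&
    fusOK (wordN (targets.getD k [])) (ys.getD (fus.getD k (0, [])).1 []) (fus.getD k (0, [])).2) = true := by
  decide +kernel

theorem diagN : (targets.all fun W => (wordN W ++ wordN W).all (rootDiag Data.F4.fast)) = true := by decide +kernel

theorem squareN : (targets.all fun W =>
    Nat.beq (evalW Data.F4.fast (wordN W ++ wordN W)) (evalW Data.F4.fast [])) = true := by decide +kernel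

theorem diag : ys.all (fun y => (y ++ y).all (rootDiag Data.F4.fast)) = true := by decide +kernel

theorem square : ys.all (fun y => Nat.beq (evalW Data.F4.fast (y ++ y)) (evalW Data.F4.fast [])) = true := by
  decide +kernel

/-- row operations -/
def ops0 : List (ℕ × List ℕ) := [(1, [2, 24, 29, 32, 34]), (2, [1, 24, 29, 31, 34]), (7, [8, 9]), (13, [15]), (17, [18]), (22, [25, 27]), (31, [34]), (33, [35, 36]), (34, [32]), (39, [41]), (43, [44]), (48, [49, 50])]

/-- pivots -/
def piv0 : List (ℕ × ℕ) := [(1, 21), (2, 23), (7, 5), (9, 6), (13, 11), (15, 12), (17, 14), (18, 16), (22, 19), (27, 20), (31, 26), (32, 0), (33, 28), (34, 3), (36, 30), (39, 37), (41, 38), (43, 40), (44, 42), (48, 46), (50, 47)]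

theorem rank0 : rankCert Data.F4.fast (ys.getD 0 []) ops0 piv0 = true := by decide +kernel

/-- row operations -/
def ops1 : List (ℕ × List ℕ) := [(0, [37]), (3, [28]), (10, [13, 14, 20, 21]), (12, [19]), (14, [21]), (16, [22, 23]), (21, [14]), (33, [39, 40]), (35, [41, 42, 45, 46]), (42, [46]), (43, [47]), (46, [42])]

/-- pivots -/
def piv1 : List (ℕ × ℕ) := [(0, 18), (3, 27), (5, 4), (10, 9), (11, 7), (12, 8), (14, 10), (16, 15), (21, 13), (23, 16), (24, 17), (26, 25), (28, 2), (30, 29), (33, 32), (35, 34), (37, 1), (38, 31), (40, 33), (42, 35), (43, 36), (46, 41), (48, 44), (51, 50)]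

theorem rank1 : rankCert Data.F4.fast (ys.getD 1 []) ops1 piv1 = true := by decide +kernel

end Cfsg.Agent.Lib.EvenInvolutions.CertTwF4
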