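import Cfsg.Agent.Lib.EvenInvolutions.BitMat
import Mathlib.LinearAlgebra.Matrix.Rank

/-!
A certificate for the rank of y - 1, y a product of root elements x_r(1) in characteristic two.
-/

set_option autoImplicit false
set_option linter.unusedSectionVars false

namespace Cfsg.Agent.Lib.EvenInvolutions

open Cfsg.Lie Cfsg.Agent.Lib.ChevStructure
open scoped MatrixGroups Matrix

/-- Clearing a column with the pivot row. -/
def opPairs (op : ℕ × List ℕ) : List (ℕ × ℕ) := op.2.map fun a => (a, op.1)

/-- The pivot is a row different from those changed. -/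
def opOK (d : ℕ) (op : ℕ × List ℕ) : Bool := Nat.blt op.1 d && op.2.all fun a => !Nat.beq a op.1

/-- Reduced echelon form with the given pivots. -/
def rrefB (d M : ℕ) (piv : List (ℕ × ℕ)) : Bool :=
  piv.all (fun p => Nat.blt p.1 d && Nat.blt p.2 d && piv.all fun q =>
      cond (Nat.beq p.1 q.1) (M.testBit (p.1 * d + q.2)) (!M.testBit (p.1 * d + q.2))) &&
    decide (piv.map Prod.fst).Nodup &&
    allLt d fun a => piv.any (fun p => Nat.beq p.1 a) || Nat.beq (rowN d M a) 0

/-- The certificate that the rank of the product of `L` minus one is the number of pivots. -/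
def rankCert (F : Fast) (L : List ℕ) (ops : List (ℕ × List ℕ)) (piv : List (ℕ × ℕ)) : Bool :=
  ops.all (opOK (F.l + F.n)) &&
    rrefB (F.l + F.n)
      (ops.foldl (fun M op => mulP (F.l + F.n) (opPairs op) M) (evalW F L ^^^ idN (F.l + F.n))) piv

variable {D : ChevalleyDatum} {K : Type*} [Field K] [CharP K 2]

theorem pairMat_sq {op : ℕ × List ℕ} (h : opOK (D.rank + D.nroots) op = true) :
    (1 + pairMat D K (opPairs op)) * (1 + pairMat D K (opPairs op)) = 1 := by
  simp only [opOK, Bool.and_eq_true, List.all_eq_true] at h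
  have hN : ∀ x y : D.Idx, pairMat D K (opPairs op) x y ≠ 0 → Fast.cod x ∈ op.2 ∧ Fast.cod y = op.1 := by
    intro x y hne
    by_contra hc
    refine hne (List.sum_eq_zero fun z hz => ?_)
    obtain ⟨p, hp, rfl⟩ := List.mem_map.1 hz
    obtain ⟨a, ha, rfl⟩ := List.mem_map.1 hp
    show (if a = Fast.cod x ∧ op.1 = Fast.cod y then (1 : K) else 0) = 0
    rw [if_neg]
    rintro ⟨rfl, he⟩
    exact hc ⟨ha, he.symm⟩
  have h0 : pairMat D K (opPairs op) * pairMat D K (opPairs op) = 0 := by
    ext x z
    rw [Matrix.mul_apply, Matrix.zero_apply]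
    refine Finset.sum_eq_zero fun y _ => ?_
    by_contra hne
    have h1 := hN x y (left_ne_zero_of_mul hne)
    have h2 := hN y z (right_ne_zero_of_mul hne)
    have := h.2 _ h2.1
    rw [h1.2] at this
    simp at this
  have h2 : pairMat D K (opPairs op) + pairMat D K (opPairs op) = 0 := by
    ext x y; exact CharTwo.add_self_eq_zero _
  calc (1 + pairMat D K (opPairs op)) * (1 + pairMat D K (opPairs op))
      = 1 + (pairMat D K (opPairs op) + pairMat D K (opPairs op))
          + pairMat D K (opPairs op) * pairMat D K (opPairs op) := by noncomm_ring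
    _ = 1 := by rw [h0, h2, add_zero, add_zero]

theorem rank_ops : ∀ (ops : List (ℕ × List ℕ)) (M : ℕ), ops.all (opOK (D.rank + D.nroots)) = true →
    (toMat D K (ops.foldl (fun M op => mulP (D.rank + D.nroots) (opPairs op) M) M)).rank =
      (toMat D K M).rank
  | [], _, _ => rfl
  | op :: ops, M, h => by
    rw [List.all_cons, Bool.and_eq_true] at h
    rw [List.foldl_cons, rank_ops ops _ h.2, toMat_mulP M]
    · exact Matrix.rank_mul_eq_right_of_isUnit_det _ _
        ((Matrix.isUnit_iff_isUnit_det _).1 (IsUnit.of_mul_eq_one _ (pairMat_sq h.1)))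
    · intro p hp
      obtain ⟨a, -, rfl⟩ := List.mem_map.1 hp
      have := h.1
      simp only [opOK, Bool.and_eq_true, Nat.blt_eq] at this
      exact this.1

theorem rank_rref {M : ℕ} {piv : List (ℕ × ℕ)} (h : rrefB (D.rank + D.nroots) M piv = true) :
    (toMat D K M).rank = piv.length := by
  simp only [rrefB, Bool.and_eq_true, List.all_eq_true, decide_eq_true_eq, allLt_iff, Bool.or_eq_true,
    List.any_eq_true, Nat.blt_eq] at h
  obtain ⟨⟨h1, hnd⟩, h3⟩ := h
  choose I hI using fun k : Fin piv.length => cod_surj' (D := D) (h1 _ (List.get_mem piv k)).1.1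
  choose J hJ using fun k : Fin piv.length => cod_surj' (D := D) (h1 _ (List.get_mem piv k)).1.2
  have hinj : ∀ i j : Fin piv.length, (piv.get i).1 = (piv.get j).1 → i = j := by
    intro i j e
    have := List.nodup_iff_injective_get.1 hnd (a₁ := ⟨i.val, by simp⟩) (a₂ := ⟨j.val, by simp⟩)
      (by simpa using e)
    exact Fin.ext (by simpa using congrArg Fin.val this)
  refine le_antisymm ?_ ?_
  · let S : Matrix D.Idx (Fin piv.length) K := Matrix.of fun x k => if Fast.cod x = (piv.get k).1 then 1 else 0
    have e : toMat D K M = S * (toMat D K M).submatrix I id := by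
      ext x y
      simp only [Matrix.mul_apply, S, Matrix.of_apply, Matrix.submatrix_apply, id_eq, ite_mul, one_mul,
        zero_mul]
      by_cases hx : ∃ k, Fast.cod x = (piv.get k).1
      · obtain ⟨k, hk⟩ := hx
        rw [Finset.sum_eq_single k, if_pos hk]
        · rw [show I k = x from Fast.cod_inj (by rw [hI, hk])]
        · intro j _ hj
          rw [if_neg fun hh => hj (hinj _ _ (hh.symm.trans hk))]
        · simp
      · rw [Finset.sum_eq_zero fun k _ => if_neg fun hk => hx ⟨k, hk⟩]
        rcases h3 (Fast.cod x) (cod_lt x) with ⟨p, hp, hpe⟩ | h0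
        · obtain ⟨k, rfl⟩ := List.get_of_mem hp
          exact absurd ⟨k, (Nat.eq_of_beq_eq_true hpe).symm⟩ hx
        · have := congrArg (fun z => z.testBit (Fast.cod y)) (Nat.eq_of_beq_eq_true h0)
          simp only [rowN_testBit, cod_lt, decide_true, Bool.and_true, Nat.zero_testBit] at this
          simp [toMat, this, bitR]
    rw [e]
    refine (Matrix.rank_mul_le_left _ _).trans ((Matrix.rank_le_card_width S).trans ?_)
    simp
  · have hsub : (toMat D K M).submatrix I J = 1 := by
      ext i j
      simp only [Matrix.submatrix_apply, toMat, Matrix.of_apply, hI, hJ]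
      have := (h1 _ (List.get_mem piv i)).2 _ (List.get_mem piv j)
      by_cases hij : i = j
      · subst hij
        rw [Nat.beq_refl, cond_true] at this
        rw [this, Matrix.one_apply_eq]; rfl
      · have hne : Nat.beq (piv.get i).1 (piv.get j).1 = false :=
          Bool.eq_false_iff.2 fun e => hij (hinj _ _ (Nat.eq_of_beq_eq_true e))
        rw [hne, cond_false, Bool.not_eq_true'] at this
        rw [Matrix.one_apply_ne hij, this]; rfl
    have := Matrix.rank_submatrix_le (toMat D K M) I J
    rw [hsub, Matrix.rank_one, Fintype.card_fin] at this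
    exact this

/-- The certified rank of y - 1. -/
theorem rank_prod_sub_one {F : Fast} (H : Fast.Certified F D) {L : List ℕ} (hL : L.all (rootDiag F) = true)
    {ops : List (ℕ × List ℕ)} {piv : List (ℕ × ℕ)} (h : rankCert F L ops piv = true) :
    ((((L.map fun k => H.core.XN K k 1).prod : GL D.Idx K) : Matrix D.Idx D.Idx K) - 1).rank = piv.length := by
  simp only [rankCert, Bool.and_eq_true, sum_eq H] at h
  rw [← rank_rref (K := K) h.2, rank_ops _ _ h.1, toMat_xor, toMat_evalW H hL, toMat_idN]
  congr 1
  rw [sub_eq_add_neg]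
  congr 1
  ext x y
  exact CharTwo.neg_eq _

end Cfsg.Agent.Lib.EvenInvolutions
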