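import Cfsg.Agent.Lib.EvenInvolutions.Coords

/-!
A root element conjugate to the central root element x_s(1) of U belongs to a root in the W-orbit of s.
-/

set_option autoImplicit false
set_option linter.unusedSectionVars false

namespace Cfsg.Agent.Lib.EvenInvolutions

open Cfsg.Lie Cfsg.Agent.Lib.ChevStructure
open scoped MatrixGroups Matrix

variable {D : ChevalleyDatum} {C : Core D}

theorem X_not_mem (H : CommOK C) {R : Type*} [CommRing R] {T : Set (Rt D)} (hT : T ⊆ C.Pos)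
    (hcl : ClosedSet C T) {r : Rt D} (hr : r ∈ C.Pos) (hrT : r ∉ T) {a : R} (h : C.X R r a ∈ C.US R T) :
    a = 0 := by
  classical
  have e : C.wordX R C.posL (fun x => if (x == r) = true then a else 0) = C.X R r a := by
    have hnd : C.posL.Nodup := C.posL_sorted.imp fun h => h.ne
    rw [wordX_filter C (fun _ => a) (· == r), List.filter_beq, List.count_eq_one_of_mem hnd (C.mem_posL.2 hr)]
    simp [Core.wordX]
  have := coord_eq_zero H hT hcl (t := fun x => if (x == r) = true then a else 0) (by rw [e]; exact h) hr hrT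
  simpa using this

variable (H : CommOK C) {F : Type*} [Field F]
include H

theorem closed_posFrom (k : ℕ) : ClosedSet C (C.posFrom k) := by
  intro r hr s hs q a b ha hb hv
  refine ⟨H.pos_closed hr.1 hs.1 hb hv, ?_⟩
  have h2 : 0 < (b : ℤ) * C.ht s := mul_pos (by omega) (C.ht_pos hs.1)
  have h1 : C.ht r ≤ (a : ℤ) * C.ht r := le_mul_of_one_le_left (C.ht_pos hr.1).le (by omega)
  have h3 : r.val < q.val := C.lt_of_ht_lt (by rw [C.ht_combo hv]; omega)
  have := hr.2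
  omega

theorem posFrom_normal (k : ℕ) {u : GL D.Idx F} (hu : u ∈ C.US F C.Pos) :
    u ∈ Subgroup.normalizer (C.US F (C.posFrom k) : Set (GL D.Idx F)) := by
  refine (Subgroup.closure_le _).2 ?_ hu
  rintro g ⟨r, hr, t, rfl⟩
  refine H.mem_normalizer (C.absorb_of_closed (S := C.Pos) (I := C.posFrom k) (fun _ h => h) (fun _ h => h.1)
    ?_ hr) t
  intro a ha x hx q i j hi hj hv
  refine ⟨H.pos_closed ha hx.1 hj hv, ?_⟩
  have h2 : 0 < (i : ℤ) * C.ht a := mul_pos (by omega) (C.ht_pos ha)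
  have h1 : C.ht x ≤ (j : ℤ) * C.ht x := le_mul_of_one_le_left (C.ht_pos hx.1).le (by omega)
  have h3 : x.val < q.val := C.lt_of_ht_lt (by rw [C.ht_combo hv]; omega)
  have := hx.2
  omega

/-- Conjugates of x_r(t) under U start with x_r(t). -/
theorem conj_leading {r : Rt D} (hr : r ∈ C.Pos) (t : F) {u : GL D.Idx F} (hu : u ∈ C.US F C.Pos) :
    (C.X F r t)⁻¹ * (u * C.X F r t * u⁻¹) ∈ C.US F (C.posFrom (r.val + 1)) := by
  set I := C.US F (C.posFrom (r.val + 1))
  set X := C.X F r t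
  have nI : ∀ {x g : GL D.Idx F}, x ∈ C.US F C.Pos → g ∈ I → x * g * x⁻¹ ∈ I := fun hx hg =>
    (Subgroup.mem_normalizer_iff.1 (posFrom_normal H _ hx) _).1 hg
  induction hu using Subgroup.closure_induction with
  | mem x hx =>
    obtain ⟨s, hs, a, rfl⟩ := hx
    by_cases hsr : s = r
    · subst hsr
      rw [C.X_inv, C.X_inv, C.X_add, C.X_add, C.X_add, show -t + (a + t + -a) = 0 by ring, C.X_zero]
      exact one_mem _
    have hne : s ≠ r.rev := fun h => (C.neg_iff_not_pos _).1 (C.rev_neg hr) (h ▸ hs)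
    show (C.X F r t)⁻¹ * (C.X F s a * C.X F r t * (C.X F s a)⁻¹) ∈ I
    have e := H.comm_X r s hsr hne t a
    obtain ⟨Z, hZ, e⟩ : ∃ Z, Z = _ ∧ C.X F s a * C.X F r t = C.X F r t * C.X F s a * Z := ⟨_, rfl, e⟩
    have hZI : Z ∈ I := by
      rw [hZ]
      refine list_prod_mem fun g hg => ?_
      obtain ⟨c, hc, rfl⟩ := List.mem_map.1 hg
      obtain ⟨q, hq, hi, hj, hv⟩ := H.terms r s hsr hne c hc
      have hqI : q ∈ C.posFrom (r.val + 1) := by
        refine ⟨H.pos_closed hr hs hj hv, ?_⟩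
        have h2 : 0 < (c.2.2.2 : ℤ) * C.ht s := mul_pos (by omega) (C.ht_pos hs)
        have h1 : C.ht r ≤ (c.2.2.1 : ℤ) * C.ht r := le_mul_of_one_le_left (C.ht_pos hr).le (by omega)
        have h3 : r.val < q.val := C.lt_of_ht_lt (by rw [C.ht_combo hv]; omega)
        omega
      exact C.XN_mem_US F hqI hq _
    have e' : (C.X F r t)⁻¹ * (C.X F s a * C.X F r t * (C.X F s a)⁻¹) = C.X F s a * Z * (C.X F s a)⁻¹ := by
      rw [e]; group
    rw [e']
    exact nI (C.X_mem_US F hs a) hZI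
  | one => simp
  | mul x y hx hy ihx ihy =>
    have e : X⁻¹ * (x * y * X * (x * y)⁻¹) = X⁻¹ * (x * X * x⁻¹) * (x * (X⁻¹ * (y * X * y⁻¹)) * x⁻¹) := by group
    rw [e]
    exact mul_mem ihx (nI hx ihy)
  | inv x hx ih =>
    have e : X⁻¹ * (x⁻¹ * X * x⁻¹⁻¹) = x⁻¹ * (X⁻¹ * (x * X * x⁻¹))⁻¹ * x⁻¹⁻¹ := by group
    rw [e]
    exact nI (inv_mem hx) (inv_mem ih)

theorem orbit_of_conj {r s : Rt D} (hr : r ∈ C.Pos) (hs : s ∈ C.Pos)
    (hcen : ∀ q ∈ C.Pos, ∀ a b : F, Commute (C.X F q a) (C.X F s b))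
    {h : GL D.Idx F} (hh : h ∈ D.group F) (he : h * C.X F r 1 * h⁻¹ = C.X F s 1) :
    ∃ σ ∈ C.WG, σ r = s := by
  obtain ⟨σ, b, hb, u, hu, rfl⟩ := H.exists_normalForm hh
  refine ⟨σ, σ.2, ?_⟩
  obtain ⟨v, hv, k, hk, rfl⟩ := C.mem_borel_iff.1 hb
  obtain ⟨c, rfl⟩ := C.mem_diagonal_iff.1 hk
  have hcv : Commute v (C.X F s 1) := by
    clear he hb hh
    induction hv using Subgroup.closure_induction with
    | mem x hx => obtain ⟨q, hq, a, rfl⟩ := hx; exact hcen q hq a 1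
    | one => exact Commute.one_left _
    | mul x y _ _ hx hy => exact hx.mul_left hy
    | inv x _ hx => exact hx.inv_left
  set R := C.rep F σ
  have huP : u ∈ C.US F C.Pos := C.US_mono F (fun _ h => h.1) hu
  obtain ⟨e, hce⟩ := C.acts_inv F (C.acts_rep F σ) s
  obtain ⟨a, ha⟩ : ∃ a : Fˣ, (C.HT F c)⁻¹ * C.X F s 1 * C.HT F c = C.X F s a := by
    refine ⟨C.chA c⁻¹ s, ?_⟩
    have := C.HT_X_conj F c⁻¹ s 1
    rwa [← C.HT_inv, inv_inv, mul_one] at this
  set q := (σ : Equiv.Perm (Rt D))⁻¹ s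
  have hq : u * C.X F r 1 * u⁻¹ = C.X F q ((e : F) * a) := by
    rw [← hce, ← ha]
    calc u * C.X F r 1 * u⁻¹
        = R⁻¹ * (C.HT F c)⁻¹ * v⁻¹ * (v * C.HT F c * R * u * C.X F r 1 * (v * C.HT F c * R * u)⁻¹) *
            v * C.HT F c * R := by group
      _ = R⁻¹ * (C.HT F c)⁻¹ * (v⁻¹ * C.X F s 1 * v) * C.HT F c * R := by rw [he]; group
      _ = R⁻¹ * (C.HT F c)⁻¹ * C.X F s 1 * C.HT F c * R := by
        rw [show v⁻¹ * C.X F s 1 * v = C.X F s 1 from by rw [mul_assoc, ← hcv.eq, inv_mul_cancel_left]]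
      _ = _ := by simp only [R]; group
  have hea : (e : F) * a ≠ 0 := mul_ne_zero e.ne_zero a.ne_zero
  have hqP : q ∈ C.Pos := by
    by_contra hn
    refine hea (C.X_neg_mem_borel ((C.neg_iff_not_pos _).2 hn) ?_)
    rw [← hq]
    exact C.posUS_le_borel (mul_mem (mul_mem huP (C.X_mem_US F hr _)) (inv_mem huP))
  have hl := conj_leading H hr (1 : F) huP
  rw [hq] at hl
  rcases lt_trichotomy r.val q.val with hlt | heq | hgt
  · exfalso
    have h1 : (C.X F r (1 : F))⁻¹ ∈ C.US F (C.posFrom (r.val + 1)) := by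
      have := mul_mem hl (inv_mem (C.X_mem_US F (S := C.posFrom (r.val + 1)) (r := q) ⟨hqP, hlt⟩ ((e : F) * a)))
      rwa [mul_inv_cancel_right] at this
    refine one_ne_zero (α := F) (X_not_mem H (fun _ h => h.1) (closed_posFrom H _) hr (fun h => ?_)
      (inv_mem_iff.1 h1))
    have := h.2; omega
  · rw [Fin.ext heq]
    exact Equiv.apply_symm_apply _ _
  · exfalso
    refine hea (X_not_mem H (T := C.posFrom r.val) (fun _ h => h.1) (closed_posFrom H _) hqP (fun h => ?_) ?_)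
    · have := h.2; omega
    · have h1 : C.X F r 1 * ((C.X F r (1 : F))⁻¹ * C.X F q ((e : F) * a)) ∈ C.US F (C.posFrom r.val) :=
        mul_mem (C.X_mem_US F (S := C.posFrom r.val) (r := r) ⟨hr, le_rfl⟩ _)
          (C.US_mono F (S := C.posFrom (r.val + 1)) (T := C.posFrom r.val) (fun x hx => ⟨hx.1, by have := hx.2; omega⟩) hl)
      rwa [mul_inv_cancel_left] at h1

end Cfsg.Agent.Lib.EvenInvolutions
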