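import Cfsg.Agent.Lib.EvenInvolutions.Monomial
import Cfsg.Agent.Lib.EvenInvolutions.Rank
import Cfsg.Agent.Lib.EvenInvolutions.Separate
import Cfsg.Agent.Lib.ChevStructure.Words

/-!
The classes of involutions in characteristic two from kernel checks on the packed tables.
-/

set_option autoImplicit false
set_option linter.unusedSectionVars false

namespace Cfsg.Agent.Lib.ChevStructure.Fast

variable (F : Fast)

/-- A positive coroot pairing with a simple root gives a positive Cartan integer. -/
def eiSign : Bool :=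
  allLt F.n fun r => allLt F.l fun i => cond (decide (0 < F.pr r (F.p i))) (decide (0 < F.a i r)) true

/-- No commutator between the two pairs of opposite roots. -/
def eiFree1 (x y : ℕ) : Bool :=
  Nat.beq (F.code x y) 0 && Nat.beq (F.code y x) 0 && !Nat.beq y x && !Nat.beq y (F.rv x)

/-- The four pairs are free and the roots are orthogonal. -/
def eiPair (a b : ℕ) : Bool :=
  decide (F.pr a b = 0) && decide (F.pr b a = 0) && F.eiFree1 a b && F.eiFree1 (F.rv a) b &&
    F.eiFree1 a (F.rv b) && F.eiFree1 (F.rv a) (F.rv b)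

/-- Pairwise `eiPair`. -/
def eiStrong : List ℕ → Bool
  | [] => true
  | a :: L => L.all (F.eiPair a) && eiStrong L

/-- The entry (i, m) of the sum of pr(β, p_i) v β. -/
def eiForm (L : List ℕ) (i m : ℕ) : ℤ := L.foldr (fun b a => F.pr b (F.p i) * F.v b m + a) 0

/-- Application of a word in the simple reflections. -/
def eiWord (W : List ℕ) (r : ℕ) : ℕ := W.foldr F.w r

/-- One orthogonal root is absorbed. -/
def eiStep1 (reps : List (List ℕ)) (R : List ℕ) (δ : ℕ) (e : ℕ × List ℕ × ℕ) : Bool :=
  Nat.beq e.1 δ && e.2.1.all (fun i => Nat.blt i F.l) && Nat.blt e.2.2 reps.length &&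
    allLt F.l fun i => allLt F.l fun m =>
      decide (F.eiForm ((δ :: R).map (F.eiWord e.2.1)) i m = F.eiForm (reps.getD e.2.2 []) i m)

/-- The orthogonal roots of all the representatives are absorbed. -/
def eiCover (reps : List (List ℕ)) (tab : List (List (ℕ × List ℕ × ℕ))) : Bool :=
  reps.any List.isEmpty && reps.all (fun R => R.all fun a => Nat.blt a F.n) && reps.all F.eiStrong &&
    allLt reps.length fun k => allLt F.n fun δ =>
      cond (Nat.blt δ F.half || !(reps.getD k []).all fun g => decide (F.pr g δ = 0) && decide (F.pr δ g = 0))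
        true ((tab.getD k []).any (F.eiStep1 reps (reps.getD k []) δ))

/-- A root whose positive root subgroups all commute with that of s. -/
def eiTop (s : ℕ) : Bool :=
  Nat.ble F.half s && Nat.blt s F.n &&
    allLt F.n fun q => Nat.blt q F.half || Nat.beq q s || F.eiFree1 q s

end Cfsg.Agent.Lib.ChevStructure.Fast

namespace Cfsg.Agent.Lib.EvenInvolutions

open Cfsg.Lie Cfsg.Agent.Lib.ChevStructure
open Cfsg.Agent.Lib.OddInvolutions (Orth Comm4 prV prV_v pr_rev_right linV linV_v WG_pr)
open scoped MatrixGroups Matrix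

variable {D : ChevalleyDatum} {F : Fast} (H : Fast.Certified F D)
include H

theorem iter_none {x : ℕ} {y : ℕ} (h : F.code x y = 0) : ∀ k, F.iter x y (k + 1) = none
  | 0 => by simp [Fast.iter, h]
  | k + 1 => by rw [Fast.iter, iter_none h k]

theorem commute_of_free {K : Type*} [Field K] (hc : CommOK H.core) {x y : Rt D}
    (h : F.eiFree1 x.val y.val = true) (t u : K) : Commute (H.core.X K x t) (H.core.X K y u) := by
  simp only [Fast.eiFree1, Bool.and_eq_true, Bool.not_eq_true'] at h
  obtain ⟨⟨⟨hxy, hyx⟩, hne⟩, hne'⟩ := h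
  have hne : y ≠ x := fun e => Nat.ne_of_beq_eq_false hne (congrArg Fin.val e)
  have hne' : y ≠ x.rev := fun e => Nat.ne_of_beq_eq_false hne' (by rw [e, H.rev_val])
  have hnil : D.commTerms x.val y.val = [] := by
    have h1 : ∀ k, 0 < k → D.chainRoot x.val y.val k = none := fun k hk => by
      rw [H.iter_node (H.lt_n x) _ _ hk]
      obtain ⟨j, rfl⟩ := Nat.exists_eq_add_of_le' hk
      exact iter_none H (Nat.eq_of_beq_eq_true hxy) j
    have h2 : ∀ k, 0 < k → D.chainRoot y.val x.val k = none := fun k hk => by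
      rw [H.iter_node (H.lt_n y) _ _ hk]
      obtain ⟨j, rfl⟩ := Nat.exists_eq_add_of_le' hk
      exact iter_none H (Nat.eq_of_beq_eq_true hyx) j
    simp [ChevalleyDatum.commTerms, h1, h2]
  have e := hc.comm_X x y hne hne' t u
  rw [hnil, List.map_nil, List.prod_nil, mul_one] at e
  exact e.symm

/-- The roots of a list of indices. -/
def toR (_H : Fast.Certified F D) (L : List ℕ) : List (Rt D) :=
  L.filterMap fun k => if h : k < D.nroots then some ⟨k, h⟩ else none

theorem toR_val {L : List ℕ} (h : (L.all fun a => Nat.blt a F.n) = true) : (toR H L).map Fin.val = L := by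
  induction L with
  | nil => rfl
  | cons a L ih =>
    rw [List.all_cons, Bool.and_eq_true, Nat.blt_eq] at h
    have := ih h.2
    have ha : a < D.nroots := by rw [H.hn]; exact h.1
    simp only [toR, List.filterMap_cons, dif_pos ha, List.map_cons] at this ⊢
    rw [this]

theorem pairwise_strong {K : Type*} [Field K] (hc : CommOK H.core) : ∀ {L : List (Rt D)},
    F.eiStrong (L.map Fin.val) = true → L.Pairwise (fun a b => Orth a b ∧ Comm4 H.core K a b)
  | [], _ => List.Pairwise.nil
  | a :: L, h => by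
    simp only [List.map_cons, Fast.eiStrong, Bool.and_eq_true, List.all_eq_true, List.mem_map] at h
    refine List.pairwise_cons.2 ⟨fun b hb => ?_, pairwise_strong hc h.2⟩
    have h' := h.1 _ ⟨b, hb, rfl⟩
    simp only [Fast.eiPair, Bool.and_eq_true, decide_eq_true_eq, ← H.rev_val] at h'
    obtain ⟨⟨⟨⟨⟨e1, e2⟩, f1⟩, f2⟩, f3⟩, f4⟩ := h'
    exact ⟨⟨by rw [H.pr_val]; exact e1, by rw [H.pr_val]; exact e2⟩, fun t u =>
      ⟨commute_of_free H hc f1 t u, commute_of_free H hc f2 t u, commute_of_free H hc f3 t u,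
        commute_of_free H hc f4 t u⟩⟩

theorem formV_apply (L : List (Rt D)) (i m : Fin D.rank) :
    formV H.core L (H.core.p i) m = F.eiForm (L.map Fin.val) i.val m.val := by
  induction L with
  | nil => rfl
  | cons b L ih =>
    rw [formV_cons, List.map_cons, Pi.add_apply, Pi.smul_apply, smul_eq_mul, ih, H.pr_val]
    rfl

theorem formV_ext {L L' : List (Rt D)} (h : ∀ i, formV H.core L (H.core.p i) = formV H.core L' (H.core.p i))
    (x : Rt D) : formV H.core L x = formV H.core L' x := by
  have lin : ∀ L : List (Rt D), formV H.core L x = ∑ i, H.core.v x i • formV H.core L (H.core.p i) := by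
    intro L
    induction L with
    | nil => simp [formV]
    | cons b L ih =>
      simp only [formV_cons, smul_add, Finset.sum_add_distrib, ← ih, smul_smul, ← Finset.sum_smul]
      rw [← H.core.pr_lin]
  rw [lin L, lin L']
  simp [h]

theorem pprod_val : ∀ (W : List (Fin D.rank)) (r : Rt D),
    (H.core.pprod W r).val = F.eiWord (W.map Fin.val) r.val
  | [], _ => rfl
  | i :: W, r => by
    rw [H.core.pprod_cons, Equiv.Perm.mul_apply, H.core.sref_apply, List.map_cons, Fast.eiWord, List.foldr_cons]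
    show F.w i.val (H.core.pprod W r).val = _
    rw [pprod_val W r]; rfl

theorem cover {reps : List (List ℕ)} {tab : List (List (ℕ × List ℕ × ℕ))}
    (h : F.eiCover reps tab = true) : Cover H.core (reps.map (toR H)) := by
  simp only [Fast.eiCover, Bool.and_eq_true, List.all_eq_true, List.any_eq_true, allLt_iff] at h
  obtain ⟨⟨⟨hnil, hlt⟩, -⟩, hstep⟩ := h
  refine ⟨?_, ?_⟩
  · obtain ⟨R, hR, he⟩ := hnil
    rw [List.isEmpty_iff] at he
    exact List.mem_map.2 ⟨R, hR, by rw [he]; rfl⟩
  suffices key : ∀ R ∈ reps.map (toR H), ∀ δ : Rt D, δ ∈ H.core.Pos → (∀ γ ∈ R, Orth γ δ) →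
      ∃ W : List (Fin D.rank), ∃ R' ∈ reps.map (toR H),
        ∀ x, formV H.core ((δ :: R).map (H.core.pprod W)) x = formV H.core R' x by
    intro R hR δ hδ
    by_cases hp : δ ∈ H.core.Pos
    · exact key R hR δ hp hδ
    · obtain ⟨W, R', hR', he⟩ := key R hR δ.rev (H.core.rev_pos ((H.core.neg_iff_not_pos _).2 hp))
        (fun γ hγ => ⟨by rw [pr_rev_right H.core, (hδ γ hγ).1]; rfl, by rw [H.core.pr_rev, (hδ γ hγ).2]; rfl⟩)
      refine ⟨W, R', hR', fun x => ?_⟩
      rw [← he x, List.map_cons, List.map_cons, formV_cons, formV_cons, H.core.pprod_rev, H.core.pr_rev,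
        H.core.v_rev, neg_smul_neg]
  intro R hR δ hδ ho
  obtain ⟨R0, hR0, rfl⟩ := List.mem_map.1 hR
  obtain ⟨k, hk, rfl⟩ := List.getElem_of_mem hR0
  have hRv := toR_val H (L := reps[k]) (List.all_eq_true.2 (hlt _ hR0))
  have hs := hstep k hk δ.val (H.lt_n δ)
  rw [List.getD_eq_getElem (hn := hk)] at hs
  have hcond : (Nat.blt δ.val F.half ||
      !(reps[k]).all fun g => decide (F.pr g δ.val = 0) && decide (F.pr δ.val g = 0)) = false := by
    rw [Bool.or_eq_false_iff]
    refine ⟨Fast.blt_false ?_, ?_⟩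
    · have hp : D.nroots ≤ 2 * δ.val := hδ
      have := H.half_eq; have := H.hn; omega
    · rw [Bool.not_eq_false', ← hRv, List.all_map, List.all_eq_true]
      intro γ hγ
      simp [← H.pr_val, (ho γ hγ).1, (ho γ hγ).2]
  rw [hcond, cond_false, List.any_eq_true] at hs
  obtain ⟨⟨e1, W, j⟩, -, hv⟩ := hs
  simp only [Fast.eiStep1, Bool.and_eq_true, List.all_eq_true, allLt_iff, Nat.blt_eq, decide_eq_true_eq] at hv
  obtain ⟨⟨⟨-, hW⟩, hj⟩, hform⟩ := hv
  rw [List.getD_eq_getElem (hn := hj)] at hform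
  refine ⟨W.pmap (fun i hi => (⟨i, hi⟩ : Fin D.rank)) (fun i hi => H.hl ▸ hW i hi), _,
    List.mem_map_of_mem (List.getElem_mem hj), formV_ext H fun i => funext fun m => ?_⟩
  rw [formV_apply, formV_apply, toR_val H (List.all_eq_true.2 (hlt _ (List.getElem_mem hj))),
    ← hform i.val (H.lt_l i) m.val (H.lt_l m)]
  congr 1
  rw [List.map_map, List.map_cons, List.map_cons]
  have hw : ∀ r : Rt D, (H.core.pprod (W.pmap (fun i hi => (⟨i, hi⟩ : Fin D.rank))
      (fun i hi => H.hl ▸ hW i hi)) r).val = F.eiWord W r.val := fun r => by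
    rw [pprod_val, List.map_pmap]
    congr 1
    simp
  simp only [Function.comp_apply, hw]
  congr 1
  conv_rhs => rw [← hRv, List.map_map]
  exact List.map_congr_left fun r _ => hw r

theorem sign (h : F.eiSign = true) (r : Rt D) (i : Fin D.rank) (hp : 0 < pr D r (H.core.p i)) :
    0 < A D i r := by
  simp only [Fast.eiSign, allLt_iff] at h
  have := h r.val (H.lt_n r) i.val (H.lt_l i)
  rw [H.pr_val] at hp
  have hp' : 0 < F.pr r.val (F.p i.val) := hp
  rw [decide_eq_true hp', cond_true, decide_eq_true_eq] at this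
  rwa [H.A_val]

/-- The element of a word. -/
def wordG (K : Type*) [Field K] (L : List ℕ) : GL D.Idx K := (L.map fun k => H.core.XN K k 1).prod

variable {K : Type*} [Field K]

theorem wordG_mem (L : List ℕ) : wordG H K L ∈ D.group K := by
  refine list_prod_mem fun g hg => ?_
  obtain ⟨k, -, rfl⟩ := List.mem_map.1 hg
  unfold Core.XN
  split_ifs
  · exact H.core.X_mem_group _ _
  · exact one_mem _

theorem wordG_val (L : List ℕ) :
    ((wordG H K L : GL D.Idx K) : Matrix D.Idx D.Idx K) = (L.map fun k => D.x K k 1).prod := by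
  induction L with
  | nil => rfl
  | cons a L ih =>
    rw [wordG, List.map_cons, List.prod_cons, Units.val_mul, List.map_cons, List.prod_cons, ← ih,
      H.core.XN_val, ← H.core.xN_eq_x]
    rfl

theorem wordG_append (L L' : List ℕ) : wordG H K (L ++ L') = wordG H K L * wordG H K L' := by
  simp [wordG]

theorem xProd_toR {L : List ℕ} (h : (L.all fun a => Nat.blt a F.n) = true) :
    xProd H.core K (toR H L) = wordG H K L := by
  conv_rhs => rw [← toR_val H h, wordG, List.map_map]
  rw [xProd]
  exact congrArg List.prod (List.map_congr_left fun r _ => (H.core.XN_fin K r 1).symm)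

theorem classes [Finite K] [CharP K 2] (hc : CommOK H.core) (hs : F.eiSign = true)
    {reps : List (List ℕ)} {tab : List (List (ℕ × List ℕ × ℕ))} (hcov : F.eiCover reps tab = true)
    {ys : List (List ℕ)} {fus : List (ℕ × List ℕ)}
    (hfus : allLt reps.length (fun k => (reps.getD k []).isEmpty ||
      (Nat.blt (fus.getD k (0, [])).1 ys.length &&
        ((fus.getD k (0, [])).2 ++ reps.getD k []).all (rootDiag F) &&
        (ys.getD (fus.getD k (0, [])).1 [] ++ (fus.getD k (0, [])).2).all (rootDiag F) &&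
        Nat.beq (evalW F ((fus.getD k (0, [])).2 ++ reps.getD k []))
          (evalW F (ys.getD (fus.getD k (0, [])).1 [] ++ (fus.getD k (0, [])).2)))) = true)
    {g : GL D.Idx K} (hg : g ∈ D.group K) (h2 : g * g = 1) (h1 : g ≠ 1) :
    ∃ y ∈ ys, ∃ h ∈ D.group K, h * g * h⁻¹ = wordG H K y := by
  obtain ⟨x, hx, m, hm, hm2, hxm⟩ := exists_monomial_conj hc (sign H hs) hg h2
  have hst := hcov
  simp only [Fast.eiCover, Bool.and_eq_true, List.all_eq_true] at hst
  obtain ⟨⟨⟨-, hlt⟩, hstr⟩, -⟩ := hst
  obtain ⟨R, hR, z, hz, hzm⟩ := monomial_rep hc (cover H hcov) (fun R hR => by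
    obtain ⟨R0, hR0, rfl⟩ := List.mem_map.1 hR
    refine pairwise_strong H hc ?_
    rw [toR_val H (List.all_eq_true.2 (hlt _ hR0))]
    exact hstr _ hR0) hm hm2
  obtain ⟨R0, hR0, rfl⟩ := List.mem_map.1 hR
  rw [xProd_toR H (List.all_eq_true.2 (hlt _ hR0))] at hzm
  obtain ⟨k, hk, rfl⟩ := List.getElem_of_mem hR0
  rw [allLt_iff] at hfus
  have hf := hfus k hk
  rw [List.getD_eq_getElem (hn := hk), Bool.or_eq_true] at hf
  rcases hf with he | hf
  · rw [List.isEmpty_iff] at he
    refine absurd ?_ h1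
    rw [he, show wordG H K [] = (1 : GL D.Idx K) from rfl, ← hxm, mul_inv_eq_one, mul_eq_left, mul_inv_eq_one,
      mul_eq_left] at hzm
    exact hzm
  simp only [Bool.and_eq_true, Nat.blt_eq] at hf
  obtain ⟨⟨⟨hy, hd1⟩, hd2⟩, he⟩ := hf
  generalize fus.getD k (0, []) = f at hy hd1 hd2 he
  obtain ⟨j, w⟩ := f
  rw [List.getD_eq_getElem (hn := hy)] at hd2 he
  refine ⟨_, List.getElem_mem hy, wordG H K w * z * x,
    mul_mem (mul_mem (wordG_mem H w) hz) hx, ?_⟩
  have e : wordG H K w * wordG H K reps[k] = wordG H K ys[j] * wordG H K w := by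
    rw [← wordG_append, ← wordG_append]
    exact prod_eq_of_evalW H hd1 hd2 he
  calc wordG H K w * z * x * g * (wordG H K w * z * x)⁻¹
      = wordG H K w * (z * (x * g * x⁻¹) * z⁻¹) * (wordG H K w)⁻¹ := by group
    _ = wordG H K ys[j] := by rw [hxm, hzm, e, mul_inv_cancel_right]

theorem wordG_sq [CharP K 2] {y : List ℕ} (h : (y ++ y).all (rootDiag F) = true)
    (he : Nat.beq (evalW F (y ++ y)) (evalW F []) = true) : wordG H K y * wordG H K y = 1 := by
  rw [← wordG_append]
  exact prod_eq_of_evalW (R := K) H h (by simp) he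

theorem rank_conj {h a b : GL D.Idx K} (e : h * a * h⁻¹ = b) :
    ((b : Matrix D.Idx D.Idx K) - 1).rank = ((a : Matrix D.Idx D.Idx K) - 1).rank := by
  have e1 : (b : Matrix D.Idx D.Idx K) - 1 =
      (h : Matrix D.Idx D.Idx K) * ((a : Matrix D.Idx D.Idx K) - 1) * ((h⁻¹ : GL D.Idx K) : Matrix D.Idx D.Idx K) := by
    rw [← e, Matrix.mul_sub, Matrix.sub_mul, Matrix.mul_one, Units.mul_inv, Units.val_mul, Units.val_mul]
  rw [e1, Matrix.rank_mul_eq_left_of_isUnit_det _ _ ((Matrix.isUnit_iff_isUnit_det _).1 (Units.isUnit _)),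
    Matrix.rank_mul_eq_right_of_isUnit_det _ _ ((Matrix.isUnit_iff_isUnit_det _).1 (Units.isUnit _))]

theorem wordG_ne_one [CharP K 2] {y : List ℕ} {ops : List (ℕ × List ℕ)} {piv : List (ℕ × ℕ)}
    (hd : y.all (rootDiag F) = true) (h : rankCert F y ops piv = true) (hp : piv ≠ []) :
    wordG H K y ≠ 1 := by
  intro e
  have hr := rank_prod_sub_one (K := K) H hd h
  rw [show (y.map fun k => H.core.XN K k 1).prod = 1 from e, Units.val_one, sub_self, Matrix.rank_zero] at hr
  exact hp (List.eq_nil_of_length_eq_zero hr.symm)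

/-- A root with a larger pairing is not conjugate to the central one. -/
theorem not_conj_top (hc : CommOK H.core) {r s : ℕ} (htop : F.eiTop s = true)
    (hr : F.half ≤ r) (hrn : r < F.n) {k : ℤ}
    (hk : (List.range F.n).any (fun x => !Nat.beq x r && decide (F.pr r x = k)) = true)
    (hs' : allLt F.n (fun x => Nat.beq x s || !decide (F.pr s x = k)) = true)
    {h : GL D.Idx K} (hh : h ∈ D.group K) : h * wordG H K [r] * h⁻¹ ≠ wordG H K [s] := by
  intro he
  simp only [Fast.eiTop, Bool.and_eq_true, Nat.ble_eq, Nat.blt_eq, allLt_iff, Bool.or_eq_true] at htop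
  obtain ⟨⟨hs, hsn⟩, hfree⟩ := htop
  have h2 := H.half_eq
  have h3 := H.hn
  let r' : Rt D := ⟨r, by omega⟩
  let s' : Rt D := ⟨s, by omega⟩
  have e1 : ∀ (q : ℕ) (hq : q < D.nroots), wordG H K [q] = H.core.X K ⟨q, hq⟩ 1 := fun q hq => by
    simp [wordG, Core.XN, hq]
  rw [e1 r (by omega), e1 s (by omega)] at he
  obtain ⟨σ, hσ, hσe⟩ := orbit_of_conj hc (r := r') (s := s') (show D.nroots ≤ 2 * r by omega)
    (show D.nroots ≤ 2 * s by omega) (fun q hq a b => by
      have hq' : D.nroots ≤ 2 * q.val := hq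
      rcases hfree q.val (H.lt_n q) with (h1 | h1) | h1
      · omega
      · rw [show q = s' from Fin.ext (Nat.eq_of_beq_eq_true h1)]
        show H.core.X K s' a * H.core.X K s' b = H.core.X K s' b * H.core.X K s' a
        rw [H.core.X_add, H.core.X_add, add_comm]
      · exact commute_of_free H hc (y := s') h1 a b) hh he
  simp only [List.any_eq_true, List.mem_range, Bool.and_eq_true, Bool.not_eq_true', decide_eq_true_eq] at hk
  obtain ⟨x, hx, hne, hxk⟩ := hk
  simp only [allLt_iff, Bool.or_eq_true, Bool.not_eq_true', decide_eq_false_iff_not] at hs'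
  let x' : Rt D := ⟨x, by omega⟩
  have hp : F.pr s (σ x').val = k := by
    rw [show s = (σ r').val from (congrArg Fin.val hσe).symm, ← H.pr_val, WG_pr H.core hσ, H.pr_val]
    exact hxk
  rcases hs' (σ x').val (H.lt_n _) with h4 | h4
  · refine Nat.ne_of_beq_eq_false hne ?_
    have : σ x' = σ r' := by rw [hσe]; exact Fin.ext (Nat.eq_of_beq_eq_true h4)
    exact congrArg Fin.val (σ.injective this)
  · exact h4 hp

end Cfsg.Agent.Lib.EvenInvolutions
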