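import Cfsg.Agent.Lib.EvenInvolutions.Classes
import Cfsg.Agent.Lib.ChevStructure.CommAll

/-!
The statements about classes of involutions, from the list of representatives.
-/

set_option autoImplicit false
set_option linter.unusedSectionVars false

namespace Cfsg.Agent.Lib.EvenInvolutions

open Cfsg.Lie Cfsg.Agent.Lib.ChevStructure
open scoped MatrixGroups Matrix

variable {D : ChevalleyDatum} {F : Fast} (H : Fast.Certified F D) {K : Type*} [Field K]
include H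

/-- The matrix of a word. -/
def wordM (_H : Fast.Certified F D) (K : Type*) [Field K] (L : List ℕ) : Matrix D.Idx D.Idx K :=
  (L.map fun k => D.x K k 1).prod

theorem wordM_singleton (a : ℕ) : wordM H K [a] = D.x K a 1 := by simp [wordM]

theorem wordM_two (a b : ℕ) : wordM H K [a, b] = D.x K a 1 * D.x K b 1 := by simp [wordM]

theorem wordM_three (a b c : ℕ) : wordM H K [a, b, c] = D.x K a 1 * D.x K b 1 * D.x K c 1 := by
  simp [wordM, mul_assoc]

theorem wordM_four (a b c e : ℕ) :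
    wordM H K [a, b, c, e] = D.x K a 1 * D.x K b 1 * D.x K c 1 * D.x K e 1 := by
  simp [wordM, mul_assoc]

theorem three_parts {ys : List (List ℕ)}
    (hclass : ∀ g : GL D.Idx K, g ∈ D.group K → g * g = 1 → g ≠ 1 →
      ∃ y ∈ ys, ∃ h ∈ D.group K, h * g * h⁻¹ = wordG H K y)
    (hsq : ∀ y ∈ ys, wordG H K y * wordG H K y = 1) (hne : ∀ y ∈ ys, wordG H K y ≠ 1)
    (hinj : ∀ y₁ ∈ ys, ∀ y₂ ∈ ys, ∀ h ∈ D.group K, h * wordG H K y₁ * h⁻¹ = wordG H K y₂ → y₁ = y₂) :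
    (∀ y : GL D.Idx K, ((y : GL D.Idx K) : Matrix D.Idx D.Idx K) ∈ ys.map (wordM H K) →
        y ∈ D.group K ∧ orderOf y = 2) ∧
      (∀ g ∈ D.group K, orderOf g = 2 → ∃ y ∈ D.group K,
        ((y : GL D.Idx K) : Matrix D.Idx D.Idx K) ∈ ys.map (wordM H K) ∧ ∃ h ∈ D.group K, h * g * h⁻¹ = y) ∧
      (∀ y₁ ∈ D.group K, ∀ y₂ ∈ D.group K,
        ((y₁ : GL D.Idx K) : Matrix D.Idx D.Idx K) ∈ ys.map (wordM H K) →
        ((y₂ : GL D.Idx K) : Matrix D.Idx D.Idx K) ∈ ys.map (wordM H K) →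
        (∃ h ∈ D.group K, h * y₁ * h⁻¹ = y₂) →
        ((y₁ : GL D.Idx K) : Matrix D.Idx D.Idx K) = ((y₂ : GL D.Idx K) : Matrix D.Idx D.Idx K)) := by
  have key : ∀ y : GL D.Idx K, ((y : GL D.Idx K) : Matrix D.Idx D.Idx K) ∈ ys.map (wordM H K) →
      ∃ L ∈ ys, y = wordG H K L := by
    intro y hy
    obtain ⟨L, hL, e⟩ := List.mem_map.1 hy
    exact ⟨L, hL, Units.ext (by rw [wordG_val]; exact e.symm)⟩
  refine ⟨fun y hy => ?_, fun g hg ho => ?_, fun y₁ _ y₂ _ h1 h2 hc => ?_⟩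
  · obtain ⟨L, hL, rfl⟩ := key y hy
    exact ⟨wordG_mem H L, orderOf_eq_prime (by rw [pow_two]; exact hsq L hL) (hne L hL)⟩
  · have h2 : g * g = 1 := by rw [← pow_two, ← ho, pow_orderOf_eq_one]
    have h1 : g ≠ 1 := fun e => by rw [e, orderOf_one] at ho; omega
    obtain ⟨L, hL, h, hh, he⟩ := hclass g hg h2 h1
    exact ⟨_, wordG_mem H L, List.mem_map.2 ⟨L, hL, (wordG_val H L).symm⟩, h, hh, he⟩
  · obtain ⟨L₁, hL₁, rfl⟩ := key y₁ h1
    obtain ⟨L₂, hL₂, rfl⟩ := key y₂ h2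
    obtain ⟨h, hh, he⟩ := hc
    rw [hinj L₁ hL₁ L₂ hL₂ h hh he]

theorem count_classes {ys : List (List ℕ)} (hnd : ys.Nodup)
    (hclass : ∀ g : GL D.Idx K, g ∈ D.group K → g * g = 1 → g ≠ 1 →
      ∃ y ∈ ys, ∃ h ∈ D.group K, h * g * h⁻¹ = wordG H K y)
    (hsq : ∀ y ∈ ys, wordG H K y * wordG H K y = 1) (hne : ∀ y ∈ ys, wordG H K y ≠ 1)
    (hinj : ∀ y₁ ∈ ys, ∀ y₂ ∈ ys, ∀ h ∈ D.group K, h * wordG H K y₁ * h⁻¹ = wordG H K y₂ → y₁ = y₂) :
    (ConjClasses.mk '' {g : ↥(D.group K) | orderOf g = 2}).ncard = ys.length := by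
  classical
  let f : List ℕ → ConjClasses ↥(D.group K) := fun L => ConjClasses.mk ⟨wordG H K L, wordG_mem H L⟩
  have himg : ConjClasses.mk '' {g : ↥(D.group K) | orderOf g = 2} = f '' {L | L ∈ ys} := by
    ext c
    constructor
    · rintro ⟨g, hg, rfl⟩
      have hg' : orderOf (g : GL D.Idx K) = 2 := by rw [Subgroup.orderOf_coe]; exact hg
      have h2 : (g : GL D.Idx K) * g = 1 := by rw [← pow_two, ← hg', pow_orderOf_eq_one]
      have h1 : (g : GL D.Idx K) ≠ 1 := fun e => by rw [e, orderOf_one] at hg'; omega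
      obtain ⟨L, hL, h, hh, he⟩ := hclass g g.2 h2 h1
      exact ⟨L, hL, (ConjClasses.mk_eq_mk_iff_isConj.2 (isConj_iff.2 ⟨⟨h, hh⟩, Subtype.ext he⟩)).symm⟩
    · rintro ⟨L, hL, rfl⟩
      refine ⟨⟨wordG H K L, wordG_mem H L⟩, ?_, rfl⟩
      show orderOf _ = 2
      rw [← Subgroup.orderOf_coe]
      exact orderOf_eq_prime (by rw [pow_two]; exact hsq L hL) (hne L hL)
  have hinjOn : Set.InjOn f {L | L ∈ ys} := by
    intro L₁ h₁ L₂ h₂ e
    obtain ⟨h, he⟩ := isConj_iff.1 (ConjClasses.mk_eq_mk_iff_isConj.1 e)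
    exact hinj L₁ h₁ L₂ h₂ h h.2 (congrArg Subtype.val he)
  rw [himg, Set.ncard_image_of_injOn hinjOn, ← List.coe_toFinset, Set.ncard_coe_finset,
    List.toFinset_card_of_nodup hnd]

variable [CharP K 2]

theorem inj_of_rank {ys : List (List ℕ)} {rs : List ℕ} (hlen : rs.length = ys.length)
    (hr : ∀ i < ys.length, (((wordG H K (ys.getD i [])) : Matrix D.Idx D.Idx K) - 1).rank = rs.getD i 0)
    {y₁ y₂ : List ℕ} (h₁ : y₁ ∈ ys) (h₂ : y₂ ∈ ys) {h : GL D.Idx K}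
    (he : h * wordG H K y₁ * h⁻¹ = wordG H K y₂) :
    ∃ i < ys.length, ∃ j < ys.length, ys.getD i [] = y₁ ∧ ys.getD j [] = y₂ ∧ rs.getD i 0 = rs.getD j 0 := by
  obtain ⟨i, hi, rfl⟩ := List.getElem_of_mem h₁
  obtain ⟨j, hj, rfl⟩ := List.getElem_of_mem h₂
  refine ⟨i, hi, j, hj, List.getD_eq_getElem _ _ hi, List.getD_eq_getElem _ _ hj, ?_⟩
  rw [← hr i hi, ← hr j hj, List.getD_eq_getElem _ _ hi, List.getD_eq_getElem _ _ hj]
  exact (rank_conj H he).symm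

theorem sq_of_all {ys : List (List ℕ)} (hd : ys.all (fun y => (y ++ y).all (rootDiag F)) = true)
    (he : ys.all (fun y => Nat.beq (evalW F (y ++ y)) (evalW F [])) = true) :
    ∀ y ∈ ys, wordG H K y * wordG H K y = 1 := fun y hy =>
  wordG_sq H (List.all_eq_true.1 hd y hy) (List.all_eq_true.1 he y hy)

theorem ne_one_of_rank {ys : List (List ℕ)} {rs : List ℕ}
    (hr : ∀ i < ys.length, (((wordG H K (ys.getD i [])) : Matrix D.Idx D.Idx K) - 1).rank = rs.getD i 0)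
    (h0 : ∀ i < ys.length, rs.getD i 0 ≠ 0) : ∀ y ∈ ys, wordG H K y ≠ 1 := by
  intro y hy e
  obtain ⟨i, hi, rfl⟩ := List.getElem_of_mem hy
  have := hr i hi
  rw [List.getD_eq_getElem _ _ hi, e, Units.val_one, sub_self, Matrix.rank_zero] at this
  exact h0 i hi this.symm

theorem rank_of_cert {ys : List (List ℕ)} (hd : ys.all (fun y => (y ++ y).all (rootDiag F)) = true) {i : ℕ}
    (hi : i < ys.length) {ops : List (ℕ × List ℕ)} {piv : List (ℕ × ℕ)}
    (h : rankCert F (ys.getD i []) ops piv = true) :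
    (((wordG H K (ys.getD i [])) : Matrix D.Idx D.Idx K) - 1).rank = piv.length := by
  refine rank_prod_sub_one H ?_ h
  have := List.all_eq_true.1 hd _ (List.getElem_mem hi)
  rw [List.all_append, Bool.and_eq_true] at this
  rw [List.getD_eq_getElem _ _ hi]
  exact this.1

end Cfsg.Agent.Lib.EvenInvolutions
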