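import Cfsg.Agent.Lib.ChevStructure.NormalForm

/-!
Coordinates of the elements of the positive unipotent group, and supports in closed sets of roots.
-/

set_option autoImplicit false
set_option linter.unusedSectionVars false

namespace Cfsg.Agent.Lib.EvenInvolutions

open Cfsg.Lie Cfsg.Agent.Lib.ChevStructure
open scoped MatrixGroups Matrix

variable {D : ChevalleyDatum} (C : Core D)

/-- Closed under positive integral combinations. -/
def ClosedSet (T : Set (Rt D)) : Prop :=
  ∀ r ∈ T, ∀ s ∈ T, ∀ (q : Rt D) (i j : ℕ), 1 ≤ i → 1 ≤ j →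
    C.v q = (i : ℤ) • C.v r + (j : ℤ) • C.v s → q ∈ T

theorem wordX_filter {R : Type*} [CommRing R] (t : Rt D → R) (p : Rt D → Bool) :
    ∀ L : List (Rt D), C.wordX R L (fun r => if p r then t r else 0) = C.wordX R (L.filter p) t
  | [] => rfl
  | k :: L => by
    have e : C.wordX R (k :: L) (fun r => if p r then t r else 0) =
        C.X R k (if p k then t k else 0) * C.wordX R L (fun r => if p r then t r else 0) := rfl
    rw [e, wordX_filter t p L]
    cases hk : p k with
    | true => rw [List.filter_cons_of_pos hk, if_pos rfl]; rfl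
    | false => rw [List.filter_cons_of_neg (by simp [hk]), if_neg (by simp), C.X_zero, one_mul]

theorem mem_of_support {R : Type*} [CommRing R] {T : Set (Rt D)} {t : Rt D → R} {L : List (Rt D)}
    (h : ∀ r ∈ L, r ∉ T → t r = 0) : C.wordX R L t ∈ C.US R T := by
  refine list_prod_mem fun g hg => ?_
  rw [List.mem_map] at hg
  obtain ⟨r, hr, rfl⟩ := hg
  by_cases hT : r ∈ T
  · exact C.X_mem_US R hT _
  · rw [h r hr hT, C.X_zero]; exact one_mem _

variable {C} (H : CommOK C) {R : Type*} [CommRing R]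
include H

theorem exists_coords {T : Set (Rt D)} (hT : T ⊆ C.Pos) (hcl : ClosedSet C T) {g : GL D.Idx R}
    (hg : g ∈ C.US R T) : ∃ t : Rt D → R, g = C.wordX R C.posL t ∧ ∀ r, r ∉ T → t r = 0 := by
  classical
  set L := C.posL.filter fun r => decide (r ∈ T) with hL
  have hmem : ∀ r, r ∈ L ↔ r ∈ T := by
    intro r; simp [hL, C.mem_posL]; exact fun h => hT h
  obtain ⟨t, ht⟩ := H.exists_word (R := R) (C.posL_sorted.filter _ : L.Pairwise (· < ·))
    (fun r hr => hT ((hmem r).1 hr))
    (fun r hr s hs q i j hi hj hv => (hmem q).2 (hcl r ((hmem r).1 hr) s ((hmem s).1 hs) q i j hi hj hv))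
    (g := g) (by rwa [show {r | r ∈ L} = T from Set.ext hmem])
  refine ⟨fun r => if decide (r ∈ T) then t r else 0, ?_, fun r hr => by simp [hr]⟩
  rw [wordX_filter C t, ht]

omit H in
theorem coords_unique {t t' : Rt D → R} (h : C.wordX R C.posL t = C.wordX R C.posL t') {r : Rt D}
    (hr : r ∈ C.Pos) : t r = t' r :=
  C.wordX_unique R C.posL_sorted (fun _ hs => C.mem_posL.1 hs) h r (C.mem_posL.2 hr)

/-- A coordinate vanishes outside a closed set containing the element. -/
theorem coord_eq_zero {T : Set (Rt D)} (hT : T ⊆ C.Pos) (hcl : ClosedSet C T) {t : Rt D → R}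
    (hg : C.wordX R C.posL t ∈ C.US R T) {r : Rt D} (hr : r ∈ C.Pos) (hrT : r ∉ T) : t r = 0 := by
  obtain ⟨t', e, h'⟩ := exists_coords H hT hcl hg
  rw [coords_unique e hr, h' r hrT]

omit H in
theorem closed_posBut (i : Fin D.rank) : ClosedSet C (C.posBut i) := by
  intro r hr s hs q a b ha hb hv
  obtain ⟨m, hm, hpos⟩ := C.exists_other_coord hr.1 hr.2
  have hq : 0 < C.v q m := by
    rw [hv]
    simp only [Pi.add_apply, Pi.smul_apply, smul_eq_mul]
    have h1 : 0 < (a : ℤ) * C.v r m := mul_pos (by omega) hpos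
    have h2 : 0 ≤ (b : ℤ) * C.v s m := mul_nonneg (by omega) (C.v_nonneg hs.1 m)
    omega
  refine ⟨C.pos_of_coord hq, fun h => ?_⟩
  rw [Set.mem_singleton_iff] at h
  rw [h, C.v_p, Pi.single_apply, if_neg hm] at hq
  exact lt_irrefl 0 hq

end Cfsg.Agent.Lib.EvenInvolutions
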