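import Cfsg.Agent.Lib.ChevStructure.RankOne
import Cfsg.Agent.Lib.OddInvolutions.Reduce
import Cfsg.Agent.Lib.EvenInvolutions.Coords

/-!
Every involution of a finite Chevalley group is conjugate to an involution of N: among the conjugates
take one in a Bruhat cell of greatest length.
-/

set_option autoImplicit false
set_option linter.unusedSectionVars false

namespace Cfsg.Agent.Lib.EvenInvolutions

open Cfsg.Lie Cfsg.Agent.Lib.ChevStructure
open Cfsg.Agent.Lib.OddInvolutions (linV linV_v WG_rev' WG_pr sref_mem len_inv)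
open scoped MatrixGroups Matrix

variable {D : ChevalleyDatum}

/-- A conjugate of `g` lies in the cell of `σ`, in the form v·m. -/
def CellRep (C : Core D) {F : Type*} [Field F] (g : GL D.Idx F) (σ : Equiv.Perm (Rt D)) : Prop :=
  ∃ x ∈ D.group F, ∃ v ∈ C.US F C.Pos, ∃ m ∈ D.monomialSubgroup F, C.Acts m σ ∧ x * g * x⁻¹ = v * m

variable {C : Core D} {F : Type*} [Field F]

theorem acts_P (C : Core D) (i : Fin D.rank) : C.Acts (C.P F i) (C.sref i) := by
  simpa [Core.wprod, Core.pprod] using C.acts_wprod F [i]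

theorem sref_inv (C : Core D) (i : Fin D.rank) : (C.sref i)⁻¹ = C.sref i :=
  inv_eq_of_mul_eq_one_right (C.sref_mul_self i)

theorem CellRep.mem_WG {g : GL D.Idx F} {σ : Equiv.Perm (Rt D)} (h : CellRep C g σ) : σ ∈ C.WG := by
  obtain ⟨x, -, v, -, m, hm, ha, -⟩ := h
  obtain ⟨τ, hτ, hτa⟩ := C.exists_acts hm
  rwa [C.acts_unique F ha hτa]

theorem CellRep.conj {g : GL D.Idx F} {v m z : GL D.Idx F} {σ : Equiv.Perm (Rt D)} {x : GL D.Idx F}
    (hx : x ∈ D.group F) (he : x * g * x⁻¹ = v * m) (hz : z ∈ D.group F) {v' m' : GL D.Idx F}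
    (hv : v' ∈ C.US F C.Pos) (hm : m' ∈ D.monomialSubgroup F) (ha : C.Acts m' σ)
    (e : z * (v * m) * z⁻¹ = v' * m') : CellRep C g σ :=
  ⟨z * x, mul_mem hz hx, v', hv, m', hm, ha, by rw [← e, ← he]; group⟩

variable (H : CommOK C)
include H

/-- The facts about an involution of the form v·m. -/
theorem cell_facts {v m : GL D.Idx F} {σ : Equiv.Perm (Rt D)} (hv : v ∈ C.US F C.Pos)
    (hmN : m ∈ D.monomialSubgroup F) (hma : C.Acts m σ) (h2 : v * m * (v * m) = 1) :
    m * m = 1 ∧ v ∈ C.US F {r | r ∈ C.Pos ∧ σ r ∈ C.Pos} := by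
  have hinv : m⁻¹ = v * m * v := by
    refine inv_eq_of_mul_eq_one_left ?_
    rw [← h2]; group
  have hmm : m⁻¹ * m⁻¹ ∈ D.diagonalSubgroup F :=
    H.bruhat_unique hmN (inv_mem hmN) (C.posUS_le_borel hv) (C.posUS_le_borel hv) hinv
  obtain ⟨a, ha, c, hc, rfl⟩ := H.exists_factor
    (A := {x | σ x ∈ C.Neg}) (S := {x | σ x ∈ C.Pos})
    (fun x _ => (em _).symm.imp_left (C.neg_iff_not_pos _).2) hv
  have hcP : m * c * m⁻¹ ∈ C.US F C.Pos := C.conj_mem_US F hma (fun x hx => hx.1) hc
  have haN : m * a * m⁻¹ ∈ C.US F C.Neg := C.conj_mem_US F hma (fun x hx => hx.1) ha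
  have hvB : m * (a * c) * m⁻¹ ∈ D.borelSubgroup F := by
    have e : m * (a * c) * m⁻¹ = (a * c)⁻¹ * (m⁻¹ * m⁻¹) := by
      rw [hinv]
      calc m * (a * c) * (a * c * m * (a * c))
          = (a * c)⁻¹ * ((a * c * m * (a * c)) * (a * c * m * (a * c))) := by group
        _ = _ := rfl
    rw [e]
    exact mul_mem (inv_mem (C.posUS_le_borel hv)) (C.diagonal_le_borel hmm)
  have ha1 : a = 1 := by
    have h1 : m * a * m⁻¹ ∈ D.borelSubgroup F := by
      have e : m * a * m⁻¹ = m * (a * c) * m⁻¹ * (m * c * m⁻¹)⁻¹ := by group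
      rw [e]; exact mul_mem hvB (inv_mem (C.posUS_le_borel hcP))
    have h3 : m * a * m⁻¹ = 1 := by
      rw [← Subgroup.mem_bot, ← C.borel_inf_negUS]; exact ⟨h1, haN⟩
    rwa [mul_inv_eq_one, mul_eq_left] at h3
  subst ha1
  simp only [one_mul] at hv h2 hinv hvB ⊢
  refine ⟨?_, C.US_mono F ?_ hc⟩
  · have hz : c * (m * c * m⁻¹) ∈ C.US F C.Pos ⊓ D.diagonalSubgroup F := by
      refine ⟨mul_mem hv hcP, ?_⟩
      have e : c * (m * c * m⁻¹) = m⁻¹ * m⁻¹ := by
        conv_rhs => arg 1; rw [hinv]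
        group
      rw [e]; exact hmm
    rw [C.US_inf_diagonal, Subgroup.mem_bot] at hz
    calc m * m = (c * (m * c * m⁻¹)) * (m * m) := by rw [hz, one_mul]
      _ = c * m * (c * m) := by group
      _ = 1 := h2
  · rintro r ⟨h1, h3⟩
    first
      | exact ⟨h3, h1⟩
      | exact ⟨h1, h3⟩

theorem exists_cellRep {g : GL D.Idx F} (hg : g ∈ D.group F) : ∃ σ, CellRep C g σ := by
  obtain ⟨σ, b, hb, u, hu, rfl⟩ := H.exists_normalForm hg
  have huP : u ∈ C.US F C.Pos := C.US_mono F (fun _ h => h.1) hu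
  obtain ⟨v, hv, k, hk, hub⟩ := C.mem_borel_iff.1 (mul_mem (C.posUS_le_borel huP) hb)
  refine ⟨σ, u, C.US_le_group _ huP, v, hv, k * C.rep F σ,
    mul_mem (Subgroup.mem_sup_left hk) (C.rep_mem σ), ?_, ?_⟩
  · simpa using C.acts_mul F (C.acts_diagonal hk) (C.acts_rep F σ)
  · rw [← mul_assoc v, ← hub]; group

/-- Every involution is conjugate to an involution of N. -/
theorem exists_monomial_conj [Finite F] (hsign : ∀ (r : Rt D) (i : Fin D.rank), 0 < pr D r (C.p i) → 0 < A D i r)
    {g : GL D.Idx F} (hg : g ∈ D.group F) (h2 : g * g = 1) :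
    ∃ x ∈ D.group F, ∃ m ∈ D.monomialSubgroup F, m * m = 1 ∧ x * g * x⁻¹ = m := by
  classical
  obtain ⟨σ, hσmem, hmax⟩ := Set.exists_max_image {σ | CellRep C g σ} C.len (Set.toFinite _)
    (exists_cellRep H hg)
  replace hσmem : CellRep C g σ := hσmem
  replace hmax : ∀ τ, CellRep C g τ → C.len τ ≤ C.len σ := fun τ h => hmax τ h
  have hW := hσmem.mem_WG
  have hrev := WG_rev' C hW
  have sq : ∀ {x v m : GL D.Idx F}, x * g * x⁻¹ = v * m → v * m * (v * m) = 1 := by
    intro x v m e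
    rw [← e]
    calc x * g * x⁻¹ * (x * g * x⁻¹) = x * (g * g) * x⁻¹ := by group
      _ = 1 := by rw [h2]; group
  obtain ⟨x, hx, v, hv, m, hm, ha, he⟩ := hσmem
  have hσ2 : σ * σ = 1 := by
    refine C.acts_unique F (C.acts_mul F ha ha) ?_
    rw [(cell_facts H hv hm ha (sq he)).1]
    simpa [C.HT_one] using C.acts_HT F 1
  -- the simple roots kept positive are fixed
  have hJ : ∀ i, σ (C.p i) ∈ C.Pos → σ (C.p i) = C.p i := by
    intro i hpos
    by_contra hne
    obtain ⟨a, haU, t, rfl⟩ := H.exists_split_p i hv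
    obtain ⟨c, hc⟩ := ha (C.p i)
    have hq : σ (C.p i) ∈ C.posBut i := ⟨hpos, hne⟩
    have ha' : C.X F (C.p i) (-t) * a * (C.X F (C.p i) (-t))⁻¹ ∈ C.US F (C.posBut i) :=
      (Subgroup.mem_normalizer_iff.1 (H.mem_normalizer (C.absorb_p i) (-t)) a).1 haU
    set v' := C.X F (C.p i) (-t) * a * (C.X F (C.p i) (-t))⁻¹ * C.X F (σ (C.p i)) ((c : F) * t) with hv'
    have hv'U : v' ∈ C.US F (C.posBut i) := mul_mem ha' (C.X_mem_US F hq _)
    have e1 : C.X F (C.p i) (-t) * (a * C.X F (C.p i) t * m) * (C.X F (C.p i) (-t))⁻¹ = v' * m := by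
      rw [hv', ← hc t, C.X_inv, neg_neg]; group
    set P := C.P F i
    have hPv : P * v' * P⁻¹ ∈ C.US F C.Pos :=
      C.conj_mem_US F (acts_P C i) (fun r hr => (C.w_posBut hr).1) hv'U
    have hlen : C.len (C.sref i * σ * C.sref i) = C.len σ + 2 := by
      have h1 : C.len (σ * C.sref i) = C.len σ + 1 := C.len_mul_sref_pos hrev hpos
      have h3 : C.len (C.sref i * σ) = C.len σ + 1 := by
        rw [← h1, ← len_inv C (mul_mem hW (sref_mem C i)), _root_.mul_inv_rev, sref_inv,
          inv_eq_of_mul_eq_one_right hσ2]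
      rw [C.len_mul_sref_pos (WG_rev' C (mul_mem (sref_mem C i) hW)) ?_, h3]
      rw [Equiv.Perm.mul_apply, C.sref_apply]
      exact C.w_pos hpos hne
    have hrep : CellRep C g (C.sref i * σ * C.sref i) := by
      refine CellRep.conj (z := P * C.X F (C.p i) (-t)) (m' := P * m * P⁻¹) hx he
        (mul_mem (C.P_mem_group i) (C.X_mem_group _ _)) hPv
        (mul_mem (mul_mem (C.P_mem_monomial i) hm) (inv_mem (C.P_mem_monomial i))) ?_ ?_
      · have h := C.acts_mul F (C.acts_mul F (acts_P C i) ha) (C.acts_inv F (acts_P C i))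
        rwa [sref_inv] at h
      · calc P * C.X F (C.p i) (-t) * (a * C.X F (C.p i) t * m) * (P * C.X F (C.p i) (-t))⁻¹
            = P * (C.X F (C.p i) (-t) * (a * C.X F (C.p i) t * m) * (C.X F (C.p i) (-t))⁻¹) * P⁻¹ := by group
          _ = P * (v' * m) * P⁻¹ := by rw [e1]
          _ = _ := by group
    have := hmax _ hrep
    omega
  have hcomm : ∀ i, σ (C.p i) = C.p i → C.sref i * σ = σ * C.sref i := by
    intro i hi
    have hA : ∀ r, A D i (σ r) = A D i r := fun r => by
      rw [← C.pr_p, ← C.pr_p]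
      conv_lhs => rw [← hi]
      exact WG_pr C hW _ _
    refine Equiv.ext fun r => C.v_inj ?_
    rw [Equiv.Perm.mul_apply, Equiv.Perm.mul_apply, C.sref_apply, C.sref_apply, C.v_w, hA,
      ← linV_v C hW (C.w i r), C.v_w, map_sub, map_zsmul, ← C.v_p, linV_v C hW, linV_v C hW, hi]
  -- no coordinate at a fixed simple root
  have hZ : ∀ {x v m : GL D.Idx F}, x ∈ D.group F → v ∈ C.US F C.Pos → m ∈ D.monomialSubgroup F →
      C.Acts m σ → x * g * x⁻¹ = v * m → ∀ i, σ (C.p i) = C.p i → v ∈ C.US F (C.posBut i) := by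
    intro x v m hx hv hm ha he i hi
    obtain ⟨a, haU, t, rfl⟩ := H.exists_split_p i hv
    by_cases ht : t = 0
    · rw [ht, C.X_zero, mul_one]; exact haU
    exfalso
    set P := C.P F i
    set d : F := (C.η i (C.p i) : F) * t with hd
    have hd0 : d ≠ 0 := by rw [hd, C.η_p]; simpa using ht
    have hPX : P * C.X F (C.p i) t * P⁻¹ = C.X F (C.p i).rev d := by
      rw [hd, ← C.w_p i]; exact C.P_X_conj F i _ _
    set u : Fˣ := -(Units.mk0 d hd0)⁻¹ with hu
    have hX : C.X F (C.p i).rev d = C.X F (C.p i) (-(u : F)) * C.nR F (C.p i) u * C.X F (C.p i) (-(u : F)) := by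
      have : -((↑u⁻¹ : F)) = d := by simp [hu]
      rw [Core.nR, this, ← C.X_inv]; group
    set m' := P * m * P⁻¹
    have hm' : m' ∈ D.monomialSubgroup F :=
      mul_mem (mul_mem (C.P_mem_monomial i) hm) (inv_mem (C.P_mem_monomial i))
    have ha' : C.Acts m' σ := by
      have h := C.acts_mul F (C.acts_mul F (acts_P C i) ha) (C.acts_inv F (acts_P C i))
      rwa [sref_inv, hcomm i hi, mul_assoc σ, C.sref_mul_self, mul_one] at h
    obtain ⟨c, hc⟩ := C.acts_inv F ha' (C.p i)
    have hfix : σ⁻¹ (C.p i) = C.p i := by rw [inv_eq_of_mul_eq_one_right hσ2]; exact hi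
    have hmX := hc (-(u : F))
    rw [hfix, inv_inv] at hmX
    set y := C.X F (C.p i) ((c : F) * -(u : F)) with hy
    have hPa : P * a * P⁻¹ ∈ C.US F C.Pos :=
      C.conj_mem_US F (acts_P C i) (fun r hr => (C.w_posBut hr).1) haU
    have hyU : y ∈ C.US F C.Pos := C.X_mem_US F (C.p_pos i) _
    obtain ⟨sb, hsb, hsba, hsbr⟩ := Cfsg.Agent.Lib.OddInvolutions.acts_nR C (C.p i) u
    have hsb' : sb = C.sref i := Equiv.ext fun r => C.v_inj (by
      rw [hsbr r, C.sref_apply, C.v_w, C.pr_p, C.v_p])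
    subst hsb'
    have hrep : CellRep C g (C.sref i * σ) := by
      refine CellRep.conj (z := y * P) (v' := y * (P * a * P⁻¹) * C.X F (C.p i) (-(u : F)))
        (m' := C.nR F (C.p i) u * m') hx he (mul_mem (C.X_mem_group _ _) (C.P_mem_group i))
        (mul_mem (mul_mem hyU hPa) (C.X_mem_US F (C.p_pos i) _))
        (mul_mem (Cfsg.Agent.Lib.OddInvolutions.nR_mem_monomial C _ _) hm')
        (C.acts_mul F hsba ha') ?_
      have e1 : P * (a * C.X F (C.p i) t * m) * P⁻¹ = P * a * P⁻¹ * (P * C.X F (C.p i) t * P⁻¹) * m' := by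
        simp only [m']; group
      have e2 : C.X F (C.p i) (-(u : F)) * m' = m' * y := by
        rw [← hmX]; group
      calc y * P * (a * C.X F (C.p i) t * m) * (y * P)⁻¹
          = y * (P * (a * C.X F (C.p i) t * m) * P⁻¹) * y⁻¹ := by group
        _ = y * (P * a * P⁻¹) * C.X F (C.p i) (-(u : F)) * C.nR F (C.p i) u *
              (C.X F (C.p i) (-(u : F)) * m') * y⁻¹ := by rw [e1, hPX, hX]; group
        _ = _ := by rw [e2]; group
    have := hmax _ hrep
    rw [hcomm i hi, C.len_mul_sref_pos hrev (by rw [hi]; exact C.p_pos i)] at this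
    omega
  set S : Set (Rt D) := {r | r ∈ C.Pos ∧ σ r ∈ C.Pos}
  have hSS : ∀ r ∈ S, σ r ∈ S := fun r hr =>
    ⟨hr.2, by rw [← Equiv.Perm.mul_apply, hσ2, Equiv.Perm.one_apply]; exact hr.1⟩
  have hsupp : ∀ r ∈ S, ∀ j, C.v r j ≠ 0 → σ (C.p j) = C.p j := by
    intro r hr j hne
    by_contra hj
    refine hne (le_antisymm ?_ (C.v_nonneg hr.1 j))
    have e : C.v r = linV C σ (C.v (σ r)) := by
      rw [linV_v C hW, ← Equiv.Perm.mul_apply, hσ2, Equiv.Perm.one_apply]
    rw [e]
    show ∑ k, C.v (σ r) k * C.v (σ (C.p k)) j ≤ 0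
    refine Finset.sum_nonpos fun k _ => ?_
    by_cases hk : σ (C.p k) = C.p k
    · have : j ≠ k := fun h => hj (h ▸ hk)
      rw [hk, C.v_p, Pi.single_apply, if_neg this, mul_zero]
    · exact mul_nonpos_of_nonneg_of_nonpos (C.v_nonneg hr.2 k)
        (C.v_nonpos ((C.neg_iff_not_pos _).2 fun h => hk (hJ k h)) j)
  have hScl : ClosedSet C S := by
    intro r hr s hs q a b ha hb hv
    refine ⟨H.pos_closed hr.1 hs.1 hb hv, H.pos_closed (r := σ r) (s := σ s) (i := a) hr.2 hs.2 hb ?_⟩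
    rw [← linV_v C hW q, hv, map_add, map_zsmul, map_zsmul, linV_v C hW, linV_v C hW]
  let T : ℕ → Set (Rt D) := fun k => {r | r ∈ S ∧ (∀ i, σ (C.p i) = C.p i → r ≠ C.p i) ∧ k ≤ r.val}
  have hTcl : ∀ k, ClosedSet C (T k) := by
    intro k r hr s hs q a b ha hb hv
    refine ⟨hScl r hr.1 s hs.1 q a b ha hb hv, fun i hi => ?_, ?_⟩
    · exact (closed_posBut i r ⟨hr.1.1, hr.2.1 i hi⟩ s ⟨hs.1.1, hs.2.1 i hi⟩ q a b ha hb hv).2
    · have h1 := C.ht_pos hr.1.1
      have h2 := C.ht_pos hs.1.1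
      have h3 : C.ht r < C.ht q := by
        rw [C.ht_combo hv]
        have : C.ht r ≤ (a : ℤ) * C.ht r := le_mul_of_one_le_left h1.le (by omega)
        have : 0 < (b : ℤ) * C.ht s := mul_pos (by omega) h2
        omega
      have h4 : r.val < q.val := C.lt_of_ht_lt h3
      have := hr.2.2
      omega
  have main : ∀ (k : ℕ) {x v m : GL D.Idx F}, x ∈ D.group F → v ∈ C.US F C.Pos →
      m ∈ D.monomialSubgroup F → C.Acts m σ → x * g * x⁻¹ = v * m → v ∈ C.US F (T k) := by
    intro k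
    induction k with
    | zero =>
      intro x v m hx hv hm ha he
      obtain ⟨t, rfl, ht⟩ := exists_coords H (fun r hr => hr.1) hScl (cell_facts H hv hm ha (sq he)).2
      refine mem_of_support C fun r hr hrT => ?_
      by_cases hrS : r ∈ S
      · obtain ⟨i, hi, rfl⟩ : ∃ i, σ (C.p i) = C.p i ∧ r = C.p i := by
          by_contra hc
          push Not at hc
          exact hrT ⟨hrS, fun i hi => hc i hi, Nat.zero_le _⟩
        exact coord_eq_zero H (fun r hr => hr.1) (closed_posBut i) (hZ hx hv hm ha he i hi) (C.p_pos i)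
          (fun h => h.2 rfl)
      · exact ht r hrS
    | succ k ih =>
      intro x v m hx hv hm ha he
      obtain ⟨t, rfl, ht⟩ := exists_coords H (fun r hr => hr.1.1) (hTcl k) (ih hx hv hm ha he)
      refine mem_of_support C fun r hrp hrT => ?_
      by_cases hrk : r ∈ T k
      swap
      · exact ht r hrk
      have hk : r.val = k := by
        by_contra hne
        exact hrT ⟨hrk.1, hrk.2.1, by have := hrk.2.2; omega⟩
      have hr0 := hrk.1.1
      obtain ⟨i, hvi, hpri⟩ : ∃ i, 0 < C.v r i ∧ 0 < pr D r (C.p i) := by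
        by_contra hc
        push Not at hc
        have h := C.pr_lin r r
        rw [C.pr_self] at h
        have : ∑ j, C.v r j * pr D r (C.p j) ≤ 0 := by
          refine Finset.sum_nonpos fun j _ => ?_
          rcases (C.v_nonneg hr0 j).lt_or_eq with hpos | h0
          · exact mul_nonpos_of_nonneg_of_nonpos hpos.le (hc j hpos)
          · rw [← h0, zero_mul]
        omega
      have hi : σ (C.p i) = C.p i := hsupp r hrk.1 i hvi.ne'
      have hlt : (C.w i r).val < k := by
        rw [← hk]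
        refine C.lt_of_ht_lt ?_
        have e := C.ht_combo (r := r) (s := C.p i) (q := C.w i r) (i := 1) (j := -A D i r)
          (by rw [C.v_w, C.v_p]; module)
        have := mul_pos (hsign r i hpri) (C.ht_pos (C.p_pos i))
        rw [e]
        linarith
      set P := C.P F i
      have hvi' : C.wordX F C.posL t ∈ C.US F (C.posBut i) := hZ hx hv hm ha he i hi
      have hPv : P * C.wordX F C.posL t * P⁻¹ ∈ C.US F C.Pos :=
        C.conj_mem_US F (acts_P C i) (fun r hr => (C.w_posBut hr).1) hvi'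
      have hPm : C.Acts (P * m * P⁻¹) σ := by
        have h := C.acts_mul F (C.acts_mul F (acts_P C i) ha) (C.acts_inv F (acts_P C i))
        rwa [sref_inv, hcomm i hi, mul_assoc σ, C.sref_mul_self, mul_one] at h
      have hk' := ih (x := P * x) (mul_mem (C.P_mem_group i) hx) hPv
        (mul_mem (mul_mem (C.P_mem_monomial i) hm) (inv_mem (C.P_mem_monomial i))) hPm
        (by
          calc P * x * g * (P * x)⁻¹ = P * (x * g * x⁻¹) * P⁻¹ := by group
            _ = _ := by rw [he]; simp only [P]; group)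
      let U : Set (Rt D) := {q | q ∈ C.Pos ∧ C.w i q ∈ T k}
      have hUcl : ClosedSet C U := by
        intro a' ha' b' hb' q a b hpa hpb hv'
        refine ⟨H.pos_closed ha'.1 hb'.1 hpb hv', hTcl k _ ha'.2 _ hb'.2 _ a b hpa hpb ?_⟩
        rw [← C.sref_apply, ← linV_v C (sref_mem C i), hv', map_add, map_zsmul, map_zsmul,
          linV_v C (sref_mem C i), linV_v C (sref_mem C i), C.sref_apply, C.sref_apply]
      have hback : C.wordX F C.posL t ∈ C.US F U := by
        have h := C.conj_mem_US F (C.acts_inv F (acts_P C i)) (T := U) (fun q hq => by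
          rw [sref_inv, C.sref_apply]
          exact ⟨(C.w_posBut ⟨hq.1.1, hq.2.1 i hi⟩).1, by rw [C.w_w]; exact hq⟩) hk'
        have e : P⁻¹ * (P * C.wordX F C.posL t * P⁻¹) * P⁻¹⁻¹ = C.wordX F C.posL t := by group
        rwa [e] at h
      exact coord_eq_zero H (fun q hq => hq.1) hUcl hback hr0 (fun h => by
        have := h.2.2.2
        omega)
  have hv1 : v = 1 := by
    have h := main D.nroots hx hv hm ha he
    have hT : T D.nroots = ∅ := Set.eq_empty_iff_forall_notMem.2 fun r hr => by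
      have := r.isLt; have := hr.2.2; omega
    rw [hT] at h
    have hb : C.US F (∅ : Set (Rt D)) ≤ ⊥ := (Subgroup.closure_le _).2 (by rintro z ⟨r, hr, -⟩; exact hr.elim)
    exact Subgroup.mem_bot.1 (hb h)
  exact ⟨x, hx, m, hm, (cell_facts H hv hm ha (sq he)).1, by rw [he, hv1, one_mul]⟩

end Cfsg.Agent.Lib.EvenInvolutions
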