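import Cfsg.Agent.Lib.OddInvolutions.SL2Pair
import Cfsg.Agent.Lib.EvenInvolutions.MaxCell
import Mathlib.Algebra.CharP.Two
import Mathlib.FieldTheory.Finite.Basic

/-!
In characteristic two an involution of N is conjugate to a product of root elements x_β(1) over one of
the representative sets of orthogonal roots.
-/

set_option autoImplicit false
set_option linter.unusedSectionVars false

namespace Cfsg.Agent.Lib.EvenInvolutions

open Cfsg.Lie Cfsg.Agent.Lib.ChevStructure
open Cfsg.Agent.Lib.OddInvolutions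
open scoped MatrixGroups Matrix

variable {D : ChevalleyDatum}

/-- The sum of the terms pr(β, x) v β. -/
def formV (C : Core D) (L : List (Rt D)) (x : Rt D) : Fin D.rank → ℤ :=
  (L.map fun β => pr D β x • C.v β).sum

theorem formV_map (C : Core D) {τ : Equiv.Perm (Rt D)} (hτ : τ ∈ C.WG) (L : List (Rt D)) (x : Rt D) :
    formV C (L.map τ) x = linV C τ (formV C L (τ⁻¹ x)) := by
  unfold formV
  rw [map_list_sum, List.map_map, List.map_map]
  refine congrArg List.sum (List.map_congr_left fun β _ => ?_)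
  simp only [Function.comp_apply, map_zsmul, linV_v C hτ]
  congr 1
  rw [← WG_pr C hτ β (τ⁻¹ x)]
  simp

theorem formV_cons (C : Core D) (b : Rt D) (L : List (Rt D)) (x : Rt D) :
    formV C (b :: L) x = pr D b x • C.v b + formV C L x := rfl

theorem formV_perm (C : Core D) {L L' : List (Rt D)} (h : L.Perm L') (x : Rt D) :
    formV C L x = formV C L' x := (h.map _).sum_eq

theorem prV_formV (C : Core D) (δ : Rt D) (L : List (Rt D)) (x : Rt D) :
    prV C δ (formV C L x) = (L.map fun β => pr D β x * pr D δ β).sum := by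
  unfold formV
  rw [map_list_sum, List.map_map]
  refine congrArg List.sum (List.map_congr_left fun β _ => ?_)
  simp only [Function.comp_apply, map_zsmul, prV_v C, smul_eq_mul]

theorem prV_formV_self (C : Core D) {γ : Rt D} : ∀ {L : List (Rt D)}, L.Pairwise Orth → γ ∈ L → ∀ x,
    prV C γ (formV C L x) = 2 * pr D γ x
  | [], _, h, _ => by simp at h
  | b :: L, hP, h, x => by
    obtain ⟨hb, hP'⟩ := List.pairwise_cons.1 hP
    rw [formV_cons, map_add, map_zsmul, prV_v C, smul_eq_mul]
    rcases List.mem_cons.1 h with rfl | h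
    · rw [C.pr_self, prV_formV, List.sum_eq_zero, add_zero, mul_comm]
      intro z hz
      obtain ⟨δ, hδ, rfl⟩ := List.mem_map.1 hz
      rw [(hb δ hδ).1, mul_zero]
    · rw [prV_formV_self C hP' h, (hb γ h).2, mul_zero, zero_add]

/-- The representative sets absorb every orthogonal root, up to the Weyl group and the reflection product. -/
def Cover (C : Core D) (reps : List (List (Rt D))) : Prop :=
  [] ∈ reps ∧ ∀ R ∈ reps, ∀ δ, (∀ γ ∈ R, Orth γ δ) →
    ∃ W : List (Fin D.rank), ∃ R' ∈ reps, ∀ x, formV C ((δ :: R).map (C.pprod W)) x = formV C R' x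

theorem exists_rep {C : Core D} {reps : List (List (Rt D))} (hc : Cover C reps)
    (hR : ∀ R ∈ reps, R.Pairwise Orth) : ∀ {L : List (Rt D)}, L.Pairwise Orth →
    ∃ τ ∈ C.WG, ∃ R ∈ reps, ∀ x, formV C (L.map τ) x = formV C R x
  | [], _ => ⟨1, one_mem _, [], hc.1, fun _ => rfl⟩
  | δ :: L, hP => by
    obtain ⟨hδ, hP'⟩ := List.pairwise_cons.1 hP
    obtain ⟨τ, hτ, R, hRm, hf⟩ := exists_rep hc hR hP'
    have horth : ∀ γ ∈ R, Orth γ (τ δ) := by
      intro γ hγ
      constructor
      · have h := prV_formV_self C (hR R hRm) hγ (τ δ)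
        rw [← hf, prV_formV, List.sum_eq_zero] at h
        · omega
        · intro z hz
          obtain ⟨b, hb, rfl⟩ := List.mem_map.1 hz
          obtain ⟨a, ha, rfl⟩ := List.mem_map.1 hb
          rw [WG_pr C hτ, (hδ a ha).2, zero_mul]
      · have h := congrArg (prV C (τ δ)) (hf γ)
        rw [prV_formV, List.sum_eq_zero] at h
        · have e : formV C R γ = 2 • C.v γ := by
            have : ∀ {L : List (Rt D)}, L.Pairwise Orth → γ ∈ L → formV C L γ = 2 • C.v γ := by
              intro L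
              induction L with
              | nil => simp
              | cons b L ih =>
                intro hP hm
                obtain ⟨hb, hP'⟩ := List.pairwise_cons.1 hP
                rw [formV_cons]
                rcases List.mem_cons.1 hm with rfl | hm
                · rw [C.pr_self, show formV C L γ = 0 from List.sum_eq_zero fun z hz => ?_, add_zero]
                  · rw [← natCast_zsmul]; rfl
                  · obtain ⟨a, ha, rfl⟩ := List.mem_map.1 hz
                    rw [(hb a ha).2, zero_smul]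
                · rw [(hb γ hm).1, zero_smul, zero_add, ih hP' hm]
            exact this (hR R hRm) hγ
          rw [e, map_nsmul, prV_v C, nsmul_eq_mul] at h
          push_cast at h
          omega
        · intro z hz
          obtain ⟨b, hb, rfl⟩ := List.mem_map.1 hz
          obtain ⟨a, ha, rfl⟩ := List.mem_map.1 hb
          rw [WG_pr C hτ δ a, (hδ a ha).1, mul_zero]
    obtain ⟨W, R', hR', hf'⟩ := hc.2 R hRm (τ δ) horth
    have hW := C.pprod_mem_WG W
    refine ⟨C.pprod W * τ, mul_mem hW hτ, R', hR', fun x => ?_⟩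
    rw [← hf', List.map_cons, List.map_cons, formV_cons, formV_cons]
    congr 1
    rw [show L.map ⇑(C.pprod W * τ) = (L.map τ).map (C.pprod W) by
      rw [List.map_map]; rfl, formV_map C hW, hf, ← formV_map C hW]

/-- The product of root elements x_β(1). -/
def xProd (C : Core D) (F : Type*) [Field F] (L : List (Rt D)) : GL D.Idx F :=
  (L.map fun β => C.X F β 1).prod

variable {C : Core D} {F : Type*} [Field F]

theorem hD_commute_nR {β γ : Rt D} (h : Comm4 C F β γ) (a b : Fˣ) :
    Commute (Core.hD F β a) (C.nR F γ b) := by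
  rw [← C.hR_eq F β a]
  exact (h.nR_nR a b).mul_left (h.nR_nR (-1) b)

theorem prod_hD (C : Core D) (ε : Rt D → Fˣ) : ∀ L : List (Rt D),
    (L.map fun β => Core.hD F β (ε β)).prod = Core.diag F fun s => (L.map fun β => ε β ^ pr D β s).prod
  | [] => (Core.diag_one C F).symm
  | b :: L => by
    rw [List.map_cons, List.prod_cons, prod_hD C ε L, Core.hD, C.diag_mul]
    rfl

variable [CharP F 2]

theorem units_neg_one : (-1 : Fˣ) = 1 := Units.ext (by simp [CharTwo.neg_eq])

theorem prod_hD_mul (ε : Rt D → Fˣ) : ∀ {L : List (Rt D)}, L.Pairwise (fun a b => Orth a b ∧ Comm4 C F a b) →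
    (L.map fun β => Core.hD F β (ε β)).prod * nProd C F L = (L.map fun β => C.nR F β (ε β)).prod
  | [], _ => by simp [nProd]
  | b :: L, hP => by
    obtain ⟨hb, hP'⟩ := List.pairwise_cons.1 hP
    have hn : Core.hD F b (ε b) * C.nR F b 1 = C.nR F b (ε b) := by
      rw [← C.hR_eq F b (ε b), units_neg_one, mul_assoc, C.nR_mul]
      simp [units_neg_one, Core.hD, show (fun _ : Rt D => (1 : Fˣ)) = 1 from rfl, C.diag_one]
    have hc : Commute (L.map fun β => Core.hD F β (ε β)).prod (C.nR F b 1) := Commute.list_prod_left _ _ fun g hg => by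
      obtain ⟨γ, hγ, rfl⟩ := List.mem_map.1 hg
      exact hD_commute_nR (hb γ hγ).2.symm _ _
    have e : nProd C F (b :: L) = C.nR F b 1 * nProd C F L := by simp [nProd]
    rw [List.map_cons, List.prod_cons, List.map_cons, List.prod_cons, e, ← prod_hD_mul ε hP', ← hn]
    calc Core.hD F b (ε b) * (L.map fun β => Core.hD F β (ε β)).prod * (C.nR F b 1 * nProd C F L)
        = Core.hD F b (ε b) * ((L.map fun β => Core.hD F β (ε β)).prod * C.nR F b 1) * nProd C F L := by group
      _ = _ := by rw [hc.eq]; group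

/-- The product of the n_β(ε_β) is conjugate to the product of the x_β(1). -/
theorem prod_nR_conj {e : Fˣ → Fˣ} (he : ∀ u, e u * e u = u) (ε : Rt D → Fˣ) :
    ∀ {L : List (Rt D)}, L.Pairwise (fun a b => Orth a b ∧ Comm4 C F a b) →
      ∃ g : GL D.Idx F, g ∈ D.group F ∧
        (∀ β : Rt D, (∀ γ ∈ L, Comm4 C F β γ) → ∀ y ∈ C.US F {β} ⊔ C.US F {β.rev}, Commute y g) ∧
        g * xProd C F L * g⁻¹ = (L.map fun β => C.nR F β (ε β)).prod
  | [], _ => ⟨1, one_mem _, fun _ _ y _ => Commute.one_right y, by simp [xProd]⟩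
  | b :: L, hP => by
    obtain ⟨hb, hP'⟩ := List.pairwise_cons.1 hP
    obtain ⟨g, hg, hgc, hge⟩ := prod_nR_conj he ε hP'
    obtain ⟨φ, hφr, hφ⟩ := C.exists_slHom F b
    set s := e (ε b)
    have hs : (s : F) * (s : F) = (ε b : F) := congrArg Units.val (he (ε b))
    have hs0 : (s : F) ≠ 0 := s.ne_zero
    let A : Matrix.SpecialLinearGroup (Fin 2) F :=
      ⟨!![(s : F), 0; (s : F)⁻¹, (s : F)⁻¹], by rw [Matrix.det_fin_two_of]; simp [hs0]⟩
    have hA : A * slU 1 * A⁻¹ = slN (ε b) := by
      rw [mul_inv_eq_iff_eq_mul]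
      apply Subtype.ext
      rw [Matrix.SpecialLinearGroup.coe_mul, Matrix.SpecialLinearGroup.coe_mul, slN_val, slU_val]
      ext i j
      fin_cases i <;> fin_cases j <;>
        simp [A, Matrix.mul_fin_two, Units.val_inv_eq_inv_val, ← hs, CharTwo.neg_eq, CharTwo.add_self_eq_zero,
          mul_assoc, hs0]
    have hmem : ∀ a, φ a ∈ C.US F {b} ⊔ C.US F {b.rev} := fun a => hφr ▸ ⟨a, rfl⟩
    have hnR : φ (slN (ε b)) = C.nR F b (ε b) := by
      rw [slN, map_mul, map_mul, (hφ _).1, (hφ _).2]; rfl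
    have hb4 : ∀ γ ∈ L, Comm4 C F b γ := fun γ hγ => (hb γ hγ).2
    have hcg : ∀ a, Commute (φ a) g := fun a => hgc b hb4 _ (hmem a)
    have hXb : C.X F b 1 = φ (slU 1) := ((hφ 1).1).symm
    have hcx : Commute (φ A) ((L.map fun β => C.nR F β (ε β)).prod) :=
      Commute.list_prod_right _ _ fun z hz => by
        obtain ⟨γ, hγ, rfl⟩ := List.mem_map.1 hz
        refine commute_of_comm4 (hb4 γ hγ) (hmem A) ?_
        exact mul_mem (mul_mem (Subgroup.mem_sup_left (C.X_mem_US F (Set.mem_singleton _) _))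
          (Subgroup.mem_sup_right (C.X_mem_US F (Set.mem_singleton _) _)))
          (Subgroup.mem_sup_left (C.X_mem_US F (Set.mem_singleton _) _))
    refine ⟨φ A * g, mul_mem (sup_le (C.US_le_group _) (C.US_le_group _) (hmem A)) hg, fun β hβ y hy => ?_, ?_⟩
    · refine Commute.mul_right (commute_of_comm4 (hβ b List.mem_cons_self) hy (hmem A)) (hgc β ?_ y hy)
      exact fun γ hγ => hβ γ (List.mem_cons_of_mem _ hγ)
    · have e1 : xProd C F (b :: L) = C.X F b 1 * xProd C F L := rfl
      rw [e1, List.map_cons, List.prod_cons, ← hnR, ← hA, hXb, map_mul, map_mul, map_inv]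
      calc φ A * g * (φ (slU 1) * xProd C F L) * (φ A * g)⁻¹
          = φ A * (g * φ (slU 1)) * (xProd C F L * g⁻¹) * (φ A)⁻¹ := by group
        _ = φ A * φ (slU 1) * ((L.map fun β => C.nR F β (ε β)).prod * (φ A)⁻¹) := by
          rw [← (hcg _).eq, ← hge]; group
        _ = _ := by rw [← hcx.inv_left.eq]; group

/-- An involution of N is conjugate to the product over a representative set. -/
theorem monomial_rep [Finite F] (H : CommOK C) {reps : List (List (Rt D))} (hc : Cover C reps)
    (hR : ∀ R ∈ reps, R.Pairwise (fun a b => Orth a b ∧ Comm4 C F a b)) {m : GL D.Idx F}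
    (hm : m ∈ D.monomialSubgroup F) (h2 : m * m = 1) :
    ∃ R ∈ reps, ∃ g ∈ D.group F, g * m * g⁻¹ = xProd C F R := by
  classical
  obtain ⟨σ, hσ, ha⟩ := C.exists_acts hm
  have hσ2 : σ * σ = 1 := by
    refine C.acts_unique F (C.acts_mul F ha ha) ?_
    rw [h2]; simpa [C.HT_one] using C.acts_HT F 1
  obtain ⟨L, hL, -, hv⟩ := exists_orth C hσ hσ2
  obtain ⟨τ, hτ, R, hRm, hf⟩ := exists_rep hc (fun R h => (hR R h).imp And.left) hL
  obtain ⟨W, rfl⟩ := C.mem_WG_iff.1 hτ
  set Q := C.wprod F W
  have hQN : Q ∈ D.monomialSubgroup F := C.wprod_mem_monomial W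
  set m' := Q * m * Q⁻¹ with hm'
  have hm'N : m' ∈ D.monomialSubgroup F := mul_mem (mul_mem hQN hm) (inv_mem hQN)
  have hm'2 : m' * m' = 1 := by
    calc m' * m' = Q * (m * m) * Q⁻¹ := by rw [hm']; group
      _ = 1 := by rw [h2]; group
  have ha' := C.acts_mul F (C.acts_mul F (C.acts_wprod F W) ha) (C.acts_inv F (C.acts_wprod F W))
  obtain ⟨⟨ρ, hρ, hρa, hρv⟩, hsq, -⟩ := nProd_spec (hR R hRm)
  have heq : C.pprod W * σ * (C.pprod W)⁻¹ = ρ := by
    refine Equiv.ext fun x => C.v_inj ?_
    rw [Equiv.Perm.mul_apply, Equiv.Perm.mul_apply, ← linV_v C (C.pprod_mem_WG W), hv, map_sub,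
      linV_v C (C.pprod_mem_WG W), hρv, Equiv.Perm.inv_def, Equiv.apply_symm_apply]
    change _ - linV C (C.pprod W) (formV C L ((C.pprod W)⁻¹ x)) = _ - formV C R x
    rw [← formV_map C (C.pprod_mem_WG W), hf]
  rw [heq] at ha'
  set n0 := nProd C F R
  have hn0 : n0 * n0 = 1 := by
    rw [hsq, units_neg_one]
    simpa [Pi.one_def] using Core.diag_one C F
  have hn0N : n0 ∈ D.monomialSubgroup F := list_prod_mem fun z hz => by
    obtain ⟨γ, -, rfl⟩ := List.mem_map.1 hz
    exact nR_mem_monomial C γ 1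
  obtain ⟨c, hk⟩ := C.mem_diagonal_iff.1 (C.mem_diagonal_of_acts_one (mul_mem hm'N (inv_mem hn0N))
    (by simpa using C.acts_mul F ha' (C.acts_inv F hρa)))
  have hm'e : m' = C.HT F c * n0 := by
    first
      | rw [hk, inv_mul_cancel_right]
      | rw [← hk, inv_mul_cancel_right]
  set χ := C.chA c
  choose e he using hρa
  have hρρ : ∀ s, ρ (ρ s) = s := fun s => by
    have : ρ * ρ = 1 := by
      refine C.acts_unique F (C.acts_mul F (g := n0) (h := n0) ?_ ?_) ?_
      · exact fun r => ⟨e r, he r⟩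
      · exact fun r => ⟨e r, he r⟩
      · rw [hn0]; simpa [C.HT_one] using C.acts_HT F 1
    rw [← Equiv.Perm.mul_apply, this, Equiv.Perm.one_apply]
  have hχ : ∀ s, χ s * χ (ρ s) = 1 := by
    intro s
    have hee : (e (ρ s) : F) * e s = 1 := by
      refine X_inj C (r := s) ?_
      have h := he (ρ s) ((e s : F) * 1)
      rw [← he s 1, hρρ s] at h
      rw [mul_one] at h
      calc C.X F s ((e (ρ s) : F) * e s) = n0 * (n0 * C.X F s 1 * n0⁻¹) * n0⁻¹ := h.symm
        _ = (n0 * n0) * C.X F s 1 * (n0 * n0)⁻¹ := by group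
        _ = C.X F s 1 := by rw [hn0]; group
    have hstep : ∀ r t, m' * C.X F r t * m'⁻¹ = C.X F (ρ r) ((χ (ρ r) : F) * ((e r : F) * t)) := by
      intro r t
      calc m' * C.X F r t * m'⁻¹ = C.HT F c * (n0 * C.X F r t * n0⁻¹) * (C.HT F c)⁻¹ := by rw [hm'e]; group
        _ = _ := by rw [he r t, C.HT_X_conj]
    have h := hstep (ρ s) ((χ (ρ s) : F) * ((e s : F) * 1))
    rw [← hstep s 1, hρρ s] at h
    have e0 : m' * (m' * C.X F s 1 * m'⁻¹) * m'⁻¹ = C.X F s 1 := by
      calc m' * (m' * C.X F s 1 * m'⁻¹) * m'⁻¹ = (m' * m') * C.X F s 1 * (m' * m')⁻¹ := by group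
        _ = C.X F s 1 := by rw [hm'2]; group
    rw [e0] at h
    refine Units.ext ?_
    have h' := X_inj C h
    push_cast
    linear_combination (χ s : F) * (χ (ρ s) : F) * (-1) * hee - h'
  have hchi : ∀ s, χ s * χ s = (R.map fun β => χ β ^ pr D β s).prod := by
    intro s
    set f := chv fun m => C.chA c (C.p m)
    have h1 : Additive.ofMul (χ (ρ s)) = Additive.ofMul (χ s) - (R.map fun β => pr D β s • Additive.ofMul (χ β)).sum := by
      rw [chA_eq_chv C c, hρv, map_sub, ← chA_eq_chv C c, map_list_sum, List.map_map]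
      congr 2
      refine List.map_congr_left fun β _ => ?_
      rw [Function.comp_apply, map_zsmul, ← chA_eq_chv C c]
    have h2' : Additive.ofMul (χ s) + Additive.ofMul (χ (ρ s)) = 0 := by
      rw [← ofMul_mul, hχ]; rfl
    rw [h1] at h2'
    have h3 : Additive.ofMul (χ s * χ s) = (R.map fun β => pr D β s • Additive.ofMul (χ β)).sum := by
      rw [ofMul_mul]
      exact sub_eq_zero.1 (by rw [← h2']; abel)
    have h4 := congrArg Additive.toMul h3
    rw [toMul_ofMul, toMul_list_sum, List.map_map] at h4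
    exact h4
  obtain ⟨rt, hsqrt⟩ : ∃ rt : Fˣ → Fˣ, ∀ u, rt u * rt u = u := by
    have key : ∀ u : Fˣ, ∃ w : Fˣ, w * w = u := fun u => by
      obtain ⟨w, hw⟩ := FiniteField.isSquare_of_char_two (ringChar.eq F 2) (u : F)
      have hw0 : w ≠ 0 := fun h => u.ne_zero (by rw [hw, h, mul_zero])
      exact ⟨Units.mk0 w hw0, Units.ext hw.symm⟩
    exact ⟨fun u => (key u).choose, fun u => (key u).choose_spec⟩
  set ε := fun β => rt (χ β)
  have hT : C.HT F c = (R.map fun β => Core.hD F β (ε β)).prod := by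
    rw [prod_hD C, Core.HT]
    congr 1
    funext s
    change χ s = _
    refine Units.ext (CharTwo.sq_injective ?_)
    show (χ s : F) ^ 2 = _ ^ 2
    rw [sq, sq, ← Units.val_mul, ← Units.val_mul, hchi s, ← List.prod_map_mul]
    congr 2
    refine List.map_congr_left fun β _ => ?_
    rw [← mul_zpow, hsqrt]
  obtain ⟨g, hg, -, hge⟩ := prod_nR_conj hsqrt ε (hR R hRm)
  rw [← prod_hD_mul ε (hR R hRm), ← hT, ← hm'e, hm'] at hge
  refine ⟨R, hRm, g⁻¹ * Q, mul_mem (inv_mem hg) (C.monomial_le_group hQN), ?_⟩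
  calc g⁻¹ * Q * m * (g⁻¹ * Q)⁻¹ = g⁻¹ * (Q * m * Q⁻¹) * g := by group
    _ = _ := by rw [← hge]; group

end Cfsg.Agent.Lib.EvenInvolutions
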