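import Cfsg.Agent.Lib.LieTwisted.Twist.Base
import Cfsg.Agent.Lib.EvenInvolutions.Coords
import Cfsg.Agent.Lib.OddInvolutions.Reflection

/-!
Orbits of simple roots in a twisted group: their roots, and the elements of the twisted Weyl group fixing them.
-/

set_option autoImplicit false
set_option linter.unusedSectionVars false

namespace Cfsg.Agent.Lib.EvenInvolutions

open Cfsg.Lie Cfsg.Agent.Lib.ChevStructure Cfsg.Agent.Lib.LieTwisted.Twist
open Cfsg.Agent.Lib.OddInvolutions (linV linV_v WG_rev' WG_pr sref_mem len_inv)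
open scoped MatrixGroups Matrix

variable {D : ChevalleyDatum} {C : Core D} {K : Type*} [Field K]

theorem sref_conj {σ : Equiv.Perm (Rt D)} (hσ : σ ∈ C.WG) {i k : Fin D.rank} (h : σ (C.p i) = C.p k) :
    σ * C.sref i = C.sref k * σ := by
  have hA : ∀ r, A D k (σ r) = A D i r := fun r => by
    rw [← C.pr_p, ← C.pr_p, ← h, WG_pr C hσ]
  refine Equiv.ext fun r => C.v_inj ?_
  rw [Equiv.Perm.mul_apply, Equiv.Perm.mul_apply, C.sref_apply, C.sref_apply, C.v_w, hA,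
    ← linV_v C hσ (C.w i r), C.v_w, map_sub, map_zsmul, ← C.v_p, linV_v C hσ, linV_v C hσ, h, C.v_p]

theorem pprod_conj {σ : Equiv.Perm (Rt D)} (hσ : σ ∈ C.WG) (f : Fin D.rank → Fin D.rank) :
    ∀ L : List (Fin D.rank), (∀ i ∈ L, σ (C.p i) = C.p (f i)) →
      σ * C.pprod L = C.pprod (L.map f) * σ
  | [], _ => by simp [C.pprod_nil]
  | i :: L, h => by
    rw [C.pprod_cons, List.map_cons, C.pprod_cons, ← mul_assoc, sref_conj hσ (h i List.mem_cons_self),
      mul_assoc, pprod_conj hσ f L fun j hj => h j (List.mem_cons_of_mem _ hj), ← mul_assoc]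

variable (T : Tw C K)

/-- The root is a combination of the roots of the orbit. -/
def InO (m : Fin T.nn) (r : Rt D) : Prop := ∀ j, C.v r j ≠ 0 → T.idx j = m

/-- The positive roots outside the span of an orbit. -/
def outO (m : Fin T.nn) : Set (Rt D) := {r | r ∈ C.Pos ∧ ¬ InO T m r}

variable {T}

theorem wO_coord {m : Fin T.nn} (r : Rt D) {j : Fin D.rank} (hj : T.idx j ≠ m) :
    C.v (T.wO m r) j = C.v r j :=
  T.pprod_coord (T.J m) r j fun h => hj ((T.mem_J j m).1 h)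

theorem not_inO_iff {m : Fin T.nn} {r : Rt D} : ¬ InO T m r ↔ ∃ j, C.v r j ≠ 0 ∧ T.idx j ≠ m := by
  simp [InO]

theorem inO_wO {m : Fin T.nn} {r : Rt D} : InO T m (T.wO m r) ↔ InO T m r := by
  constructor <;> intro h j hj <;> by_contra hne
  · exact hne (h j (by rwa [wO_coord r hne]))
  · exact hne (h j (by rwa [wO_coord r hne] at hj))

theorem inO_p {m : Fin T.nn} {j : Fin D.rank} : InO T m (C.p j) ↔ T.idx j = m := by
  constructor
  · intro h; exact h j (by simp [C.v_p])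
  · intro h k hk
    rw [C.v_p, Pi.single_apply] at hk
    split_ifs at hk with e
    · rwa [e]
    · exact absurd rfl hk

theorem inv'_wO {m : Fin T.nn} {r : Rt D} : r ∈ C.inv' (T.wO m) ↔ r ∈ C.Pos ∧ InO T m r :=
  ⟨fun h => ⟨h.1, fun _ hj => T.inv'_supp m h hj⟩, fun h => ⟨h.1,
    T.neg_of_simple (T.mem_WT.1 (T.wO_mem m)).1 h.1 fun j hj => T.J_neg m j ((T.mem_J j m).2 (h.2 j hj))⟩⟩

theorem wO_outO {m : Fin T.nn} {r : Rt D} (h : r ∈ outO T m) : T.wO m r ∈ outO T m := by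
  refine ⟨?_, fun hh => h.2 (inO_wO.1 hh)⟩
  obtain ⟨j, hj, hne⟩ := not_inO_iff.1 h.2
  refine C.pos_of_coord (m := j) ?_
  rw [wO_coord r hne]
  exact lt_of_le_of_ne (C.v_nonneg h.1 j) (Ne.symm hj)

theorem pos_not_inv' {m : Fin T.nn} {r : Rt D} (h : r ∈ C.Pos) (hn : r ∉ C.inv' (T.wO m)) : r ∈ outO T m :=
  ⟨h, fun hh => hn (inv'_wO.2 ⟨h, hh⟩)⟩

/-- A positive root of a combination having an outside root is outside. -/
theorem outO_combo {m : Fin T.nn} {r s q : Rt D} {a b : ℕ} (hb : 1 ≤ b) (hr : r ∈ C.Pos)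
    (hs : s ∈ outO T m) (hv : C.v q = (a : ℤ) • C.v r + (b : ℤ) • C.v s) : q ∈ outO T m := by
  obtain ⟨j, hj, hne⟩ := not_inO_iff.1 hs.2
  have hs0 : 0 < C.v s j := lt_of_le_of_ne (C.v_nonneg hs.1 j) (Ne.symm hj)
  have hq : 0 < C.v q j := by
    rw [hv]
    simp only [Pi.add_apply, Pi.smul_apply, smul_eq_mul]
    have : 0 ≤ (a : ℤ) * C.v r j := mul_nonneg (by omega) (C.v_nonneg hr j)
    have : 0 < (b : ℤ) * C.v s j := mul_pos (by omega) hs0
    omega
  exact ⟨C.pos_of_coord hq, fun h => hne (h j hq.ne')⟩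

theorem closed_outO (m : Fin T.nn) : ClosedSet C (outO T m) :=
  fun _ hr _ hs _ _ _ _ hb hv => outO_combo hb hr.1 hs hv

theorem π_inv'_wO {m : Fin T.nn} {r : Rt D} (hr : r ∈ C.inv' (T.wO m)) : T.π r ∈ C.inv' (T.wO m) :=
  T.π_inv'_WT (T.wO_mem m) hr

/-- If one root of the orbit goes into the orbit's roots then all do. -/
theorem orbit_image {σ : Equiv.Perm (Rt D)} (hσ : σ ∈ T.WT) {m : Fin T.nn} {i : Fin D.rank}
    (hi : T.idx i = m) (h : σ (C.p i) ∈ C.inv' (T.wO m)) {j : Fin D.rank} (hj : T.idx j = m) :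
    σ (C.p j) ∈ C.inv' (T.wO m) := by
  obtain ⟨k, rfl⟩ := T.cycle i j (hi.trans hj.symm)
  clear hj
  induction k with
  | zero => exact h
  | succ k ih =>
    rw [Function.iterate_succ_apply', ← T.π_p, ← Equiv.Perm.mul_apply, ← (T.mem_WT.1 hσ).2]
    exact π_inv'_wO ih

/-- An element mapping the positive roots of an orbit to themselves permutes its simple roots. -/
theorem fixes_orbit {σ : Equiv.Perm (Rt D)} (hσ : σ ∈ C.WG) {m : Fin T.nn}
    (h1 : ∀ j, T.idx j = m → σ (C.p j) ∈ C.inv' (T.wO m))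
    (h2 : ∀ j, T.idx j = m → σ⁻¹ (C.p j) ∈ C.inv' (T.wO m)) {j : Fin D.rank} (hj : T.idx j = m) :
    ∃ k, T.idx k = m ∧ σ (C.p j) = C.p k := by
  obtain ⟨hpos, hin⟩ := inv'_wO.1 (h1 j hj)
  obtain ⟨k, hk⟩ : ∃ k, C.v (σ (C.p j)) k ≠ 0 := by
    by_contra hc
    push Not at hc
    exact C.v_ne_zero (σ (C.p j)) (funext hc)
  have hk0 : 0 < C.v (σ (C.p j)) k := lt_of_le_of_ne (C.v_nonneg hpos k) (Ne.symm hk)
  refine ⟨k, hin k hk, ?_⟩
  suffices e : σ⁻¹ (C.p k) = C.p j by rw [← e]; exact Equiv.apply_symm_apply _ _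
  by_contra hne
  obtain ⟨l, hl, hlpos⟩ := C.exists_other_coord (inv'_wO.1 (h2 k (hin k hk))).1 hne
  have e : C.v (C.p j) l = ∑ x, C.v (σ (C.p j)) x * C.v (σ⁻¹ (C.p x)) l := by
    conv_lhs => rw [show C.p j = σ⁻¹ (σ (C.p j)) from (Equiv.symm_apply_apply σ _).symm]
    rw [← linV_v C (inv_mem hσ)]
    rfl
  rw [C.v_p, Pi.single_apply, if_neg hl] at e
  have h0 : ∀ x ∈ (Finset.univ : Finset (Fin D.rank)), 0 ≤ C.v (σ (C.p j)) x * C.v (σ⁻¹ (C.p x)) l := by
    intro x _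
    by_cases hx : C.v (σ (C.p j)) x = 0
    · simp [hx]
    · exact mul_nonneg (C.v_nonneg hpos x) (C.v_nonneg (inv'_wO.1 (h2 x (hin x hx))).1 l)
  have := (Finset.sum_eq_zero_iff_of_nonneg h0).1 e.symm k (Finset.mem_univ k)
  have := mul_pos hk0 hlpos
  omega

/-- The image of a positive root of the orbit. -/
theorem image_inv'_wO {σ : Equiv.Perm (Rt D)} (hσ : σ ∈ C.WG) {m : Fin T.nn}
    (h1 : ∀ j, T.idx j = m → ∃ k, T.idx k = m ∧ σ (C.p j) = C.p k) {r : Rt D}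
    (hr : r ∈ C.inv' (T.wO m)) : σ r ∈ C.inv' (T.wO m) := by
  obtain ⟨hpos, hin⟩ := inv'_wO.1 hr
  have hv : ∀ l, C.v (σ r) l = ∑ x, C.v r x * C.v (σ (C.p x)) l := fun l => by
    rw [← linV_v C hσ]; rfl
  refine inv'_wO.2 ⟨?_, fun l hl => ?_⟩
  · by_contra hn
    refine C.v_ne_zero (σ r) (funext fun l => le_antisymm (C.v_nonpos ((C.neg_iff_not_pos _).2 hn) l) ?_)
    rw [hv]
    refine Finset.sum_nonneg fun x _ => ?_
    by_cases hx : C.v r x = 0
    · simp [hx]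
    · obtain ⟨k, -, hk⟩ := h1 x (hin x hx)
      rw [hk]
      exact mul_nonneg (C.v_nonneg hpos x) (C.v_nonneg (C.p_pos k) l)
  · by_contra hne
    refine hl ?_
    rw [hv]
    refine Finset.sum_eq_zero fun x _ => ?_
    by_cases hx : C.v r x = 0
    · simp [hx]
    · obtain ⟨k, hk1, hk⟩ := h1 x (hin x hx)
      have hlk : ¬ l = k := fun e => hne (by rw [e]; exact hk1)
      rw [hk, C.v_p, Pi.single_apply, if_neg hlk, mul_zero]

/-- An element permuting the simple roots of an orbit commutes with its reflection. -/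
theorem commute_wO {σ : Equiv.Perm (Rt D)} (hσ : σ ∈ C.WG) {m : Fin T.nn}
    (h1 : ∀ j, T.idx j = m → ∃ k, T.idx k = m ∧ σ (C.p j) = C.p k)
    (h2 : ∀ j, T.idx j = m → ∃ k, T.idx k = m ∧ σ⁻¹ (C.p j) = C.p k) : σ * T.wO m = T.wO m * σ := by
  classical
  let f : Fin D.rank → Fin D.rank := fun j => if h : T.idx j = m then (h1 j h).choose else j
  have hf : ∀ j ∈ T.J m, σ (C.p j) = C.p (f j) ∧ T.idx (f j) = m := by
    intro j hj
    have h := (T.mem_J j m).1 hj
    simp only [f, dif_pos h]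
    exact ⟨(h1 j h).choose_spec.2, (h1 j h).choose_spec.1⟩
  have hP := pprod_conj hσ f (T.J m) fun j hj => (hf j hj).1
  set x := C.pprod ((T.J m).map f ++ T.J m) with hx
  have hxe : x = σ * T.wO m * σ⁻¹ * T.wO m := by
    rw [hx, C.pprod_append]
    show _ = σ * C.pprod (T.J m) * σ⁻¹ * C.pprod (T.J m)
    rw [hP]
    group
  have hx1 : x = 1 := by
    refine C.eq_one_of_len_zero (C.pprod_mem_WG _) ?_
    rw [Core.len, Set.ncard_eq_zero]
    refine Set.eq_empty_of_forall_notMem fun r hr => ?_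
    by_cases hin : InO T m r
    · refine (C.neg_iff_not_pos _).1 hr.2 ?_
      show x r ∈ C.Pos
      rw [hxe]
      simp only [Equiv.Perm.mul_apply]
      have e1 : (T.wO m r).rev ∈ C.inv' (T.wO m) := by
        refine inv'_wO.2 ⟨C.rev_pos (inv'_wO.2 ⟨hr.1, hin⟩).2, ?_⟩
        intro j hj
        exact inO_wO.2 hin j (by simpa [C.v_rev] using hj)
      have e2 := image_inv'_wO (inv_mem hσ) h2 e1
      rw [WG_rev' C (inv_mem hσ)] at e2
      have hy : T.wO m (σ⁻¹ (T.wO m r)) ∈ C.inv' (T.wO m) := by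
        have h3 := C.rev_pos e2.2
        rw [← T.WT_rev (T.wO_mem m), C.rev_rev] at h3
        refine inv'_wO.2 ⟨h3, inO_wO.2 fun j hj => (inv'_wO.1 e2).2 j (by simpa [C.v_rev] using hj)⟩
      exact (image_inv'_wO hσ h1 hy).1
    · obtain ⟨j, hj, hne⟩ := not_inO_iff.1 hin
      have hnm : j ∉ (T.J m).map f ++ T.J m := by
        rw [List.mem_append, List.mem_map]
        rintro (⟨i, hi, rfl⟩ | h)
        · exact hne (hf i hi).2
        · exact hne ((T.mem_J j m).1 h)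
      have e := T.pprod_coord _ r j hnm
      have h3 := C.v_nonpos hr.2 j
      have h4 := C.v_nonneg hr.1 j
      rw [e] at h3
      omega
  have hw : T.wO m * T.wO m = 1 := T.J_inv m
  calc σ * T.wO m = x * (T.wO m * σ) := by
        rw [hxe]
        calc σ * T.wO m = σ * T.wO m * σ⁻¹ * σ := by group
          _ = σ * T.wO m * σ⁻¹ * (T.wO m * T.wO m) * σ := by rw [hw, mul_one]
          _ = _ := by group
    _ = _ := by rw [hx1, one_mul]

/-- Inversion set inside an orbit: the element is the reflection of the orbit. -/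
theorem eq_wO {σ : Equiv.Perm (Rt D)} (hσ : σ ∈ T.WT) {m : Fin T.nn} (h1 : σ ≠ 1)
    (h : ∀ r ∈ C.inv' σ, InO T m r) : σ = T.wO m := by
  have hW := (T.mem_WT.1 hσ).1
  obtain ⟨L, hL⟩ := C.mem_WG_iff.1 hW
  obtain ⟨i, hi⟩ := C.exists_descent (L := L) (by rwa [hL])
  rw [hL] at hi
  have him : T.idx i = m := inO_p.1 (h _ ⟨C.p_pos i, hi⟩)
  subst him
  obtain ⟨e, hd⟩ := T.inv'_split hσ hi
  have hzero : C.len (σ * T.wO (T.idx i)) = 0 := by
    rw [Core.len, Set.ncard_eq_zero]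
    refine Set.eq_empty_of_forall_notMem fun r hr => ?_
    have hr2 : T.wO (T.idx i) r ∈ C.inv' σ := by rw [e]; exact Or.inr ⟨r, hr, rfl⟩
    exact Set.disjoint_left.1 hd (inv'_wO.2 ⟨hr2.1, h _ hr2⟩) ⟨r, hr, rfl⟩
  have := C.eq_one_of_len_zero (mul_mem hW (T.mem_WT.1 (T.wO_mem _)).1) hzero
  calc σ = σ * (T.wO (T.idx i) * T.wO (T.idx i)) := by rw [show T.wO _ * T.wO _ = 1 from T.J_inv _, mul_one]
    _ = _ := by rw [← mul_assoc, this, one_mul]

end Cfsg.Agent.Lib.EvenInvolutions
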