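import Cfsg.Agent.Lib.EvenInvolutions.TwMonomial
import Cfsg.Agent.Lib.EvenInvolutions.Conclude

/-!
The classes of involutions of a twisted group in characteristic two from kernel checks on the packed tables.
-/

set_option autoImplicit false
set_option linter.unusedSectionVars false

namespace Cfsg.Agent.Lib.ChevStructure.Fast

variable (F : Fast)

/-- The image of r under the reflection in b. -/
def etRefl (b r : ℕ) : ℕ :=
  ((List.range F.n).find? fun x => allLt F.l fun m => decide (F.v x m = F.v r m - F.pr b r * F.v b m)).getD F.n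

/-- The product of the reflections of a list. -/
def etRho (R : List ℕ) (r : ℕ) : ℕ := R.foldr F.etRefl r

/-- A word in the orbit reflections. -/
def etWord (Js : List (List ℕ)) (W : List ℕ) (r : ℕ) : ℕ := W.foldr (fun m x => F.eiWord (Js.getD m []) x) r

/-- The weighted height. -/
def etH (wts : List ℕ) (r : ℕ) : ℤ := sumL F.l fun j => (wts.getD j 0 : ℤ) * F.v r j

/-- Some orbit of the support of r contains it or lowers it. -/
def etDown (Js : List (List ℕ)) (ix wts : List ℕ) : Bool :=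
  allLt F.n fun r => Nat.blt r F.half || (List.range Js.length).any fun m =>
    (List.range F.l).any (fun j => Nat.beq (ix.getD j 0) m && !decide (F.v r j = 0)) &&
      (allLt F.l (fun j => Nat.beq (ix.getD j 0) m || decide (F.v r j = 0)) ||
        decide (F.etH wts (F.eiWord (Js.getD m []) r) < F.etH wts r))

/-- The orbit of a root. -/
def etDelta (pi : List ℕ) (δ : ℕ) : List ℕ :=
  cond (Nat.beq (pi.getD δ 0) δ) [δ] [δ, pi.getD δ 0]

/-- One orbit of commuting reflection is absorbed. -/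
def etStep1 (Js : List (List ℕ)) (pi : List ℕ) (reps : List (List ℕ)) (R : List ℕ) (δ : ℕ)
    (e : ℕ × List ℕ × ℕ) : Bool :=
  Nat.beq e.1 δ && e.2.1.all (fun m => Nat.blt m Js.length) && Nat.blt e.2.2 reps.length &&
    allLt F.l fun i =>
      Nat.beq (F.etWord Js e.2.1 (F.etRho R (F.etRho (etDelta pi δ) (F.p i))))
        (F.etRho (reps.getD e.2.2 []) (F.etWord Js e.2.1 (F.p i)))

/-- All the orbits of commuting reflections are absorbed. -/
def etCover (Js : List (List ℕ)) (pi : List ℕ) (reps : List (List ℕ)) (tab : List (List (ℕ × List ℕ × ℕ))) :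
    Bool :=
  reps.any List.isEmpty && reps.all (fun R => R.all fun a => Nat.blt a F.n) && reps.all F.eiStrong &&
    reps.all (fun R => (R.map fun a => pi.getD a 0).isPerm R) &&
    allLt reps.length fun k => allLt F.n fun δ =>
      cond (Nat.blt δ F.half ||
          !(Nat.beq (pi.getD δ 0) δ || (decide (F.pr δ (pi.getD δ 0) = 0) && decide (F.pr (pi.getD δ 0) δ = 0))) ||
          !allLt F.l fun i => Nat.beq (F.etRho (reps.getD k []) (F.etRho (etDelta pi δ) (F.p i)))
            (F.etRho (etDelta pi δ) (F.etRho (reps.getD k []) (F.p i))))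
        true ((tab.getD k []).any (F.etStep1 Js pi reps (reps.getD k []) δ))

/-- A set of roots stable under the symmetry whose root subgroups commute. -/
def etBlock (pi : List ℕ) (B : List ℕ) : Bool :=
  B.all (fun a => Nat.blt a F.n) && (B.map fun a => pi.getD a 0).isPerm B &&
    B.all fun a => B.all fun b => Nat.beq a b || F.eiFree1 a b

end Cfsg.Agent.Lib.ChevStructure.Fast

namespace Cfsg.Agent.Lib.EvenInvolutions

open Cfsg.Lie Cfsg.Agent.Lib.ChevStructure Cfsg.Agent.Lib.LieTwisted.Twist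
open Cfsg.Agent.Lib.OddInvolutions (Orth Comm4 linV linV_v WG_pr)
open scoped MatrixGroups Matrix

variable {D : ChevalleyDatum} {F : Fast} (H : Fast.Certified F D) {K : Type*} [Field K]
include H

theorem etRefl_val (b r : Rt D) : F.etRefl b.val r.val = (reflP H.core b r).val := by
  have hgood : (allLt F.l fun m => decide (F.v (reflP H.core b r).val m =
      F.v r.val m - F.pr b.val r.val * F.v b.val m)) = true := by
    rw [allLt_iff]
    intro m hm
    rw [decide_eq_true_eq, ← H.pr_val]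
    have := congrFun (reflP_v H.core b r) ⟨m, by rw [H.hl]; exact hm⟩
    simp only [Pi.sub_apply, Pi.smul_apply, smul_eq_mul] at this
    exact this
  unfold Fast.etRefl
  cases hf : (List.range F.n).find? fun x => allLt F.l fun m =>
      decide (F.v x m = F.v r.val m - F.pr b.val r.val * F.v b.val m) with
  | none =>
    rw [List.find?_eq_none] at hf
    exact absurd hgood (hf _ (List.mem_range.2 (H.lt_n _)))
  | some x =>
    have hx := List.find?_some hf
    have hxn : x < D.nroots := by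
      rw [H.hn]; exact List.mem_range.1 (List.mem_of_find?_eq_some hf)
    show x = _
    refine congrArg Fin.val (a₁ := (⟨x, hxn⟩ : Rt D)) (H.core.v_inj (funext fun m => ?_))
    rw [allLt_iff] at hx
    have := hx m.val (H.lt_l m)
    rw [decide_eq_true_eq, ← H.pr_val] at this
    rw [reflP_v]
    simp only [Pi.sub_apply, Pi.smul_apply, smul_eq_mul]
    exact this

theorem etRho_val : ∀ (R : List (Rt D)) (r : Rt D),
    F.etRho (R.map Fin.val) r.val = (rhoP H.core R r).val
  | [], _ => rfl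
  | b :: R, r => by
    rw [List.map_cons, Fast.etRho, List.foldr_cons]
    show F.etRefl b.val (F.etRho (R.map Fin.val) r.val) = _
    rw [etRho_val R r, etRefl_val H]
    rfl

theorem p_val' (i : Fin D.rank) : (H.core.p i).val = F.p i.val := rfl

theorem etH_val (wts : List ℕ) (r : Rt D) :
    F.etH wts r.val = hgt H.core (fun j => wts.getD j.val 0) r := by
  unfold Fast.etH hgt
  rw [Fast.sumL_eq, ← H.hl, ← Fin.sum_univ_eq_sum_range (fun j => (wts.getD j 0 : ℤ) * F.v r.val j)]
  rfl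

/-- The tables describe the twist. -/
structure TwTab (T : Tw H.core K) (Js : List (List ℕ)) (pi ix : List ℕ) : Prop where
  π_val : ∀ r, (T.π r).val = pi.getD r.val 0
  len : Js.length = T.nn
  J_val : ∀ m : Fin T.nn, (T.J m).map Fin.val = Js.getD m.val []
  idx_val : ∀ i : Fin D.rank, (T.idx i).val = ix.getD i.val 0

variable {T : Tw H.core K} {Js : List (List ℕ)} {pi ix : List ℕ}

theorem wO_val (hT : TwTab H T Js pi ix) (m : Fin T.nn) (r : Rt D) :
    (T.wO m r).val = F.eiWord (Js.getD m.val []) r.val := by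
  rw [← hT.J_val, ← pprod_val]
  rfl

theorem down (hT : TwTab H T Js pi ix) {wts : List ℕ} (h : F.etDown Js ix wts = true) :
    ∀ r ∈ H.core.Pos, ∃ m, (∃ j, T.idx j = m ∧ H.core.v r j ≠ 0) ∧
      (InO T m r ∨ hgt H.core (fun j => wts.getD j.val 0) (T.wO m r) < hgt H.core (fun j => wts.getD j.val 0) r) := by
  intro r hr
  simp only [Fast.etDown, allLt_iff, Bool.or_eq_true, List.any_eq_true, List.mem_range, Bool.and_eq_true,
    Nat.blt_eq, decide_eq_true_eq, Bool.not_eq_true', decide_eq_false_iff_not] at h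
  rcases h r.val (H.lt_n r) with h1 | ⟨m, hm, ⟨j, hj, hjm, hjv⟩, h2⟩
  · have hp : D.nroots ≤ 2 * r.val := hr
    have := H.half_eq; have := H.hn; omega
  · rw [hT.len] at hm
    refine ⟨⟨m, hm⟩, ⟨⟨j, by rw [H.hl]; exact hj⟩, Fin.ext ?_, hjv⟩, ?_⟩
    · rw [hT.idx_val]; exact Nat.eq_of_beq_eq_true hjm
    rcases h2 with h2 | h2
    · refine Or.inl fun k hk => Fin.ext ?_
      rcases h2 k.val (H.lt_l k) with h3 | h3
      · rw [hT.idx_val]; exact Nat.eq_of_beq_eq_true h3
      · exact absurd h3 hk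
    · refine Or.inr ?_
      rw [← etH_val H, ← etH_val H, wO_val H hT]
      exact h2

theorem rhoP_eq_of_vals {σ τ : Equiv.Perm (Rt D)} (hσ : σ ∈ H.core.WG) (hτ : τ ∈ H.core.WG)
    (h : ∀ i : Fin D.rank, (σ (H.core.p i)).val = (τ (H.core.p i)).val) : σ = τ :=
  ext_simple hσ hτ fun i => Fin.ext (h i)

theorem toR_perm (hT : TwTab H T Js pi ix) {R : List ℕ} (hlt : (R.all fun a => Nat.blt a F.n) = true)
    (hp : (R.map fun a => pi.getD a 0).isPerm R = true) : ((toR H R).map T.π).Perm (toR H R) := by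
  rw [← List.map_perm_map_iff Fin.val_injective, List.map_map, toR_val H hlt]
  have e : (toR H R).map (Fin.val ∘ T.π) = R.map fun a => pi.getD a 0 := by
    conv_rhs => rw [← toR_val H hlt, List.map_map]
    exact List.map_congr_left fun r _ => hT.π_val r
  rw [e]
  exact List.isPerm_iff.1 hp

theorem coverT (hT : TwTab H T Js pi ix) {reps : List (List ℕ)} {tab : List (List (ℕ × List ℕ × ℕ))}
    (h : F.etCover Js pi reps tab = true) : CoverT T (reps.map (toR H)) := by
  simp only [Fast.etCover, Bool.and_eq_true, List.all_eq_true, List.any_eq_true, allLt_iff] at h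
  obtain ⟨⟨⟨⟨hnil, hlt⟩, -⟩, -⟩, hstep⟩ := h
  refine ⟨?_, ?_⟩
  · obtain ⟨R, hR, he⟩ := hnil
    rw [List.isEmpty_iff] at he
    exact List.mem_map.2 ⟨R, hR, by rw [he]; rfl⟩
  suffices key : ∀ R ∈ reps.map (toR H), ∀ δ : Rt D, δ ∈ H.core.Pos → ∀ Δ : List (Rt D),
      ((Δ = [δ] ∧ T.π δ = δ) ∨ (Δ = [δ, T.π δ] ∧ T.π δ ≠ δ ∧ Orth δ (T.π δ))) →
      rhoP H.core R * rhoP H.core Δ = rhoP H.core Δ * rhoP H.core R →
      ∃ w ∈ T.WT, ∃ R' ∈ reps.map (toR H),
        w * (rhoP H.core R * rhoP H.core Δ) * w⁻¹ = rhoP H.core R' by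
    intro R hR Δ hΔ hcomm
    rcases hΔ with ⟨δ, rfl, hδ⟩ | ⟨δ, rfl, -, ho⟩
    · by_cases hp : δ ∈ H.core.Pos
      · exact key R hR δ hp _ (Or.inl ⟨rfl, hδ⟩) hcomm
      · have e : rhoP H.core [δ] = rhoP H.core [δ.rev] := by simp [rhoP, reflP_rev]
        rw [e] at hcomm ⊢
        exact key R hR δ.rev (H.core.rev_pos ((H.core.neg_iff_not_pos _).2 hp)) _
          (Or.inl ⟨rfl, by rw [T.π_rev, hδ]⟩) hcomm
    · have hne : T.π δ ≠ δ := fun e => by
        have := ho.1
        rw [e, H.core.pr_self] at this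
        norm_num at this
      by_cases hp : δ ∈ H.core.Pos
      · exact key R hR δ hp _ (Or.inr ⟨rfl, hne, ho⟩) hcomm
      · have e : rhoP H.core [δ, T.π δ] = rhoP H.core [δ.rev, T.π δ.rev] := by
          simp [rhoP, reflP_rev, T.π_rev]
        rw [e] at hcomm ⊢
        refine key R hR δ.rev (H.core.rev_pos ((H.core.neg_iff_not_pos _).2 hp)) _ (Or.inr ⟨rfl, ?_, ?_⟩) hcomm
        · rw [T.π_rev]
          exact fun h => hne (Fin.rev_injective h)
        · rw [T.π_rev]
          constructor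
          · rw [H.core.pr_rev, OddInvolutions.pr_rev_right H.core, ho.1]; rfl
          · rw [H.core.pr_rev, OddInvolutions.pr_rev_right H.core, ho.2]; rfl
  intro R hR δ hδ Δ hΔ hcomm
  obtain ⟨R0, hR0, rfl⟩ := List.mem_map.1 hR
  obtain ⟨k, hk, rfl⟩ := List.getElem_of_mem hR0
  have hRv := toR_val H (L := reps[k]) (List.all_eq_true.2 (hlt _ hR0))
  have hΔv : Δ.map Fin.val = Fast.etDelta pi δ.val := by
    unfold Fast.etDelta
    rw [← hT.π_val]
    rcases hΔ with ⟨rfl, hπ⟩ | ⟨rfl, hπ, -⟩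
    · rw [hπ]; simp
    · have : Nat.beq (T.π δ).val δ.val = false := by
        refine Bool.eq_false_iff.2 fun hb => hπ (Fin.ext (Nat.eq_of_beq_eq_true hb))
      rw [this]; rfl
  have hs := hstep k hk δ.val (H.lt_n δ)
  rw [List.getD_eq_getElem (hn := hk)] at hs
  have hcond : (Nat.blt δ.val F.half ||
      !(Nat.beq (pi.getD δ.val 0) δ.val ||
        (decide (F.pr δ.val (pi.getD δ.val 0) = 0) && decide (F.pr (pi.getD δ.val 0) δ.val = 0))) ||
      !allLt F.l fun i => Nat.beq (F.etRho reps[k] (F.etRho (Fast.etDelta pi δ.val) (F.p i)))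
        (F.etRho (Fast.etDelta pi δ.val) (F.etRho reps[k] (F.p i)))) = false := by
    rw [Bool.or_eq_false_iff, Bool.or_eq_false_iff, Bool.not_eq_false', Bool.not_eq_false', allLt_iff,
      ← hT.π_val, Bool.or_eq_true, Bool.and_eq_true, decide_eq_true_eq, decide_eq_true_eq, ← H.pr_val,
      ← H.pr_val]
    refine ⟨⟨Fast.blt_false ?_, ?_⟩, fun i hi => ?_⟩
    · have hp : D.nroots ≤ 2 * δ.val := hδ
      have := H.half_eq; have := H.hn; omega
    · rcases hΔ with ⟨-, hπ⟩ | ⟨-, -, ho⟩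
      · exact Or.inl (by rw [hπ]; simp)
      · exact Or.inr ⟨ho.1, ho.2⟩
    · rw [show F.p i = (H.core.p ⟨i, by rw [H.hl]; exact hi⟩).val from rfl, ← hΔv, ← hRv,
        etRho_val H, etRho_val H, etRho_val H, etRho_val H, ← Equiv.Perm.mul_apply, hcomm]
      simp
  rw [hcond, cond_false, List.any_eq_true] at hs
  obtain ⟨⟨e1, W, j⟩, -, hv⟩ := hs
  simp only [Fast.etStep1, Bool.and_eq_true, List.all_eq_true, allLt_iff, Nat.blt_eq] at hv
  obtain ⟨⟨⟨-, hW⟩, hj⟩, hform⟩ := hv
  rw [List.getD_eq_getElem (hn := hj)] at hform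
  let Wf : List (Fin T.nn) := W.pmap (fun m hm => (⟨m, hm⟩ : Fin T.nn)) (fun m hm => hT.len ▸ hW m hm)
  have hWv : ∀ r : Rt D, ((Wf.map T.wO).prod r).val = F.etWord Js W r.val := by
    intro r
    have key : ∀ L : List (Fin T.nn), ((L.map T.wO).prod r).val = F.etWord Js (L.map Fin.val) r.val := by
      intro L
      induction L with
      | nil => rfl
      | cons m L ih =>
        rw [List.map_cons, List.prod_cons, Equiv.Perm.mul_apply, wO_val H hT, ih]
        rfl
    rw [key, List.map_pmap]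
    congr 1
    simp
  have hw : (Wf.map T.wO).prod ∈ T.WT :=
    list_prod_mem fun x hx => by obtain ⟨m, -, rfl⟩ := List.mem_map.1 hx; exact T.wO_mem m
  refine ⟨_, hw, _, List.mem_map_of_mem (List.getElem_mem hj), mul_inv_eq_iff_eq_mul.2 ?_⟩
  refine rhoP_eq_of_vals H (mul_mem (T.mem_WT.1 hw).1 (mul_mem (rhoP_mem _ _) (rhoP_mem _ _)))
    (mul_mem (rhoP_mem _ _) (T.mem_WT.1 hw).1) fun i => ?_
  simp only [Equiv.Perm.mul_apply]
  rw [hWv, ← etRho_val H, ← etRho_val H, ← etRho_val H, hWv, hΔv, hRv,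
    toR_val H (List.all_eq_true.2 (hlt _ (List.getElem_mem hj)))]
  exact Nat.eq_of_beq_eq_true (hform i.val (H.lt_l i))

theorem block_mem [Finite K] (hc : CommOK H.core) {φ : K ≃+* K} (hf : ∀ r t, T.f r t = φ t) (hT : TwTab H T Js pi ix)
    {B : List ℕ} (h : F.etBlock pi B = true) : wordG H K B ∈ T.W := by
  simp only [Fast.etBlock, Bool.and_eq_true] at h
  obtain ⟨⟨hlt, hp⟩, hfree⟩ := h
  have hv := toR_val H hlt
  simp only [List.all_eq_true, Bool.or_eq_true] at hfree
  rw [← xProd_toR H hlt]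
  refine T.mem_W_iff.2 ⟨list_prod_mem fun z hz => ?_, ?_⟩
  · obtain ⟨b, -, rfl⟩ := List.mem_map.1 hz
    exact H.core.X_mem_group _ _
  refine τ_prod_stable T (toR_perm H hT hlt hp) (fun b => H.core.X K b 1) (fun b _ => H.core.X_mem_group _ _)
    (fun b _ => by rw [T.τ_X, hf, map_one]) fun b hb c hc' => ?_
  have hb' : b.val ∈ B := hv ▸ List.mem_map_of_mem hb
  have hc'' : c.val ∈ B := hv ▸ List.mem_map_of_mem hc'
  rcases hfree _ hb' _ hc'' with h1 | h1
  · rw [Fin.ext (Nat.eq_of_beq_eq_true h1)]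
  · exact commute_of_free H hc h1 1 1

theorem blocks_mem [Finite K] (hc : CommOK H.core) {φ : K ≃+* K} (hf : ∀ r t, T.f r t = φ t) (hT : TwTab H T Js pi ix) :
    ∀ {w : List (List ℕ)}, w.all (F.etBlock pi) = true → wordG H K w.flatten ∈ T.W
  | [], _ => one_mem _
  | B :: w, h => by
    rw [List.all_cons, Bool.and_eq_true] at h
    rw [List.flatten_cons, wordG_append]
    exact mul_mem (block_mem H hc hf hT h.1) (blocks_mem hc hf hT h.2)

/-- Conjugation by a word of blocks, from the bit matrices. -/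
theorem fuse_of_eval [Finite K] [CharP K 2] (hc : CommOK H.core) {φ : K ≃+* K} (hf : ∀ r t, T.f r t = φ t)
    (hT : TwTab H T Js pi ix) {w : List (List ℕ)} {R y : List ℕ} (hw : w.all (F.etBlock pi) = true)
    (hd : (w.flatten ++ R).all (rootDiag F) = true) (hd' : (y ++ w.flatten).all (rootDiag F) = true)
    (he : Nat.beq (evalW F (w.flatten ++ R)) (evalW F (y ++ w.flatten)) = true) :
    ∃ h ∈ T.W, h * wordG H K R * h⁻¹ = wordG H K y := by
  refine ⟨_, blocks_mem H hc hf hT hw, ?_⟩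
  rw [← wordG_append, show wordG H K (w.flatten ++ R) = wordG H K (y ++ w.flatten) from prod_eq_of_evalW (R := K) H hd hd' he,
    wordG_append, mul_inv_cancel_right]

/-- Every involution of the twisted group is conjugate in it to a representative. -/
theorem tw_classes [Finite K] [CharP K 2] (hc : CommOK H.core) {φ : K ≃+* K} (hf : ∀ r t, T.f r t = φ t)
    (hsh : Shape T) (hT : TwTab H T Js pi ix) {wts : List ℕ} (hd : F.etDown Js ix wts = true) {reps : List (List ℕ)}
    {tab : List (List (ℕ × List ℕ × ℕ))} (hcov : F.etCover Js pi reps tab = true) {ys : List (List ℕ)}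
    (hfus : ∀ R ∈ reps, R = [] ∨ ∃ y ∈ ys, ∃ h ∈ T.W, h * wordG H K R * h⁻¹ = wordG H K y)
    {g : GL D.Idx K} (hg : g ∈ T.W) (h2 : g * g = 1) (h1 : g ≠ 1) :
    ∃ y ∈ ys, ∃ h ∈ T.W, h * g * h⁻¹ = wordG H K y := by
  obtain ⟨x, hx, m, hm, hmN, hm2, hxm⟩ := tw_monomial_conj (down H hT hd) hg h2
  have hst := hcov
  simp only [Fast.etCover, Bool.and_eq_true, List.all_eq_true] at hst
  obtain ⟨⟨⟨⟨-, hlt⟩, hstr⟩, hperm⟩, -⟩ := hst
  obtain ⟨R, hR, z, hz, hzm⟩ := tw_monomial_rep hf hsh (coverT H hT hcov) (fun R hR => by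
    obtain ⟨R0, hR0, rfl⟩ := List.mem_map.1 hR
    refine pairwise_strong H hc ?_
    rw [toR_val H (List.all_eq_true.2 (hlt _ hR0))]
    exact hstr _ hR0) (fun R hR => by
    obtain ⟨R0, hR0, rfl⟩ := List.mem_map.1 hR
    exact toR_perm H hT (List.all_eq_true.2 (hlt _ hR0)) (hperm _ hR0)) hm hmN hm2
  obtain ⟨R0, hR0, rfl⟩ := List.mem_map.1 hR
  rw [xProd_toR H (List.all_eq_true.2 (hlt _ hR0))] at hzm
  rcases hfus R0 hR0 with rfl | ⟨y, hy, h, hh, he⟩
  · refine absurd ?_ h1
    rw [show wordG H K [] = (1 : GL D.Idx K) from rfl, ← hxm, mul_inv_eq_one, mul_eq_left, mul_inv_eq_one,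
      mul_eq_left] at hzm
    exact hzm
  refine ⟨y, hy, h * z * x, mul_mem (mul_mem hh hz) hx, ?_⟩
  calc h * z * x * g * (h * z * x)⁻¹ = h * (z * (x * g * x⁻¹) * z⁻¹) * h⁻¹ := by group
    _ = wordG H K y := by rw [hxm, hzm, he]

theorem tw_count {W : Subgroup (GL D.Idx K)} {ys : List (List ℕ)} (hnd : ys.Nodup)
    (hmem : ∀ y ∈ ys, wordG H K y ∈ W)
    (hclass : ∀ g : GL D.Idx K, g ∈ W → g * g = 1 → g ≠ 1 →
      ∃ y ∈ ys, ∃ h ∈ W, h * g * h⁻¹ = wordG H K y)
    (hsq : ∀ y ∈ ys, wordG H K y * wordG H K y = 1) (hne : ∀ y ∈ ys, wordG H K y ≠ 1)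
    (hinj : ∀ y₁ ∈ ys, ∀ y₂ ∈ ys, ∀ h ∈ W, h * wordG H K y₁ * h⁻¹ = wordG H K y₂ → y₁ = y₂) :
    (ConjClasses.mk '' {g : ↥W | orderOf g = 2}).ncard = ys.length := by
  classical
  let f : {L // L ∈ ys} → ConjClasses ↥W := fun L => ConjClasses.mk ⟨wordG H K L.1, hmem L.1 L.2⟩
  have himg : ConjClasses.mk '' {g : ↥W | orderOf g = 2} = Set.range f := by
    ext c
    constructor
    · rintro ⟨g, hg, rfl⟩
      have hg' : orderOf (g : GL D.Idx K) = 2 := by rw [Subgroup.orderOf_coe]; exact hg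
      have h2 : (g : GL D.Idx K) * g = 1 := by rw [← pow_two, ← hg', pow_orderOf_eq_one]
      have h1 : (g : GL D.Idx K) ≠ 1 := fun e => by rw [e, orderOf_one] at hg'; omega
      obtain ⟨L, hL, h, hh, he⟩ := hclass g g.2 h2 h1
      exact ⟨⟨L, hL⟩, (ConjClasses.mk_eq_mk_iff_isConj.2 (isConj_iff.2 ⟨⟨h, hh⟩, Subtype.ext he⟩)).symm⟩
    · rintro ⟨⟨L, hL⟩, rfl⟩
      refine ⟨⟨wordG H K L, hmem L hL⟩, ?_, rfl⟩
      show orderOf _ = 2
      rw [← Subgroup.orderOf_coe]
      exact orderOf_eq_prime (by rw [pow_two]; exact hsq L hL) (hne L hL)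
  have hinj' : Function.Injective f := by
    intro L₁ L₂ e
    obtain ⟨h, he⟩ := isConj_iff.1 (ConjClasses.mk_eq_mk_iff_isConj.1 e)
    exact Subtype.ext (hinj L₁.1 L₁.2 L₂.1 L₂.2 h h.2 (congrArg Subtype.val he))
  rw [himg, ← Nat.card_coe_set_eq, Nat.card_range_of_injective hinj', Nat.subtype_card ys.toFinset (by simp),
    List.toFinset_card_of_nodup hnd]

end Cfsg.Agent.Lib.EvenInvolutions
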