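import Cfsg.Agent.Lib.EvenInvolutions.CertTwE6
import Cfsg.Agent.Lib.LieTwisted.Twist.E6Thms

/-!
The involutions of ²E₆(q), q even: the tables describe the twist, and the fusion which needs a parameter of trace one.
-/

set_option autoImplicit false
set_option maxRecDepth 100000
set_option linter.unusedSectionVars false

namespace Cfsg.Agent.Lib.EvenInvolutions.TwE6

open Cfsg.Lie Cfsg.Agent.Lib.ChevStructure Cfsg.Agent.Lib.LieTwisted.Twist
open Cfsg.Agent.Lib.OddInvolutions (Orth)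
open scoped MatrixGroups

theorem π_vals : ∀ r : Rt chevE6, (Frob.rootPerm E6.g r).val = CertTwE6.pi.getD r.val 0 := by decide +kernel

theorem J_vals : ∀ m : Fin 4,
    ((List.range (if Frob.nodePerm E6.g (E6.osD m) = E6.osD m then 1 else 2)).map
      fun k => ((Frob.nodePerm E6.g : _ → _)^[k] (E6.osD m)).val) = CertTwE6.Js.getD m.val [] := by decide +kernel

theorem idx_vals : ∀ i : Fin chevE6.rank, (E6.idxD i).val = CertTwE6.ix.getD i.val 0 := by decide +kernel

theorem orth_nodes : ∀ m : Fin 4, Frob.nodePerm E6.g (E6.osD m) = E6.osD m ∨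
    (Frob.nodePerm E6.g (Frob.nodePerm E6.g (E6.osD m)) = E6.osD m ∧
      pr chevE6 (E6.pD (E6.osD m)) (E6.pD (Frob.nodePerm E6.g (E6.osD m))) = 0 ∧
      pr chevE6 (E6.pD (Frob.nodePerm E6.g (E6.osD m))) (E6.pD (E6.osD m)) = 0) := by decide +kernel

theorem terms : ∀ e ∈ [(66, 23), (68, 21)], chevE6.commTerms e.1 e.2 = [(60, 1, 1, 1)] ∨
    chevE6.commTerms e.1 e.2 = [(60, -1, 1, 1)] := by decide +kernel

abbrev H := Cfsg.Agent.Lib.ChevStructure.Cert.E6.certified

variable {K : Type*} [Field K] [Fintype K] {q : ℕ} {φ : K ≃+* K} (F : Frob.Facts K q 2 φ) (hq1 : 1 < q)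
  (hK : Fintype.card K = q ^ 2)

/-- The twisted group with its data. -/
noncomputable abbrev T : Tw H.core K := (E6.orth F hq1 hK).tw

theorem hf [CharP K 2] (r : Rt chevE6) (t : K) : (T F hq1 hK).f r t = φ t := by
  show (Cfsg.Agent.Lib.LieTwisted.GraphData.symE6.ε r : K) * φ t = φ t
  have h := Cfsg.Agent.Lib.LieTwisted.GraphAut.eps_cast_mul_self K E6.g r.isLt
  rw [show (Cfsg.Agent.Lib.LieTwisted.GraphData.symE6.ε r : K) = 1 from CharTwo.sq_injective (by simp only [sq, h, mul_one]), one_mul]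

theorem tab : TwTab H (T F hq1 hK) CertTwE6.Js CertTwE6.pi CertTwE6.ix where
  π_val r := π_vals r
  len := rfl
  J_val m := by
    rw [← J_vals m]
    exact List.map_map
  idx_val i := idx_vals i

theorem shape : Shape (T F hq1 hK) := by
  intro (m : Fin 4)
  rcases orth_nodes m with h | ⟨h2, h3, h4⟩
  · refine Or.inl ⟨E6.osD m, ?_, h⟩
    show (List.range ((E6.orth F hq1 hK).sz (E6.osD m))).map _ = _
    rw [show (E6.orth F hq1 hK).sz (E6.osD m) = 1 from if_pos h]
    rfl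
  · by_cases h : Frob.nodePerm E6.g (E6.osD m) = E6.osD m
    · refine Or.inl ⟨E6.osD m, ?_, h⟩
      show (List.range ((E6.orth F hq1 hK).sz (E6.osD m))).map _ = _
      rw [show (E6.orth F hq1 hK).sz (E6.osD m) = 1 from if_pos h]
      rfl
    refine Or.inr ⟨E6.osD m, ?_, h2, ?_⟩
    · show (List.range ((E6.orth F hq1 hK).sz (E6.osD m))).map _ = _
      rw [show (E6.orth F hq1 hK).sz (E6.osD m) = 2 from if_neg h]
      rfl
    · show Orth (E6.C.p (E6.osD m)) (E6.C.p (Frob.nodePerm E6.g (E6.osD m)))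
      rw [E6.p_eq, E6.p_eq]
      exact ⟨h3, h4⟩

include F hq1 in
theorem exists_trace_one [CharP K 2] : ∃ z : K, z + φ z = 1 := by
  obtain ⟨t, ht⟩ := Frob.ne_id F (by norm_num) hq1
  have ha : t + φ t ≠ 0 := fun h => ht (CharTwo.add_eq_zero.1 h).symm
  refine ⟨t / (t + φ t), ?_⟩
  have e : φ (t + φ t) = t + φ t := by
    rw [map_add, show φ (φ t) = t from F.pow t, add_comm]
  rw [map_div₀, e, ← add_div, div_self ha]

theorem comm_step {G : Type*} [Group G] {g d b b1 b2 e f : G} (gb : Commute g b) (db : Commute d b)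
    (gf : Commute g f) (de : Commute d e) (t1 : g * e = e * g * b1) (t2 : d * f = f * d * b2)
    (h1 : Commute b1 g ∧ Commute b1 d ∧ Commute b1 e ∧ Commute b1 f)
    (h2 : Commute b2 g ∧ Commute b2 d ∧ Commute b2 e ∧ Commute b2 f) (hb : b * b1 * b2 = 1) (ef : Commute e f) :
    g * d * (b * (e * f)) = f * e * (g * d) := by
  calc g * d * (b * (e * f)) = b * (g * (d * e) * f) := by
        rw [← mul_assoc (g * d) b, ((gb.mul_left db)).eq]; group
    _ = b * ((g * e) * (d * f)) := by rw [de.eq]; group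
    _ = b * ((e * g) * (b1 * f) * (d * b2)) := by rw [t1, t2]; group
    _ = b * (e * (g * f) * ((b1 * d) * b2)) := by rw [h1.2.2.2.eq]; group
    _ = b * (e * f * ((g * d) * (b1 * b2))) := by rw [gf.eq, h1.2.1.eq]; group
    _ = b * ((e * f) * (b1 * b2) * (g * d)) := by
        rw [((h1.1.mul_left h2.1).mul_right (h1.2.1.mul_left h2.2.1)).eq.symm]; group
    _ = b * b1 * b2 * (e * f) * (g * d) := by
        rw [((h1.2.2.1.mul_left h2.2.2.1).mul_right (h1.2.2.2.mul_left h2.2.2.2)).eq.symm]; group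
    _ = f * e * (g * d) := by rw [hb, one_mul, ef.eq]

theorem fuse [CharP K 2] (hc : CommOK H.core) :
    ∃ h ∈ (T F hq1 hK).W, h * wordG H K [71, 60] * h⁻¹ = wordG H K [68, 66] := by
  obtain ⟨z, hz⟩ := exists_trace_one F hq1
  have hsp := CertTwE6.special
  simp only [CertTwE6.fusOK, Bool.and_eq_true] at hsp
  obtain ⟨⟨⟨hw, hd⟩, hd'⟩, he⟩ := hsp
  obtain ⟨h1, h1W, h1e⟩ := fuse_of_eval H hc (hf F hq1 hK) (tab F hq1 hK) hw hd hd' he
  let γ : Rt chevE6 := ⟨23, by decide⟩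
  let δ : Rt chevE6 := ⟨21, by decide⟩
  let b : Rt chevE6 := ⟨60, by decide⟩
  let e : Rt chevE6 := ⟨66, by decide⟩
  let f : Rt chevE6 := ⟨68, by decide⟩
  let X := H.core.X K
  have hfr : ∀ x y : Rt chevE6, (x.val, y.val) ∈ [(23, 60), (23, 68), (21, 60), (21, 66), (60, 66), (60, 68), (23, 21), (66, 68)] →
      ∀ t u, Commute (X x t) (X y u) := fun x y hxy =>
    commute_of_free H hc (List.all_eq_true.1 CertTwE6.free (x.val, y.val) hxy)
  have hterm : ∀ r s : Rt chevE6, (r.val, s.val) ∈ [(66, 23), (68, 21)] → s ≠ r → s ≠ r.rev → ∀ t,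
      X s t * X r 1 = X r 1 * X s t * X b t := by
    intro r s hrs h1 h2 t
    rw [show X s t * X r 1 = _ from hc.comm_X r s h1 h2 1 t]
    rcases terms _ hrs with h | h <;>
      simp [h, X, b, CharTwo.neg_eq, Core.XN, dif_pos (show 60 < chevE6.nroots by decide)]
  have hPW : X γ z * X δ (φ z) ∈ (T F hq1 hK).W := by
    refine (T F hq1 hK).mem_W_iff.2 ⟨mul_mem (H.core.X_mem_group _ _) (H.core.X_mem_group _ _), ?_⟩
    rw [(T F hq1 hK).τ_mul _ (H.core.X_mem_group _ _) _ (H.core.X_mem_group _ _), (T F hq1 hK).τ_X,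
      (T F hq1 hK).τ_X, hf, hf, show φ (φ z) = z from F.pow z,
      show (T F hq1 hK).π γ = δ from Fin.ext (π_vals γ), show (T F hq1 hK).π δ = γ from Fin.ext (π_vals δ)]
    exact (hfr γ δ (by simp [γ, δ]) _ _).eq.symm
  refine ⟨X γ z * X δ (φ z) * h1, mul_mem hPW h1W, ?_⟩
  have hstep : X γ z * X δ (φ z) * (X b 1 * (X e 1 * X f 1)) = (X f 1 * X e 1) * (X γ z * X δ (φ z)) := by
    have c1 := (hfr γ b (by simp [γ, b]) z)
    have c2 := (hfr δ b (by simp [δ, b]) (φ z))
    have c3 := (hfr γ f (by simp [γ, f]) z 1)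
    have c4 := (hfr δ e (by simp [δ, e]) (φ z) 1)
    have c5 := (hfr b e (by simp [b, e]))
    have c6 := (hfr b f (by simp [b, f]))
    have c7 := (hfr e f (by simp [e, f]) 1 1)
    have t1 := hterm e γ (by simp [e, γ]) (by decide) (by decide) z
    have t2 := hterm f δ (by simp [f, δ]) (by decide) (by decide) (φ z)
    refine comm_step (c1 1) (c2 1) c3 c4 t1 t2 ⟨(c1 z).symm, (c2 z).symm, c5 z 1, c6 z 1⟩
      ⟨(c1 (φ z)).symm, (c2 (φ z)).symm, c5 (φ z) 1, c6 (φ z) 1⟩ ?_ c7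
    show H.core.X K b 1 * H.core.X K b z * H.core.X K b (φ z) = 1
    rw [H.core.X_add, H.core.X_add, add_assoc, hz, CharTwo.add_self_eq_zero, H.core.X_zero]
  have e2 : wordG H K [60, 66, 68] = X b 1 * (X e 1 * X f 1) := by simp [wordG, X, b, e, f, Core.XN, dif_pos (show (60 : ℕ) < chevE6.nroots by decide), dif_pos (show (66 : ℕ) < chevE6.nroots by decide), dif_pos (show (68 : ℕ) < chevE6.nroots by decide)]
  have e3 : wordG H K [68, 66] = X f 1 * X e 1 := by simp [wordG, X, e, f, Core.XN, dif_pos (show (66 : ℕ) < chevE6.nroots by decide), dif_pos (show (68 : ℕ) < chevE6.nroots by decide)]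
  rw [e2] at h1e
  calc X γ z * X δ (φ z) * h1 * wordG H K [71, 60] * (X γ z * X δ (φ z) * h1)⁻¹
      = X γ z * X δ (φ z) * (h1 * wordG H K [71, 60] * h1⁻¹) * (X γ z * X δ (φ z))⁻¹ := by group
    _ = _ := by rw [h1e, hstep, e3, mul_inv_cancel_right]

theorem fusions [CharP K 2] (hc : CommOK H.core) : ∀ R ∈ CertTwE6.reps, R = [] ∨
    ∃ y ∈ CertTwE6.ys, ∃ h ∈ (T F hq1 hK).W, h * wordG H K R * h⁻¹ = wordG H K y := by
  intro R hR
  obtain ⟨k, hk, rfl⟩ := List.getElem_of_mem hR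
  have hf' := (allLt_iff.1 CertTwE6.fusion) k hk
  rw [List.getD_eq_getElem (hn := hk)] at hf'
  simp only [Bool.or_eq_true, Bool.and_eq_true, Nat.blt_eq] at hf'
  rcases hf' with (h0 | h3) | ⟨hy, hok⟩
  · have := Nat.eq_of_beq_eq_true h0
    subst this
    exact Or.inl rfl
  · have := Nat.eq_of_beq_eq_true h3
    subst this
    obtain ⟨h, hh, he⟩ := fuse F hq1 hK hc
    exact Or.inr ⟨[68, 66], by simp [CertTwE6.ys], h, hh, he⟩
  · rw [List.getD_eq_getElem (hn := hy)] at hok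
    simp only [CertTwE6.fusOK, Bool.and_eq_true] at hok
    obtain ⟨⟨⟨hw, hd⟩, hd'⟩, he⟩ := hok
    exact Or.inr ⟨_, List.getElem_mem hy, fuse_of_eval H hc (hf F hq1 hK) (tab F hq1 hK) hw hd hd' he⟩

/-- Three classes of involutions. -/
theorem count [CharP K 2] :
    (ConjClasses.mk '' {g : ↥(T F hq1 hK).W | orderOf g = 2}).ncard = 3 := by
  have hc : CommOK H.core := Cfsg.Agent.Lib.ChevStructure.Cert.E6.core.commOK_mild Cfsg.Agent.Lib.ChevStructure.mildE6
  have hr : ∀ i < CertTwE6.ys.length,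
      (((wordG H K (CertTwE6.ys.getD i [])) : Matrix chevE6.Idx chevE6.Idx K) - 1).rank = [22, 32, 38].getD i 0 := by
    intro i hi
    have hi' : i < 3 := hi
    interval_cases i
    · exact rank_of_cert H CertTwE6.diag hi CertTwE6.rank0
    · exact rank_of_cert H CertTwE6.diag hi CertTwE6.rank1
    · exact rank_of_cert H CertTwE6.diag hi CertTwE6.rank2
  refine tw_count H (by decide)
    (fun y hy => block_mem H hc (hf F hq1 hK) (tab F hq1 hK) (List.all_eq_true.1 CertTwE6.blocks y hy))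
    (fun g hg h2 h1 => tw_classes H hc (hf F hq1 hK) (shape F hq1 hK) (tab F hq1 hK) CertTwE6.sign CertTwE6.cover
      (fusions F hq1 hK hc) hg h2 h1)
    (sq_of_all (K := K) H CertTwE6.diag CertTwE6.square) (ne_one_of_rank H hr (by decide)) ?_
  intro y₁ h₁ y₂ h₂ h _ he
  obtain ⟨i, hi, j, hj, rfl, rfl, e⟩ := inj_of_rank H (rs := [22, 32, 38]) rfl hr h₁ h₂ he
  have hnd : ∀ a b : Fin 3, ([22, 32, 38] : List ℕ).getD a.val 0 = ([22, 32, 38] : List ℕ).getD b.val 0 → a = b := by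
    decide
  rw [show i = j from congrArg Fin.val (hnd ⟨i, hi⟩ ⟨j, hj⟩ e)]

end Cfsg.Agent.Lib.EvenInvolutions.TwE6
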