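import Cfsg.Agent.Lib.EvenInvolutions.CertTwF4
import Cfsg.Agent.Lib.LieTwisted.Twist.F4Thms

/-!
The involutions of ²F₄(q): conjugate into N¹, where the torus has odd order, so to the three representatives
of the involutions of the twisted Weyl group; these fuse into two classes inside ²F₄(2).
-/

set_option autoImplicit false
set_option maxRecDepth 100000
set_option linter.unusedSectionVars false

namespace Cfsg.Agent.Lib.EvenInvolutions.TwF4

open Cfsg.Lie Cfsg.Agent.Lib.ChevStructure Cfsg.Agent.Lib.LieTwisted.Twist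
open scoped MatrixGroups

/-- An involution in the coset of an involution normalising an abelian group of odd order. -/
theorem coset_involution {G : Type*} [Group G] {A : Subgroup G} [Finite A] (hodd : Odd (Nat.card A))
    (hcomm : ∀ a ∈ A, ∀ b ∈ A, a * b = b * a) {a n : G} (ha : a ∈ A) (hn : n * n = 1) (h2 : a * n * (a * n) = 1) :
    ∃ z ∈ A, z * (a * n) * z⁻¹ = n := by
  obtain ⟨k, hk⟩ := hodd
  have hak : a ^ (2 * k + 1) = 1 := by
    rw [← hk]
    exact congrArg Subtype.val (pow_card_eq_one' (x := (⟨a, ha⟩ : A)))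
  set z := a ^ (k + 1) with hz
  have hzA : z ∈ A := A.pow_mem ha _
  have hnan : n * a * n⁻¹ = a⁻¹ := by
    refine eq_inv_of_mul_eq_one_right ?_
    rw [inv_eq_of_mul_eq_one_right hn, ← h2]; group
  have hzz : z * z = a := by
    rw [hz, ← pow_add, show k + 1 + (k + 1) = 2 * k + 1 + 1 by ring, pow_succ, hak, one_mul]
  have hnz : n * z * n⁻¹ = z⁻¹ := by
    rw [hz, ← conj_pow, hnan, inv_pow]
  refine ⟨z⁻¹, inv_mem hzA, ?_⟩
  rw [inv_inv]
  have e : z⁻¹ * a = a * z⁻¹ := hcomm _ (inv_mem hzA) _ ha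
  calc z⁻¹ * (a * n) * z = z⁻¹ * a * (n * z * n⁻¹) * n := by group
    _ = n := by rw [hnz, e, mul_assoc a, ← _root_.mul_inv_rev, hzz, mul_inv_cancel, one_mul]

theorem π_vals : ∀ r : Rt chevF4, (F4.π r).val = CertTwF4.pi.getD r.val 0 := by decide +kernel

theorem idx_vals : ∀ i : Fin chevF4.rank, (F4.idxF i).val = CertTwF4.ix.getD i.val 0 := by decide +kernel

theorem Jw_vals : ∀ m : Fin 2, (F4.Jw m).map Fin.val = CertTwF4.Js.getD m.val [] := by decide +kernel

theorem nWord_vals : ∀ m : Fin 2, ((F4.Jw m).flatMap fun i =>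
    [(F4.pD i).val, (F4.pD i).rev.val, (F4.pD i).val]) = CertTwF4.nWord.getD m.val [] := by decide +kernel

abbrev H := Cfsg.Agent.Lib.ChevStructure.Cert.F4.certified

variable {K : Type*} [Field K] {θ : K ≃+* K} {e : ℕ} (F : F4.Th θ e)

include F

theorem gP_word (r s : Rt chevF4) : F4.gP θ r s (1 : K) = wordG H K [r.val, s.val] := by
  rw [F4.gP, map_one, wordG]
  simp [Core.XN, F4.C]
  rfl

theorem gB_word_a (a b ab aab : Rt chevF4) : F4.gB θ a b ab aab (1 : K) 0 = wordG H K [a.val, b.val, ab.val] := by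
  simp [F4.gB, wordG, Core.XN, Core.X_zero, mul_assoc]
  rfl

theorem gB_word_b (a b ab aab : Rt chevF4) : F4.gB θ a b ab aab (0 : K) 1 = wordG H K [ab.val, aab.val] := by
  simp [F4.gB, wordG, Core.XN, Core.X_zero]
  rfl

theorem gB_word_c (a b ab aab : Rt chevF4) : F4.gB θ a b ab aab (1 : K) 1 = wordG H K [a.val, b.val, aab.val] := by
  simp [F4.gB, wordG, Core.XN, Core.X_zero, F.add_self, mul_assoc]
  rfl

theorem gens_mem {B : List ℕ} (hB : B ∈ CertTwF4.gens) : wordG H K B ∈ F4.G K e := by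
  simp only [CertTwF4.gens, List.mem_cons, List.not_mem_nil, or_false] at hB
  rcases hB with rfl | rfl | rfl | rfl | rfl | rfl | rfl | rfl
  · exact gP_word F (F4.R 33) (F4.R 24) ▸ (F4.gP_mem F 1).1
  · exact gP_word F (F4.R 14) (F4.R 23) ▸ (F4.gP_mem F 1).2
  · exact gB_word_a F (F4.R 27) (F4.R 25) (F4.R 28) (F4.R 30) ▸ (F4.gB_mem F 1 0).1
  · exact gB_word_b F (F4.R 27) (F4.R 25) (F4.R 28) (F4.R 30) ▸ (F4.gB_mem F 0 1).1
  · exact gB_word_a F (F4.R 20) (F4.R 22) (F4.R 19) (F4.R 17) ▸ (F4.gB_mem F 1 0).2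
  · exact gB_word_b F (F4.R 20) (F4.R 22) (F4.R 19) (F4.R 17) ▸ (F4.gB_mem F 0 1).2
  · exact gB_word_c F (F4.R 27) (F4.R 25) (F4.R 28) (F4.R 30) ▸ (F4.gB_mem F 1 1).1
  · exact gB_word_c F (F4.R 20) (F4.R 22) (F4.R 19) (F4.R 17) ▸ (F4.gB_mem F 1 1).2

theorem gens_flatten_mem : ∀ {w : List (List ℕ)}, (w.all fun B => CertTwF4.gens.contains B) = true →
    wordG H K w.flatten ∈ F4.G K e
  | [], _ => one_mem _
  | B :: w, h => by
    rw [List.all_cons, Bool.and_eq_true, List.contains_iff_mem] at h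
    rw [List.flatten_cons, wordG_append]
    exact mul_mem (gens_mem F h.1) (gens_flatten_mem h.2)

theorem P_word (i : Fin chevF4.rank) :
    F4.C.P K i = wordG H K [(F4.pD i).val, (F4.pD i).rev.val, (F4.pD i).val] := by
  rw [Core.P, F4.p_eq, Core.nR]
  simp [wordG, Core.XN, F.neg, mul_assoc]
  rfl

theorem wprod_word : ∀ L : List (Fin chevF4.rank), F4.C.wprod K L =
    wordG H K (L.flatMap fun i => [(F4.pD i).val, (F4.pD i).rev.val, (F4.pD i).val])
  | [] => rfl
  | i :: L => by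
    rw [List.flatMap_cons, wordG_append, ← wprod_word L, ← P_word F, Core.wprod, List.map_cons, List.prod_cons]
    rfl

variable [Fintype K]

theorem tab : TwTab H (F4.tw F) CertTwF4.Js CertTwF4.pi CertTwF4.ix where
  π_val r := π_vals r
  len := rfl
  J_val m := Jw_vals m
  idx_val i := idx_vals i

/-- The product of the representatives of the orbit reflections along a word. -/
theorem wordN_spec {W : List ℕ} (hW : ∀ m ∈ W, m < 2) :
    ∃ σ ∈ (F4.tw F).WT, wordG H K (CertTwF4.wordN W) ∈ F4.G K e ∧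
      wordG H K (CertTwF4.wordN W) ∈ chevF4.monomialSubgroup K ∧
      F4.C.Acts (wordG H K (CertTwF4.wordN W)) σ ∧
      ∀ r : Rt chevF4, (σ r).val = Data.F4.fast.etWord CertTwF4.Js W r.val := by
  induction W with
  | nil => exact ⟨1, one_mem _, one_mem _, one_mem _, fun r => ⟨1, fun t => by simp [CertTwF4.wordN, wordG]⟩,
      fun r => rfl⟩
  | cons m W ih =>
    obtain ⟨σ, hσ, hG, hN, ha, hv⟩ := ih fun x hx => hW x (List.mem_cons_of_mem _ hx)
    let m' : Fin 2 := ⟨m, hW m List.mem_cons_self⟩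
    have e1 : wordG H K (CertTwF4.wordN (m :: W)) =
        F4.C.wprod K (F4.Jw m') * wordG H K (CertTwF4.wordN W) := by
      rw [CertTwF4.wordN, List.flatMap_cons, wordG_append, wprod_word F, nWord_vals]
      rfl
    refine ⟨(F4.tw F).wO m' * σ, mul_mem ((F4.tw F).wO_mem m') hσ, ?_, ?_, ?_, fun r => ?_⟩
    · rw [e1]; exact mul_mem ((F4.tw F).nO_mem m') hG
    · rw [e1]; exact mul_mem (F4.C.wprod_mem_monomial _) hN
    · rw [e1]; exact F4.C.acts_mul K (F4.C.acts_wprod K _) ha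
    · rw [Equiv.Perm.mul_apply]
      refine (wO_val H (tab F) m' (σ r)).trans ?_
      rw [hv]
      rfl

omit F in
theorem eq_of_sameW {σ τ : Equiv.Perm (Rt chevF4)} (hσ : σ ∈ F4.C.WG) (hτ : τ ∈ F4.C.WG) {U V : List ℕ}
    (hU : ∀ r : Rt chevF4, (σ r).val = Data.F4.fast.etWord CertTwF4.Js U r.val)
    (hV : ∀ r : Rt chevF4, (τ r).val = Data.F4.fast.etWord CertTwF4.Js V r.val)
    (h : CertTwF4.sameW U V = true) : σ = τ := by
  rw [CertTwF4.sameW, allLt_iff] at h
  refine rhoP_eq_of_vals H hσ hτ fun i => ?_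
  rw [hU, hV]
  exact Nat.eq_of_beq_eq_true (h i.val (Fast.Certified.lt_l H i))

omit F in
theorem etWord_append (U V : List ℕ) (r : ℕ) : Data.F4.fast.etWord CertTwF4.Js (U ++ V) r =
    Data.F4.fast.etWord CertTwF4.Js U (Data.F4.fast.etWord CertTwF4.Js V r) := by
  simp [Fast.etWord, List.foldr_append]

theorem WT_words : ∀ σ ∈ (F4.tw F).WT, ∃ W ∈ CertTwF4.words,
    ∀ r : Rt chevF4, (σ r).val = Data.F4.fast.etWord CertTwF4.Js W r.val := by
  refine (F4.tw F).WT_induction (fun σ => ∃ W ∈ CertTwF4.words,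
    ∀ r : Rt chevF4, (σ r).val = Data.F4.fast.etWord CertTwF4.Js W r.val) ⟨[], by simp [CertTwF4.words],
      fun r => rfl⟩ ?_
  rintro σ hσ i - ⟨W, hW, hv⟩
  obtain ⟨k, hk, rfl⟩ := List.getElem_of_mem hW
  have hc := CertTwF4.closed
  simp only [allLt_iff, List.any_eq_true] at hc
  set m := (F4.tw F).idx i
  obtain ⟨V, hV, hVs⟩ := hc k hk m.val m.isLt
  rw [List.getD_eq_getElem (hn := hk)] at hVs
  have hb := CertTwF4.bounded
  simp only [List.all_eq_true, Nat.blt_eq] at hb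
  obtain ⟨τ, hτ, -, -, -, hτv⟩ := wordN_spec F (hb V hV)
  refine ⟨V, hV, ?_⟩
  have hw : (F4.tw F).wO m * (F4.tw F).wO m = 1 := (F4.tw F).J_inv m
  have e : σ = τ := eq_of_sameW (U := CertTwF4.words[k] ++ [m.val]) ((F4.tw F).mem_WT.1 hσ).1
    ((F4.tw F).mem_WT.1 hτ).1 (fun r => by
      rw [show σ = σ * (F4.tw F).wO m * (F4.tw F).wO m by rw [mul_assoc, hw, mul_one], Equiv.Perm.mul_apply, hv,
        etWord_append]
      exact congrArg _ (wO_val H (tab F) m r)) hτv hVs
  rw [e]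
  exact hτv

/-- The fixed torus. -/
noncomputable abbrev A (K : Type*) [Field K] (e : ℕ) : Subgroup (GL chevF4.Idx K) :=
  chevF4.diagonalSubgroup K ⊓ F4.G K e

theorem A_odd : Odd (Nat.card ↥(A K e)) := by
  have := F.two
  rw [F4.card_diag F, Nat.card_units]
  refine Odd.pow (Nat.Even.sub_odd (Nat.card_pos) ?_ odd_one)
  rw [Nat.card_eq_fintype_card]
  exact Nat.even_iff.2 (FiniteField.even_card_of_char_two (ringChar.eq K 2))

/-- Every involution is conjugate to one of two representatives. -/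
theorem classes {g : GL chevF4.Idx K} (hg : g ∈ F4.G K e) (h2 : g * g = 1) (h1 : g ≠ 1) :
    ∃ y ∈ CertTwF4.ys, ∃ h ∈ F4.G K e, h * g * h⁻¹ = wordG H K y := by
  have := F.two
  obtain ⟨x, hx, m, hm, hmN, hm2, hxm⟩ :=
    tw_monomial_conj (T := F4.tw F) (down H (tab F) CertTwF4.down) hg h2
  obtain ⟨σ, hσ, ha⟩ := F4.C.exists_acts hmN
  have hσT : σ ∈ (F4.tw F).WT := (F4.tw F).mem_WT_of_acts hmN ((F4.tw F).W_fix m hm) ha
  have hσ2 : σ * σ = 1 := by
    refine F4.C.acts_unique K (F4.C.acts_mul K ha ha) ?_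
    rw [hm2]; simpa [F4.C.HT_one] using F4.C.acts_HT K 1
  have hAcomm : ∀ a ∈ A K e, ∀ b ∈ A K e, a * b = b * a := by
    rintro a ⟨ha', -⟩ b ⟨hb', -⟩
    obtain ⟨c, rfl⟩ := F4.C.mem_diagonal_iff.1 ha'
    obtain ⟨c', rfl⟩ := F4.C.mem_diagonal_iff.1 hb'
    rw [F4.C.HT_mul, F4.C.HT_mul, mul_comm]
  obtain ⟨W, hW, hv⟩ := WT_words F σ hσT
  obtain ⟨k, hk, rfl⟩ := List.getElem_of_mem hW
  have hb := CertTwF4.bounded
  simp only [List.all_eq_true, Nat.blt_eq] at hb
  have hcl := CertTwF4.classesW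
  rw [allLt_iff] at hcl
  have hck := hcl k hk
  simp only [Bool.or_eq_true, Bool.not_eq_true', Bool.and_eq_true, Nat.blt_eq, List.all_eq_true,
    List.getD_eq_getElem (hn := hk)] at hck
  rcases hck with (h0 | hns) | ⟨⟨ht, hU⟩, hs⟩
  · -- the trivial element
    have := Nat.eq_of_beq_eq_true h0
    subst this
    have hσ1 : σ = 1 := Equiv.ext fun r => Fin.ext (by rw [hv]; rfl)
    have hmA : m ∈ A K e := ⟨F4.C.mem_diagonal_of_acts_one hmN (hσ1 ▸ ha), hm⟩
    obtain ⟨z, -, hz⟩ := coset_involution (A_odd F) hAcomm hmA (one_mul 1) (by rw [mul_one]; exact hm2)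
    rw [mul_one] at hz
    refine absurd ?_ h1
    have hm1 : m = 1 := by
      calc m = z⁻¹ * (z * m * z⁻¹) * z := by group
        _ = 1 := by rw [hz]; group
    rw [hm1, mul_inv_eq_one, mul_eq_left] at hxm
    exact hxm
  · have hse : CertTwF4.sameW (CertTwF4.words[k] ++ CertTwF4.words[k]) [] = true := by
      rw [CertTwF4.sameW, allLt_iff]
      intro i hi
      have hi' : i < chevF4.rank := by rw [Fast.Certified.hl H]; exact hi
      rw [etWord_append, show Data.F4.fast.p i = (F4.C.p ⟨i, hi'⟩).val from rfl, ← hv, ← hv,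
        ← Equiv.Perm.mul_apply, hσ2]
      exact Nat.beq_refl _
    rw [hse] at hns
    exact absurd hns (by simp)
  generalize CertTwF4.conjT.getD k ([], 0) = cu at ht hU hs
  obtain ⟨U, t⟩ := cu
  obtain ⟨u, hu, huG, huN, hua, huv⟩ := wordN_spec F hU
  have hfu := CertTwF4.fusion
  rw [allLt_iff] at hfu
  have hft := hfu t ht
  simp only [Bool.and_eq_true, Nat.blt_eq] at hft
  obtain ⟨hy, hok⟩ := hft
  have hTW : ∀ j ∈ CertTwF4.targets.getD t [], j < 2 := by
    have key : ∀ t < 3, ∀ j ∈ CertTwF4.targets.getD t [], j < 2 := by decide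
    exact key t ht
  obtain ⟨τ, hτ, hnG, hnN, hna, hτv⟩ := wordN_spec F hTW
  set n := wordG H K (CertTwF4.wordN (CertTwF4.targets.getD t [])) with hn
  have hn2 : n * n = 1 := by
    have hmem : CertTwF4.targets.getD t [] ∈ CertTwF4.targets := by
      rw [List.getD_eq_getElem (hn := (ht : t < CertTwF4.targets.length))]
      exact List.getElem_mem _
    rw [hn, ← wordG_append]
    exact prod_eq_of_evalW (R := K) H (List.all_eq_true.1 CertTwF4.diagN _ hmem) (by simp)
      (List.all_eq_true.1 CertTwF4.squareN _ hmem)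
  set Q := wordG H K (CertTwF4.wordN U) with hQ
  have hστ : u * σ = τ * u := by
    refine eq_of_sameW (U := U ++ CertTwF4.words[k]) (V := CertTwF4.targets.getD t [] ++ U)
      (mul_mem ((F4.tw F).mem_WT.1 hu).1 ((F4.tw F).mem_WT.1 hσT).1)
      (mul_mem ((F4.tw F).mem_WT.1 hτ).1 ((F4.tw F).mem_WT.1 hu).1) (fun r => ?_) (fun r => ?_) hs
    · rw [Equiv.Perm.mul_apply, huv, hv, etWord_append]
    · rw [Equiv.Perm.mul_apply, hτv, huv, etWord_append]
  set m' := Q * m * Q⁻¹ with hm'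
  have hm'2 : m' * m' = 1 := by
    calc m' * m' = Q * (m * m) * Q⁻¹ := by rw [hm']; group
      _ = 1 := by rw [hm2]; group
  have hm'a : F4.C.Acts m' τ := by
    have h := F4.C.acts_mul K (F4.C.acts_mul K hua ha) (F4.C.acts_inv K hua)
    rwa [hστ, mul_inv_cancel_right] at h
  have hmA : m' * n⁻¹ ∈ A K e := by
    refine Subgroup.mem_inf.2 ⟨F4.C.mem_diagonal_of_acts_one
      (mul_mem (mul_mem (mul_mem huN hmN) (inv_mem huN)) (inv_mem hnN)) ?_,
      mul_mem (mul_mem (mul_mem huG hm) (inv_mem huG)) (inv_mem hnG)⟩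
    simpa using F4.C.acts_mul K hm'a (F4.C.acts_inv K hna)
  obtain ⟨z, hz, hzn⟩ := coset_involution (A_odd F) hAcomm hmA hn2 (by rw [inv_mul_cancel_right]; exact hm'2)
  rw [inv_mul_cancel_right] at hzn
  simp only [CertTwF4.fusOK, Bool.and_eq_true] at hok
  obtain ⟨⟨⟨hw, hd⟩, hd'⟩, he⟩ := hok
  generalize CertTwF4.fus.getD t (0, []) = f at hy hw hd hd' he
  obtain ⟨j, w⟩ := f
  rw [show CertTwF4.ys.getD (j, w).1 [] = CertTwF4.ys[j]'(hy : j < CertTwF4.ys.length) from
    List.getD_eq_getElem _ _ (hy : j < CertTwF4.ys.length)] at hd' he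
  refine ⟨_, List.getElem_mem (hy : j < CertTwF4.ys.length), wordG H K w.flatten * z * Q * x,
    mul_mem (mul_mem (mul_mem (gens_flatten_mem F hw) hz.2) huG) hx, ?_⟩
  have e' : wordG H K w.flatten * n = wordG H K CertTwF4.ys[j] * wordG H K w.flatten := by
    rw [hn, ← wordG_append, ← wordG_append]
    exact prod_eq_of_evalW (R := K) H hd hd' he
  calc wordG H K w.flatten * z * Q * x * g * (wordG H K w.flatten * z * Q * x)⁻¹
      = wordG H K w.flatten * (z * (Q * (x * g * x⁻¹) * Q⁻¹) * z⁻¹) * (wordG H K w.flatten)⁻¹ := by group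
    _ = _ := by rw [hxm, ← hm', hzn, e', mul_inv_cancel_right]

theorem ys_mem : ∀ y ∈ CertTwF4.ys, wordG H K y ∈ F4.G K e := fun y hy =>
  gens_mem F (by revert y; decide)

theorem ys_sq : ∀ y ∈ CertTwF4.ys, wordG H K y * wordG H K y = 1 :=
  haveI := F.two
  sq_of_all (K := K) H CertTwF4.diag CertTwF4.square

omit F in
theorem ys_rank [CharP K 2] : ∀ i < CertTwF4.ys.length,
    (((wordG H K (CertTwF4.ys.getD i [])) : Matrix chevF4.Idx chevF4.Idx K) - 1).rank = [21, 24].getD i 0 := by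
  intro i hi
  have hi' : i < 2 := hi
  interval_cases i
  · exact rank_of_cert H CertTwF4.diag hi CertTwF4.rank0
  · exact rank_of_cert H CertTwF4.diag hi CertTwF4.rank1

omit F in
theorem ys_inj [CharP K 2] {y₁ y₂ : List ℕ} (h₁ : y₁ ∈ CertTwF4.ys) (h₂ : y₂ ∈ CertTwF4.ys) {h : GL chevF4.Idx K}
    (he : h * wordG H K y₁ * h⁻¹ = wordG H K y₂) : y₁ = y₂ := by
  obtain ⟨i, hi, j, hj, rfl, rfl, e⟩ := inj_of_rank H (rs := [21, 24]) rfl ys_rank h₁ h₂ he
  have hnd : ∀ a b : Fin 2, ([21, 24] : List ℕ).getD a.val 0 = ([21, 24] : List ℕ).getD b.val 0 → a = b := by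
    decide
  rw [show i = j from congrArg Fin.val (hnd ⟨i, hi⟩ ⟨j, hj⟩ e)]

/-- Two classes of involutions. -/
theorem count : (ConjClasses.mk '' {g : ↥(F4.G K e) | orderOf g = 2}).ncard = 2 := by
  have := F.two
  exact tw_count H (by decide) (ys_mem F) (fun g hg h2 h1 => classes F hg h2 h1) (ys_sq F)
    (ne_one_of_rank H ys_rank (by decide)) (fun y₁ h₁ y₂ h₂ h _ he => ys_inj h₁ h₂ he)

end Cfsg.Agent.Lib.EvenInvolutions.TwF4
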