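import Cfsg.Agent.Lib.EvenInvolutions.TwBasic
import Cfsg.Agent.Lib.EvenInvolutions.MaxCell

/-!
Every involution of a twisted group is conjugate in it to an involution of N¹: among the conjugates take
one in a twisted Bruhat cell of greatest length.
-/

set_option autoImplicit false
set_option linter.unusedSectionVars false

namespace Cfsg.Agent.Lib.EvenInvolutions

open Cfsg.Lie Cfsg.Agent.Lib.ChevStructure Cfsg.Agent.Lib.LieTwisted.Twist
open Cfsg.Agent.Lib.OddInvolutions (linV linV_v WG_rev' WG_pr sref_mem len_inv)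
open scoped MatrixGroups Matrix

variable {D : ChevalleyDatum} {C : Core D} {K : Type*} [Field K]

/-- A conjugate of `g` lies in the twisted cell of `σ`, in the form v·m. -/
def TwRep (T : Tw C K) (g : GL D.Idx K) (σ : Equiv.Perm (Rt D)) : Prop :=
  ∃ x ∈ T.W, ∃ v ∈ T.W, v ∈ C.US K C.Pos ∧
    ∃ m ∈ T.W, m ∈ D.monomialSubgroup K ∧ C.Acts m σ ∧ x * g * x⁻¹ = v * m

/-- A weighted height of a root. -/
def hgt (C : Core D) (wt : Fin D.rank → ℕ) (r : Rt D) : ℤ := ∑ j, (wt j : ℤ) * C.v r j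

/-- The orbit is permuted by `σ`. -/
def FixO (T : Tw C K) (σ : Equiv.Perm (Rt D)) (m : Fin T.nn) : Prop :=
  ∀ j, T.idx j = m → ∃ k, T.idx k = m ∧ σ (C.p j) = C.p k

variable {T : Tw C K}

theorem TwRep.mem_WT {g : GL D.Idx K} {σ : Equiv.Perm (Rt D)} (h : TwRep T g σ) : σ ∈ T.WT := by
  obtain ⟨x, -, v, -, -, m, hm, hmN, ha, -⟩ := h
  exact T.mem_WT_of_acts hmN (T.W_fix m hm) ha

theorem meet_eq_one {A S : Set (Rt D)} (H : CommOK C) (hA : A ⊆ C.Pos) (hS : S ⊆ C.Pos)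
    (hAc : ClosedSet C A) (hSc : ClosedSet C S) (hd : ∀ r ∈ A, r ∉ S) {g : GL D.Idx K}
    (h1 : g ∈ C.US K A) (h2 : g ∈ C.US K S) : g = 1 := by
  obtain ⟨t, rfl, ht⟩ := exists_coords H hA hAc h1
  refine List.prod_eq_one fun z hz => ?_
  obtain ⟨r, hr, rfl⟩ := List.mem_map.1 hz
  by_cases hrA : r ∈ A
  · rw [coord_eq_zero H hS hSc h2 (C.mem_posL.1 hr) (hd r hrA), C.X_zero]
  · rw [ht r hrA, C.X_zero]

theorem closed_inv'_wO (m : Fin T.nn) : ClosedSet C (C.inv' (T.wO m)) := fun _ hr _ hs _ _ _ _ hj hv =>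
  C.inv'_closed ⟨T.wO m, (T.mem_WT.1 (T.wO_mem m)).1⟩ hr hs hj hv

theorem π_outO {m : Fin T.nn} {r : Rt D} (hr : r ∈ outO T m) : T.π r ∈ outO T m := by
  refine pos_not_inv' (T.π_pos r hr.1) fun h => ?_
  have hbij : Set.SurjOn T.π (C.inv' (T.wO m)) (C.inv' (T.wO m)) :=
    ((Set.toFinite _).injOn_iff_bijOn_of_mapsTo fun x hx => π_inv'_wO hx).1 T.π.injective.injOn |>.surjOn
  obtain ⟨x, hx, e⟩ := hbij h
  rw [T.π.injective e] at hx
  exact hr.2 (inv'_wO.1 hx).2

variable [Finite K]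

theorem mem_W {g : GL D.Idx K} (hg : g ∈ D.group K) (h : T.τ g = g) : g ∈ T.W := T.mem_W_iff.2 ⟨hg, h⟩

/-- The factorisation of a fixed element of U along an orbit. -/
theorem split_orbit (m : Fin T.nn) {v : GL D.Idx K} (hvW : v ∈ T.W) (hv : v ∈ C.US K C.Pos) :
    ∃ a ∈ T.W, a ∈ C.US K (outO T m) ∧ ∃ x ∈ T.W, x ∈ C.US K (C.inv' (T.wO m)) ∧ v = a * x := by
  have H := T.comm
  obtain ⟨a, ha, x, hx, rfl⟩ := H.exists_factor (A := outO T m) (S := C.inv' (T.wO m))
    (fun r hr => by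
      by_cases h : r ∈ C.inv' (T.wO m)
      · exact Or.inr h
      · exact Or.inl (pos_not_inv' hr h)) hv
  have ha' : a ∈ C.US K (outO T m) := C.US_mono K (fun r hr => hr.1) ha
  have hx' : x ∈ C.US K (C.inv' (T.wO m)) := C.US_mono K (fun r hr => hr.1) hx
  have haG := C.US_le_group _ ha'
  have hxG := C.US_le_group _ hx'
  have hta := T.τ_US (S' := outO T m) (fun r hr => π_outO hr) ha'
  have htx := T.τ_US (S' := C.inv' (T.wO m)) (fun r hr => π_inv'_wO hr) hx'
  have hfix : T.τ a * T.τ x = a * x := by rw [← T.τ_mul a haG x hxG]; exact T.W_fix _ hvW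
  have h1 : a⁻¹ * T.τ a = x * (T.τ x)⁻¹ := by
    rw [eq_mul_inv_iff_mul_eq, mul_assoc, hfix, inv_mul_cancel_left]
  have e := meet_eq_one (A := outO T m) (S := C.inv' (T.wO m)) H (fun _ h => h.1) (fun _ h => h.1)
    (closed_outO m) (closed_inv'_wO m) (fun r hr hs => hr.2 (inv'_wO.1 hs).2)
    (mul_mem (inv_mem ha') hta) (by rw [h1]; exact mul_mem hx' (inv_mem htx))
  have hfa : T.τ a = a := (inv_mul_eq_one.1 e).symm
  rw [hfa] at hfix
  exact ⟨a, mem_W haG hfa, ha', x, mem_W hxG (mul_left_cancel hfix), hx', rfl⟩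

theorem wprod_cell (H : CommOK C) : ∀ (L : List (Fin D.rank)) {n b : GL D.Idx K},
    n ∈ D.monomialSubgroup K → b ∈ D.borelSubgroup K → ∃ L' : List (Fin D.rank), L' ⊆ L ∧
      ∃ b1 ∈ D.borelSubgroup K, ∃ b2 ∈ D.borelSubgroup K, C.wprod K L * b * n = b1 * (C.wprod K L' * n) * b2
  | [], n, b, _, hb => ⟨[], List.Subset.refl _, b, hb, 1, one_mem _, by simp [Core.wprod]⟩
  | i :: L, n, b, hn, hb => by
    obtain ⟨L', hL', b1, hb1, b2, hb2, e⟩ := wprod_cell H L hn hb
    have hn' : C.wprod K L' * n ∈ D.monomialSubgroup K := mul_mem (C.wprod_mem_monomial L') hn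
    have e0 : C.wprod K (i :: L) * b * n = C.P K i * b1 * (C.wprod K L' * n) * b2 := by
      rw [C.wprod_cons]
      calc C.P K i * C.wprod K L * b * n = C.P K i * (C.wprod K L * b * n) := by group
        _ = _ := by rw [e]; group
    rcases H.step i hn' hb1 with h | h
    · obtain ⟨c1, hc1, c2, hc2, e1⟩ := DoubleCoset.mem_doubleCoset.1 h
      refine ⟨i :: L', List.cons_subset_cons i hL', c1, hc1, c2 * b2, mul_mem hc2 hb2, ?_⟩
      rw [e0, e1, C.wprod_cons]; group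
    · obtain ⟨c1, hc1, c2, hc2, e1⟩ := DoubleCoset.mem_doubleCoset.1 h
      refine ⟨L', List.subset_cons_of_subset i hL', c1, hc1, c2 * b2, mul_mem hc2 hb2, ?_⟩
      rw [e0, e1]; group

/-- A nontrivial fixed element of the negative orbit group lies in the cell of the orbit. -/
theorem neg_orbit_cell (m : Fin T.nn) {x : GL D.Idx K} (hxW : x ∈ T.W)
    (hx : x ∈ C.US K (C.inv' (T.wO m))) (h1 : x ≠ 1) :
    ∃ b ∈ D.borelSubgroup K, T.τ b = b ∧ ∃ u ∈ C.US K (C.inv' (T.wO m)), T.τ u = u ∧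
      T.nO m * x * (T.nO m)⁻¹ = b * T.nO m * u := by
  have H := T.comm
  set y := T.nO m * x * (T.nO m)⁻¹ with hy
  have hyW : y ∈ T.W := mul_mem (mul_mem (T.nO_mem m) hxW) (inv_mem (T.nO_mem m))
  obtain ⟨ω, hω, hnf⟩ := T.exists_nf (T.W_le hyW) (T.W_fix y hyW)
  obtain ⟨n, hnW, hnN, hna⟩ := T.exists_rep hω
  obtain ⟨b, hb, hbf, u, hu, huf, e⟩ := hnf n hnW hnN hna
  set L := T.J m
  set d := T.nO m * (C.wprod K L)⁻¹ with hd
  have hdB : d ∈ D.borelSubgroup K := C.diagonal_le_borel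
    (C.mem_diagonal_of_acts_one (mul_mem (T.nO_mono m) (inv_mem (C.wprod_mem_monomial L)))
      (by simpa [L] using C.acts_mul K (T.nO_acts m) (C.acts_inv K (C.acts_wprod K L))))
  obtain ⟨L', hL', b1, hb1, b2, hb2, e'⟩ := wprod_cell H L (inv_mem (T.nO_mono m))
    (C.posUS_le_borel (C.US_mono K (fun _ h => h.1) hx))
  set n' := C.wprod K L' * (T.nO m)⁻¹ with hn'
  have hn'N : n' ∈ D.monomialSubgroup K := mul_mem (C.wprod_mem_monomial L') (inv_mem (T.nO_mono m))
  have hy' : b * n * u = d * b1 * n' * b2 := by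
    rw [← e, hy, hd, hn']
    calc T.nO m * x * (T.nO m)⁻¹ = T.nO m * (C.wprod K L)⁻¹ * (C.wprod K L * x * (T.nO m)⁻¹) := by group
      _ = _ := by rw [e']; simp only [n']; group
  have huB : u ∈ D.borelSubgroup K := C.posUS_le_borel (C.US_mono K (fun _ h => h.1) hu)
  have hdiag := H.bruhat_unique hn'N hnN (mul_mem (inv_mem hb) (mul_mem hdB hb1)) (mul_mem hb2 (inv_mem huB))
    (by
      calc n = b⁻¹ * (b * n * u) * u⁻¹ := by group
        _ = _ := by rw [hy']; group)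
  have hωe : ω = C.pprod L' * (T.wO m)⁻¹ := by
    have ha' : C.Acts n' (C.pprod L' * (T.wO m)⁻¹) :=
      C.acts_mul K (C.acts_wprod K L') (C.acts_inv K (T.nO_acts m))
    refine (inv_mul_eq_one.1 (C.acts_unique K (C.acts_mul K (C.acts_inv K ha') hna)
      (C.acts_diagonal hdiag))).symm
  have hin : ∀ r ∈ C.inv' ω, InO T m r := by
    intro r hr j hj
    by_contra hne
    have hJ : j ∉ L' := fun h => hne ((T.mem_J j m).1 (hL' h))
    have e1 : C.v (ω r) j = C.v r j := by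
      rw [hωe, Equiv.Perm.mul_apply, T.pprod_coord L' _ j hJ,
        inv_eq_of_mul_eq_one_right (show T.wO m * T.wO m = 1 from T.J_inv m), wO_coord r hne]
    have h3 := C.v_nonpos hr.2 j
    have h4 := C.v_nonneg hr.1 j
    rw [e1] at h3
    omega
  have hne1 : ω ≠ 1 := by
    intro h
    have hu1 : u = 1 := by
      have hb0 : C.US K (C.inv' ω) ≤ ⊥ := (Subgroup.closure_le _).2 (by
        rintro z ⟨r, hr, -⟩
        rw [h] at hr
        exact absurd hr.1 ((C.neg_iff_not_pos _).1 hr.2))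
      exact Subgroup.mem_bot.1 (hb0 hu)
    have hn1 : n ∈ D.diagonalSubgroup K := C.mem_diagonal_of_acts_one hnN (by rwa [h] at hna)
    have hyB : y ∈ D.borelSubgroup K := by
      rw [e, hu1, mul_one]; exact mul_mem hb (C.diagonal_le_borel hn1)
    have hyN : y ∈ C.US K C.Neg := C.conj_mem_US K (T.nO_acts m) (fun r hr => hr.2) hx
    refine h1 ?_
    have h0 : y = 1 := by rw [← Subgroup.mem_bot, ← C.borel_inf_negUS]; exact ⟨hyB, hyN⟩
    rwa [hy, conj_eq_one_iff] at h0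
  obtain rfl := eq_wO hω hne1 hin
  obtain ⟨b', hb', hbf', u', hu', huf', e''⟩ := hnf (T.nO m) (T.nO_mem m) (T.nO_mono m) (T.nO_acts m)
  exact ⟨b', hb', hbf', u', hu', huf', e''⟩

theorem exists_twRep {g : GL D.Idx K} (hg : g ∈ T.W) : ∃ σ, TwRep T g σ := by
  obtain ⟨σ, hσ, h⟩ := T.exists_nf (T.W_le hg) (T.W_fix g hg)
  obtain ⟨n, hnW, hnN, hna⟩ := T.exists_rep hσ
  obtain ⟨b, hb, hbf, u, hu, huf, rfl⟩ := h n hnW hnN hna
  have huP : u ∈ C.US K C.Pos := C.US_mono K (fun _ h => h.1) hu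
  have huW : u ∈ T.W := mem_W (C.US_le_group _ huP) huf
  obtain ⟨v, hv, k, hk, hvk, hvf, hkf⟩ := T.borel_fix (mul_mem (C.posUS_le_borel huP) hb)
    (by rw [T.τ_mul u (T.W_le huW) b (C.borel_le_group hb), huf, hbf])
  refine ⟨σ, u, huW, v, mem_W (C.US_le_group _ hv) hvf, hv, k * n,
    mul_mem (T.diag_mem k hk hkf) hnW, mul_mem (Subgroup.mem_sup_left hk) hnN, ?_, ?_⟩
  · simpa using C.acts_mul K (C.acts_diagonal hk) hna
  · rw [← mul_assoc v, ← hvk]; group

/-- Every involution of a twisted group is conjugate in it to an involution of N¹. -/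
theorem tw_monomial_conj {wt : Fin D.rank → ℕ}
    (hdown : ∀ r ∈ C.Pos, ∃ m, (∃ j, T.idx j = m ∧ C.v r j ≠ 0) ∧ (InO T m r ∨ hgt C wt (T.wO m r) < hgt C wt r))
    {g : GL D.Idx K} (hg : g ∈ T.W) (h2 : g * g = 1) :
    ∃ x ∈ T.W, ∃ m ∈ T.W, m ∈ D.monomialSubgroup K ∧ m * m = 1 ∧ x * g * x⁻¹ = m := by
  classical
  have H := T.comm
  obtain ⟨σ, hσmem, hmax⟩ := Set.exists_max_image {σ | TwRep T g σ} C.len (Set.toFinite _) (exists_twRep hg)
  replace hσmem : TwRep T g σ := hσmem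
  replace hmax : ∀ τ, TwRep T g τ → C.len τ ≤ C.len σ := fun τ h => hmax τ h
  have hWT := hσmem.mem_WT
  have hW := (T.mem_WT.1 hWT).1
  have sq : ∀ {x v m : GL D.Idx K}, x * g * x⁻¹ = v * m → v * m * (v * m) = 1 := by
    intro x v m e
    rw [← e]
    calc x * g * x⁻¹ * (x * g * x⁻¹) = x * (g * g) * x⁻¹ := by group
      _ = 1 := by rw [h2]; group
  obtain ⟨x, hxW, v, hvW, hv, m, hmW, hmN, ha, he⟩ := hσmem
  have hσ2 : σ * σ = 1 := by
    refine C.acts_unique K (C.acts_mul K ha ha) ?_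
    rw [(cell_facts H hv hmN ha (sq he)).1]
    simpa [C.HT_one] using C.acts_HT K 1
  have hσi : σ⁻¹ = σ := inv_eq_of_mul_eq_one_right hσ2
  have hmono : ∀ {z n : GL D.Idx K}, z ∈ D.monomialSubgroup K → n ∈ D.monomialSubgroup K →
      z * n * z⁻¹ ∈ D.monomialSubgroup K := fun hz hn => mul_mem (mul_mem hz hn) (inv_mem hz)
  have hw2 : ∀ o, T.wO o * T.wO o = 1 := fun o => T.J_inv o
  have hwi : ∀ o, (T.wO o)⁻¹ = T.wO o := fun o => inv_eq_of_mul_eq_one_right (hw2 o)
  -- the positive orbits are permuted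
  have hJ : ∀ i, σ (C.p i) ∈ C.Pos → FixO T σ (T.idx i) := by
    intro i hi
    have hall : ∀ j, T.idx j = T.idx i → σ (C.p j) ∈ C.Pos := fun j hj => by
      by_contra hn
      exact (C.neg_iff_not_pos _).1 (T.descent_orbit hWT ((C.neg_iff_not_pos _).2 hn) hj.symm) hi
    by_cases hin : σ (C.p i) ∈ C.inv' (T.wO (T.idx i))
    · have h1 : ∀ j, T.idx j = T.idx i → σ (C.p j) ∈ C.inv' (T.wO (T.idx i)) := fun j hj =>
        orbit_image hWT rfl hin hj
      exact fun j hj => fixes_orbit hW h1 (by rw [hσi]; exact h1) hj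
    exfalso
    set o := T.idx i with ho
    have hout : ∀ j, T.idx j = o → σ (C.p j) ∈ outO T o := fun j hj =>
      pos_not_inv' (hall j hj) fun h => hin (orbit_image hWT hj h rfl)
    have himg : ∀ r ∈ C.inv' (T.wO o), σ r ∈ outO T o := by
      intro r hr
      obtain ⟨hrp, hrin⟩ := inv'_wO.1 hr
      obtain ⟨k, hk⟩ : ∃ k, C.v r k ≠ 0 := by
        by_contra hc
        push Not at hc
        exact C.v_ne_zero r (funext hc)
      obtain ⟨l, hl, hne⟩ := not_inO_iff.1 (hout k (hrin k hk)).2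
      have hpos : 0 < C.v (σ r) l := by
        rw [← linV_v C hW]
        show 0 < ∑ x, C.v r x * C.v (σ (C.p x)) l
        refine Finset.sum_pos' (fun x _ => ?_) ⟨k, Finset.mem_univ k, ?_⟩
        · by_cases hx : C.v r x = 0
          · simp [hx]
          · exact mul_nonneg (C.v_nonneg hrp x) (C.v_nonneg (hout x (hrin x hx)).1 l)
        · exact mul_pos (lt_of_le_of_ne (C.v_nonneg hrp k) (Ne.symm hk))
            (lt_of_le_of_ne (C.v_nonneg (hout k (hrin k hk)).1 l) (Ne.symm hl))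
      exact ⟨C.pos_of_coord hpos, fun h => hne (h l hpos.ne')⟩
    obtain ⟨a, haW, ha', y, hyW, hy', rfl⟩ := split_orbit o hvW hv
    have hyn : y⁻¹ * a * y ∈ C.US K (outO T o) := by
      have hN : C.US K (C.inv' (T.wO o)) ≤ Subgroup.normalizer (C.US K (outO T o) : Set (GL D.Idx K)) := by
        refine (Subgroup.closure_le _).2 ?_
        rintro z ⟨r, hr, t, rfl⟩
        exact H.mem_normalizer (C.absorb_of_closed (S := C.inv' (T.wO o)) (fun _ h => h.1) (fun _ h => h.1)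
          (fun r hr s hs q i j _ hj hv => outO_combo hj hr.1 hs hv) hr) t
      have := (Subgroup.mem_normalizer_iff.1 (hN (inv_mem hy')) a).1 ha'
      rwa [inv_inv] at this
    set v' := y⁻¹ * a * y * (m * y * m⁻¹) with hv'
    have hv'U : v' ∈ C.US K (outO T o) := mul_mem hyn (C.conj_mem_US K ha himg hy')
    have hv'W : v' ∈ T.W :=
      mul_mem (mul_mem (mul_mem (inv_mem hyW) haW) hyW) (mul_mem (mul_mem hmW hyW) (inv_mem hmW))
    set n := T.nO o
    have hnW : n ∈ T.W := T.nO_mem o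
    have hrep : TwRep T g (T.wO o * σ * (T.wO o)⁻¹) := by
      refine ⟨n * y⁻¹ * x, mul_mem (mul_mem hnW (inv_mem hyW)) hxW, n * v' * n⁻¹,
        mul_mem (mul_mem hnW hv'W) (inv_mem hnW),
        C.conj_mem_US K (T.nO_acts o) (fun r hr => (wO_outO hr).1) hv'U, n * m * n⁻¹,
        mul_mem (mul_mem hnW hmW) (inv_mem hnW), hmono (T.nO_mono o) hmN,
        C.acts_mul K (C.acts_mul K (T.nO_acts o) ha) (C.acts_inv K (T.nO_acts o)), ?_⟩
      rw [hv']
      calc n * y⁻¹ * x * g * (n * y⁻¹ * x)⁻¹ = n * (y⁻¹ * (x * g * x⁻¹) * y) * n⁻¹ := by group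
        _ = _ := by rw [he]; group
    have hlen : C.len σ < C.len (T.wO o * σ * (T.wO o)⁻¹) := by
      rw [hwi]
      have hneg : ∀ j, T.idx j = o → T.wO o (C.p j) ∈ C.Neg ∧ InO T o (T.wO o (C.p j)) := fun j hj =>
        ⟨(inv'_wO.2 ⟨C.p_pos j, inO_p.2 hj⟩).2, inO_wO.2 (inO_p.2 hj)⟩
      have hb1 : (σ * T.wO o) (C.p i) ∈ C.Neg := by
        rw [Equiv.Perm.mul_apply]
        have hr : (T.wO o (C.p i)).rev ∈ C.inv' (T.wO o) := inv'_wO.2 ⟨C.rev_pos (hneg i rfl).1,
          fun j hj => (hneg i rfl).2 j (by simpa [C.v_rev] using hj)⟩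
        have := C.rev_neg (himg _ hr).1
        rwa [WG_rev' C hW, C.rev_rev] at this
      have hb2 : (T.wO o * σ * T.wO o) (C.p i) ∈ C.Neg := by
        rw [Equiv.Perm.mul_apply, Equiv.Perm.mul_apply]
        have hr : (T.wO o (C.p i)).rev ∈ C.inv' (T.wO o) := inv'_wO.2 ⟨C.rev_pos (hneg i rfl).1,
          fun j hj => (hneg i rfl).2 j (by simpa [C.v_rev] using hj)⟩
        have := C.rev_neg (wO_outO (himg _ hr)).1
        rwa [← T.WT_rev (T.wO_mem o), WG_rev' C hW, C.rev_rev] at this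
      have hσo : σ * T.wO o ∈ T.WT := mul_mem hWT (T.wO_mem o)
      have l1 := T.len_split hσo hb1
      rw [← ho, mul_assoc, hw2, mul_one] at l1
      have l2 := T.len_split (mul_mem (mul_mem (T.wO_mem o) hWT) (T.wO_mem o)) hb2
      rw [← ho, mul_assoc (T.wO o * σ), hw2, mul_one] at l2
      have l3 : C.len (T.wO o * σ) = C.len (σ * T.wO o) := by
        rw [← len_inv C (T.mem_WT.1 hσo).1, _root_.mul_inv_rev, hwi, hσi]
      have := T.len_wO_pos o
      omega
    have := hmax _ hrep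
    omega
  have hfixcomm : ∀ o, FixO T σ o → σ * T.wO o = T.wO o * σ := fun o h =>
    commute_wO hW h (by rw [hσi]; exact h)
  -- no component at a fixed orbit
  have hZ : ∀ {x v m : GL D.Idx K}, x ∈ T.W → v ∈ T.W → v ∈ C.US K C.Pos → m ∈ T.W →
      m ∈ D.monomialSubgroup K → C.Acts m σ → x * g * x⁻¹ = v * m →
      ∀ o, FixO T σ o → v ∈ C.US K (outO T o) := by
    intro x v m hxW hvW hv hmW hmN ha he o ho
    obtain ⟨a, haW, ha', y, hyW, hy', rfl⟩ := split_orbit o hvW hv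
    by_cases hy1 : y = 1
    · rw [hy1, mul_one]; exact ha'
    exfalso
    obtain ⟨b, hb, hbf, u, hu, huf, e⟩ := neg_orbit_cell o hyW hy' hy1
    set n := T.nO o
    have hnW : n ∈ T.W := T.nO_mem o
    set m' := n * m * n⁻¹ with hm'
    have hm'W : m' ∈ T.W := mul_mem (mul_mem hnW hmW) (inv_mem hnW)
    have ha'' : C.Acts m' σ := by
      have h := C.acts_mul K (C.acts_mul K (T.nO_acts o) ha) (C.acts_inv K (T.nO_acts o))
      have e3 : C.pprod (T.J o) * σ * (C.pprod (T.J o))⁻¹ = σ := by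
        show T.wO o * σ * (T.wO o)⁻¹ = σ
        rw [hwi, ← hfixcomm o ho, mul_assoc, hw2, mul_one]
      rwa [e3] at h
    have huW : u ∈ T.W := mem_W (C.US_le_group _ hu) huf
    set u' := m'⁻¹ * u * m' with hu'
    have hu'U : u' ∈ C.US K C.Pos := by
      have h := C.conj_mem_US K (C.acts_inv K ha'') (T := C.Pos)
        (fun r hr => (image_inv'_wO (inv_mem hW) (by rw [hσi]; exact ho) hr).1) hu
      rwa [inv_inv] at h
    have hu'W : u' ∈ T.W := mul_mem (mul_mem (inv_mem hm'W) huW) hm'W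
    have hbW : b ∈ T.W := T.borel_fix_mem hb hbf
    set z := u' * (n * a * n⁻¹) * b with hz
    have hzB : z ∈ D.borelSubgroup K := mul_mem (mul_mem (C.posUS_le_borel hu'U)
      (C.posUS_le_borel (C.conj_mem_US K (T.nO_acts o) (fun r hr => (wO_outO hr).1) ha'))) hb
    have hzW : z ∈ T.W := mul_mem (mul_mem hu'W (mul_mem (mul_mem hnW haW) (inv_mem hnW))) hbW
    obtain ⟨v'', hv'', k, hk, hvk, hvf, hkf⟩ := T.borel_fix hzB (T.W_fix z hzW)
    have hrep : TwRep T g (T.wO o * σ) := by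
      refine ⟨u' * n * x, mul_mem (mul_mem hu'W hnW) hxW, v'', mem_W (C.US_le_group _ hv'') hvf, hv'',
        k * (n * m'), mul_mem (T.diag_mem k hk hkf) (mul_mem hnW hm'W),
        mul_mem (Subgroup.mem_sup_left hk) (mul_mem (T.nO_mono o) (hmono (T.nO_mono o) hmN)), ?_, ?_⟩
      · have h := C.acts_mul K (C.acts_diagonal hk) (C.acts_mul K (T.nO_acts o) ha'')
        rwa [one_mul] at h
      · calc u' * n * x * g * (u' * n * x)⁻¹ = u' * (n * (x * g * x⁻¹) * n⁻¹) * u'⁻¹ := by group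
          _ = u' * (n * a * n⁻¹) * (n * y * n⁻¹) * m' * u'⁻¹ := by rw [he, hm']; group
          _ = z * n * m' * (m'⁻¹ * u * m') * u'⁻¹ := by rw [e, hz]; group
          _ = z * n * m' := by rw [← hu']; group
          _ = v'' * (k * (n * m')) := by rw [hvk]; group
    have hneg : ∀ j, T.idx j = o → (T.wO o * σ) (C.p j) ∈ C.Neg := fun j hj => by
      obtain ⟨k, hk, hjk⟩ := ho j hj
      rw [Equiv.Perm.mul_apply, hjk]
      exact (inv'_wO.2 ⟨C.p_pos k, inO_p.2 hk⟩).2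
    obtain ⟨j, hj⟩ := List.exists_mem_of_ne_nil _ (T.J_ne o)
    have hjo := (T.mem_J j o).1 hj
    have l1 := T.len_split (mul_mem (T.wO_mem o) hWT) (hneg j hjo)
    rw [hjo, ← hfixcomm o ho, mul_assoc, hw2, mul_one] at l1
    have := T.len_wO_pos o
    have h4 := hmax _ hrep
    rw [← hfixcomm o ho] at h4
    omega
  set S : Set (Rt D) := {r | r ∈ C.Pos ∧ σ r ∈ C.Pos}
  have hsupp : ∀ r ∈ S, ∀ j, C.v r j ≠ 0 → FixO T σ (T.idx j) := by
    intro r hr j hne
    refine hJ j ?_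
    by_contra hjn
    refine hne (le_antisymm ?_ (C.v_nonneg hr.1 j))
    have e : C.v r = linV C σ (C.v (σ r)) := by
      rw [linV_v C hW, ← Equiv.Perm.mul_apply, hσ2, Equiv.Perm.one_apply]
    rw [e]
    show ∑ k, C.v (σ r) k * C.v (σ (C.p k)) j ≤ 0
    refine Finset.sum_nonpos fun k _ => ?_
    by_cases hk : σ (C.p k) ∈ C.Pos
    · obtain ⟨l, -, hl⟩ := hJ k hk k rfl
      have hlj : ¬ j = l := fun h => hjn (by
        rw [h, ← hl, ← Equiv.Perm.mul_apply, hσ2, Equiv.Perm.one_apply]; exact C.p_pos k)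
      rw [hl, C.v_p, Pi.single_apply, if_neg hlj, mul_zero]
    · exact mul_nonpos_of_nonneg_of_nonpos (C.v_nonneg hr.2 k)
        (C.v_nonpos ((C.neg_iff_not_pos _).2 hk) j)
  have hScl : ClosedSet C S := by
    intro r hr s hs q a b _ hb hv
    refine ⟨H.pos_closed hr.1 hs.1 hb hv, H.pos_closed (r := σ r) (s := σ s) (i := a) hr.2 hs.2 hb ?_⟩
    rw [← linV_v C hW q, hv, map_add, map_zsmul, map_zsmul, linV_v C hW, linV_v C hW]
  let Tk : ℕ → Set (Rt D) := fun k =>
    {r | r ∈ S ∧ (∀ o, FixO T σ o → ¬ InO T o r) ∧ (k : ℤ) ≤ hgt C wt r}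
  have hhpos : ∀ r ∈ C.Pos, 0 ≤ hgt C wt r := fun r hr => Finset.sum_nonneg fun j _ => mul_nonneg (Int.natCast_nonneg _) (C.v_nonneg hr j)
  have hTcl : ∀ k, ClosedSet C (Tk k) := by
    intro k r hr s hs q a b ha hb hv
    refine ⟨hScl r hr.1 s hs.1 q a b ha hb hv, fun o ho => ?_, ?_⟩
    · exact (outO_combo hb hr.1.1 (show s ∈ outO T o from ⟨hs.1.1, hs.2.1 o ho⟩) hv).2
    · have e : hgt C wt q = (a : ℤ) * hgt C wt r + (b : ℤ) * hgt C wt s := by
        simp only [hgt, hv, Finset.mul_sum, ← Finset.sum_add_distrib, Pi.add_apply, Pi.smul_apply, smul_eq_mul]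
        exact Finset.sum_congr rfl fun x _ => by ring
      have h1 := hhpos r hr.1.1
      have h2' := hhpos s hs.1.1
      have : hgt C wt r ≤ (a : ℤ) * hgt C wt r := le_mul_of_one_le_left h1 (by omega)
      have : 0 ≤ (b : ℤ) * hgt C wt s := mul_nonneg (by omega) h2'
      have := hr.2.2
      omega
  have main : ∀ (k : ℕ) {x v m : GL D.Idx K}, x ∈ T.W → v ∈ T.W → v ∈ C.US K C.Pos → m ∈ T.W →
      m ∈ D.monomialSubgroup K → C.Acts m σ → x * g * x⁻¹ = v * m → v ∈ C.US K (Tk k) := by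
    intro k
    induction k with
    | zero =>
      intro x v m hxW hvW hv hmW hmN ha he
      obtain ⟨t, rfl, ht⟩ := exists_coords H (fun r hr => hr.1) hScl (cell_facts H hv hmN ha (sq he)).2
      refine mem_of_support C fun r hr hrT => ?_
      by_cases hrS : r ∈ S
      · obtain ⟨o, ho, hin⟩ : ∃ o, FixO T σ o ∧ InO T o r := by
          by_contra hc
          push Not at hc
          exact hrT ⟨hrS, hc, by push_cast; exact hhpos r hrS.1⟩
        exact coord_eq_zero H (fun r hr => hr.1) (closed_outO o) (hZ hxW hvW hv hmW hmN ha he o ho) hrS.1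
          (fun h => h.2 hin)
      · exact ht r hrS
    | succ k ih =>
      intro x v m hxW hvW hv hmW hmN ha he
      obtain ⟨t, rfl, ht⟩ := exists_coords H (fun r hr => hr.1.1) (hTcl k) (ih hxW hvW hv hmW hmN ha he)
      refine mem_of_support C fun r hrp hrT => ?_
      by_cases hrk : r ∈ Tk k
      swap
      · exact ht r hrk
      have hk : hgt C wt r = k := by
        by_contra hne
        exact hrT ⟨hrk.1, hrk.2.1, by have := hrk.2.2; push_cast; omega⟩
      have hr0 := hrk.1.1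
      obtain ⟨o, ⟨j, hjo, hvj⟩, hcase⟩ := hdown r hr0
      have ho : FixO T σ o := hjo ▸ hsupp r hrk.1 j hvj
      have hlt : hgt C wt (T.wO o r) < k := by
        rw [← hk]
        exact hcase.resolve_left (hrk.2.1 o ho)
      set n := T.nO o
      have hnW : n ∈ T.W := T.nO_mem o
      have hvo : C.wordX K C.posL t ∈ C.US K (outO T o) := hZ hxW hvW hv hmW hmN ha he o ho
      have hnv : n * C.wordX K C.posL t * n⁻¹ ∈ C.US K C.Pos :=
        C.conj_mem_US K (T.nO_acts o) (fun r hr => (wO_outO hr).1) hvo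
      have hnm : C.Acts (n * m * n⁻¹) σ := by
        have h := C.acts_mul K (C.acts_mul K (T.nO_acts o) ha) (C.acts_inv K (T.nO_acts o))
        have e3 : C.pprod (T.J o) * σ * (C.pprod (T.J o))⁻¹ = σ := by
          show T.wO o * σ * (T.wO o)⁻¹ = σ
          rw [hwi, ← hfixcomm o ho, mul_assoc, hw2, mul_one]
        rwa [e3] at h
      have hk' := ih (x := n * x) (mul_mem hnW hxW) (mul_mem (mul_mem hnW hvW) (inv_mem hnW)) hnv
        (mul_mem (mul_mem hnW hmW) (inv_mem hnW)) (hmono (T.nO_mono o) hmN) hnm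
        (by
          calc n * x * g * (n * x)⁻¹ = n * (x * g * x⁻¹) * n⁻¹ := by group
            _ = _ := by rw [he]; group)
      let U : Set (Rt D) := {q | q ∈ C.Pos ∧ T.wO o q ∈ Tk k}
      have hUcl : ClosedSet C U := by
        intro a' ha' b' hb' q a b hpa hpb hv'
        refine ⟨H.pos_closed ha'.1 hb'.1 hpb hv', hTcl k _ ha'.2 _ hb'.2 _ a b hpa hpb ?_⟩
        have hwW := (T.mem_WT.1 (T.wO_mem o)).1
        rw [← linV_v C hwW, hv', map_add, map_zsmul, map_zsmul, linV_v C hwW, linV_v C hwW]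
      have hback : C.wordX K C.posL t ∈ C.US K U := by
        have h := C.conj_mem_US K (C.acts_inv K (T.nO_acts o)) (T := U) (fun q hq => by
          show (T.wO o)⁻¹ q ∈ U
          rw [hwi]
          exact ⟨(wO_outO ⟨hq.1.1, hq.2.1 o ho⟩).1, by rw [T.wO_wO]; exact hq⟩) hk'
        have e : n⁻¹ * (n * C.wordX K C.posL t * n⁻¹) * n⁻¹⁻¹ = C.wordX K C.posL t := by group
        rwa [e] at h
      exact coord_eq_zero H (fun q hq => hq.1) hUcl hback hr0 (fun h => by
        have := h.2.2.2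
        omega)
  have hv1 : v = 1 := by
    obtain ⟨N, hN⟩ : ∃ N : ℕ, ∀ r, hgt C wt r < N := by
      refine ⟨(∑ r, (hgt C wt r).natAbs) + 1, fun r => ?_⟩
      have := Finset.single_le_sum (f := fun r => (hgt C wt r).natAbs) (fun _ _ => Nat.zero_le _) (Finset.mem_univ r)
      rw [Nat.cast_add, Nat.cast_one]
      have h5 : hgt C wt r ≤ ((hgt C wt r).natAbs : ℤ) := Int.le_natAbs
      have h6 : ((hgt C wt r).natAbs : ℤ) ≤ ((∑ r, (hgt C wt r).natAbs : ℕ) : ℤ) := Int.ofNat_le.2 this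
      linarith
    have h := main N hxW hvW hv hmW hmN ha he
    have hT : Tk N = ∅ := Set.eq_empty_iff_forall_notMem.2 fun r hr => by
      have := hN r; have := hr.2.2; omega
    rw [hT] at h
    have hb : C.US K (∅ : Set (Rt D)) ≤ ⊥ := (Subgroup.closure_le _).2 (by rintro z ⟨r, hr, -⟩; exact hr.elim)
    exact Subgroup.mem_bot.1 (hb h)
  exact ⟨x, hxW, m, hmW, hmN, (cell_facts H hv hmN ha (sq he)).1, by rw [he, hv1, one_mul]⟩

end Cfsg.Agent.Lib.EvenInvolutions
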