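import Cfsg.Agent.Lib.EvenInvolutions.TwMaxCell
import Cfsg.Agent.Lib.EvenInvolutions.Classes

/-!
Twisted groups with orbits of orthogonal roots in characteristic two: an involution of N¹ is conjugate in
the twisted group to a product x_β(1) over one of the representative sets.
-/

set_option autoImplicit false
set_option linter.unusedSectionVars false

namespace Cfsg.Agent.Lib.EvenInvolutions

open Cfsg.Lie Cfsg.Agent.Lib.ChevStructure Cfsg.Agent.Lib.LieTwisted.Twist
open Cfsg.Agent.Lib.OddInvolutions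
open scoped MatrixGroups Matrix

variable {D : ChevalleyDatum}

theorem exists_refl (C : Core D) (b : Rt D) : ∃ σ ∈ C.WG, IsRefl C b σ := by
  obtain ⟨σ, hσ, -, h⟩ := acts_nR C b (1 : ℚˣ)
  exact ⟨σ, hσ, h⟩

/-- The reflection in a root. -/
noncomputable def reflP (C : Core D) (b : Rt D) : Equiv.Perm (Rt D) := (exists_refl C b).choose

theorem reflP_mem (C : Core D) (b : Rt D) : reflP C b ∈ C.WG := (exists_refl C b).choose_spec.1

theorem reflP_v (C : Core D) (b r : Rt D) : C.v (reflP C b r) = C.v r - pr D b r • C.v b :=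
  (exists_refl C b).choose_spec.2 r

theorem eq_reflP {C : Core D} {b : Rt D} {σ : Equiv.Perm (Rt D)} (h : IsRefl C b σ) : σ = reflP C b :=
  Equiv.ext fun r => C.v_inj (by rw [h, reflP_v])

theorem reflP_rev (C : Core D) (b : Rt D) : reflP C b.rev = reflP C b := by
  refine eq_reflP fun r => ?_
  rw [reflP_v, C.pr_rev, C.v_rev, neg_smul_neg]

theorem reflP_conj (C : Core D) {w : Equiv.Perm (Rt D)} (hw : w ∈ C.WG) (b : Rt D) :
    w * reflP C b * w⁻¹ = reflP C (w b) := by
  refine eq_reflP fun r => ?_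
  rw [Equiv.Perm.mul_apply, Equiv.Perm.mul_apply, ← linV_v C hw, reflP_v, map_sub, map_zsmul, linV_v C hw,
    linV_v C hw, ← WG_pr C hw b (w⁻¹ r)]
  simp

theorem reflP_simple (C : Core D) (i : Fin D.rank) : reflP C (C.p i) = C.sref i :=
  (eq_reflP fun r => by rw [C.sref_apply, C.v_w, C.pr_p, C.v_p]).symm

/-- The product of the reflections in a list of roots. -/
noncomputable def rhoP (C : Core D) (R : List (Rt D)) : Equiv.Perm (Rt D) := (R.map (reflP C)).prod

theorem rhoP_mem (C : Core D) (R : List (Rt D)) : rhoP C R ∈ C.WG :=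
  list_prod_mem fun x hx => by obtain ⟨b, -, rfl⟩ := List.mem_map.1 hx; exact reflP_mem C b

theorem rhoP_conj (C : Core D) {w : Equiv.Perm (Rt D)} (hw : w ∈ C.WG) :
    ∀ R : List (Rt D), w * rhoP C R * w⁻¹ = rhoP C (R.map w)
  | [] => by simp [rhoP]
  | b :: R => by
    have ih := rhoP_conj C hw R
    simp only [rhoP, List.map_cons, List.prod_cons] at ih ⊢
    rw [← ih, ← reflP_conj C hw]; group

theorem rhoP_pprod (C : Core D) (L : List (Fin D.rank)) : rhoP C (L.map C.p) = C.pprod L := by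
  simp only [rhoP, Core.pprod, List.map_map]
  exact congrArg List.prod (List.map_congr_left fun i _ => reflP_simple C i)

theorem ext_simple {C : Core D} {σ τ : Equiv.Perm (Rt D)} (hσ : σ ∈ C.WG) (hτ : τ ∈ C.WG)
    (h : ∀ i, σ (C.p i) = τ (C.p i)) : σ = τ := by
  refine Equiv.ext fun r => C.v_inj ?_
  rw [← linV_v C hσ, ← linV_v C hτ]
  funext m
  show ∑ k, C.v r k * C.v (σ (C.p k)) m = ∑ k, C.v r k * C.v (τ (C.p k)) m
  exact Finset.sum_congr rfl fun k _ => by rw [h k]

variable {C : Core D} {K : Type*} [Field K]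

/-- The orbits have one root or two orthogonal ones. -/
def Shape (T : Tw C K) : Prop :=
  ∀ o, (∃ i, T.J o = [i] ∧ T.ρ i = i) ∨
    (∃ i, T.J o = [i, T.ρ i] ∧ T.ρ (T.ρ i) = i ∧ Orth (C.p i) (C.p (T.ρ i)))

/-- The representative sets absorb every orbit of roots whose reflection commutes with theirs. -/
def CoverT (T : Tw C K) (reps : List (List (Rt D))) : Prop :=
  [] ∈ reps ∧ ∀ R ∈ reps, ∀ Δ : List (Rt D),
    ((∃ δ, Δ = [δ] ∧ T.π δ = δ) ∨ (∃ δ, Δ = [δ, T.π δ] ∧ T.π (T.π δ) = δ ∧ Orth δ (T.π δ))) →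
    rhoP C R * rhoP C Δ = rhoP C Δ * rhoP C R →
    ∃ w ∈ T.WT, ∃ R' ∈ reps, w * (rhoP C R * rhoP C Δ) * w⁻¹ = rhoP C R'

theorem exists_repT {T : Tw C K} (hsh : Shape T) {reps : List (List (Rt D))} (hc : CoverT T reps) :
    ∀ σ ∈ T.WT, σ * σ = 1 → ∃ w ∈ T.WT, ∃ R ∈ reps, w * σ * w⁻¹ = rhoP C R := by
  intro σ
  induction hl : C.len σ using Nat.strong_induction_on generalizing σ with
  | _ l ih =>
    intro hσ h2
    have hW := (T.mem_WT.1 hσ).1
    by_cases h1 : σ = 1
    · exact ⟨1, one_mem _, [], hc.1, by simp [h1, rhoP]⟩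
    obtain ⟨L, hL⟩ := C.mem_WG_iff.1 hW
    obtain ⟨i, hi⟩ := C.exists_descent (L := L) (by rwa [hL])
    rw [hL] at hi
    set o := T.idx i with ho
    have hw2 : T.wO o * T.wO o = 1 := T.J_inv o
    have hwi : (T.wO o)⁻¹ = T.wO o := inv_eq_of_mul_eq_one_right hw2
    have hσi : σ⁻¹ = σ := inv_eq_of_mul_eq_one_right h2
    have hlen := T.len_split hσ hi
    have hlinv : C.len (T.wO o * σ) = C.len (σ * T.wO o) := by
      rw [← len_inv C (T.mem_WT.1 (mul_mem hσ (T.wO_mem o))).1, _root_.mul_inv_rev, hwi, hσi]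
    have hpos := T.len_wO_pos o
    by_cases hA : (T.wO o * σ) (C.p i) ∈ C.Neg
    · have hlen2 := T.len_split (mul_mem (T.wO_mem o) hσ) hA
      rw [← ho] at hlen hlen2
      obtain ⟨w, hw, R, hR, he⟩ := ih _ (by omega) (T.wO o * σ * T.wO o) rfl
        (mul_mem (mul_mem (T.wO_mem o) hσ) (T.wO_mem o))
        (by
          calc T.wO o * σ * T.wO o * (T.wO o * σ * T.wO o)
              = T.wO o * σ * (T.wO o * T.wO o) * σ * T.wO o := by group
            _ = T.wO o * (σ * σ) * T.wO o := by rw [hw2]; group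
            _ = 1 := by rw [h2, mul_one, hw2])
      refine ⟨w * T.wO o, mul_mem hw (T.wO_mem o), R, hR, ?_⟩
      rw [← he, _root_.mul_inv_rev, hwi]
      group
    -- σ negates the orbit
    set σ' := σ * T.wO o with hσ'
    have hσ'T : σ' ∈ T.WT := mul_mem hσ (T.wO_mem o)
    have hσ'i : σ'⁻¹ = T.wO o * σ := by rw [hσ', _root_.mul_inv_rev, hwi, hσi]
    have hwWT := T.wO_mem o
    have hrevInO : ∀ r, InO T o r → InO T o r.rev := fun r h j hj => h j (by simpa [C.v_rev] using hj)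
    have hall : ∀ j, T.idx j = o → σ' (C.p j) ∈ C.inv' (T.wO o) ∧ σ'⁻¹ (C.p j) ∈ C.inv' (T.wO o) := by
      -- σ maps the roots of the orbit to negatives of such
      have hy : (σ (C.p i)).rev ∈ C.inv' (T.wO o) := by
        refine ⟨C.rev_pos hi, ?_⟩
        rw [T.WT_rev hwWT]
        refine C.rev_neg ?_
        by_contra hn
        exact hA ((C.neg_iff_not_pos _).2 (by simpa using hn))
      have hσJ : ∀ j, T.idx j = o → (σ (C.p j)).rev ∈ C.inv' (T.wO o) := by
        intro j hj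
        obtain ⟨k, rfl⟩ := T.cycle i j hj.symm
        clear hj
        induction k with
        | zero => exact hy
        | succ k ih =>
          rw [Function.iterate_succ_apply', ← T.π_p, ← Equiv.Perm.mul_apply, ← (T.mem_WT.1 hσ).2,
            Equiv.Perm.mul_apply, ← T.π_rev]
          exact π_inv'_wO ih
      have himg : ∀ r ∈ C.inv' (T.wO o), (σ r).rev ∈ C.inv' (T.wO o) := by
        intro r hr
        obtain ⟨hrp, hrin⟩ := inv'_wO.1 hr
        have hσr : σ r ∈ C.Neg := T.neg_of_simple hW hrp fun x hx => by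
          have h := C.rev_neg (hσJ x (hrin x hx)).1
          rwa [C.rev_rev] at h
        refine inv'_wO.2 ⟨C.rev_pos hσr, hrevInO _ fun j hj => ?_⟩
        by_contra hne
        refine hj ?_
        rw [← linV_v C hW]
        show ∑ x, C.v r x * C.v (σ (C.p x)) j = 0
        refine Finset.sum_eq_zero fun x _ => ?_
        by_cases hx : C.v r x = 0
        · simp [hx]
        · by_cases h0 : C.v (σ (C.p x)) j = 0
          · simp [h0]
          · exact absurd ((inv'_wO.1 (hσJ x (hrin x hx))).2 j (by simpa [C.v_rev] using h0)) hne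
      intro j hj
      have hwj : (T.wO o (C.p j)).rev ∈ C.inv' (T.wO o) :=
        inv'_wO.2 ⟨C.rev_pos (inv'_wO.2 ⟨C.p_pos j, inO_p.2 hj⟩).2, hrevInO _ (inO_wO.2 (inO_p.2 hj))⟩
      refine ⟨?_, ?_⟩
      · rw [hσ', Equiv.Perm.mul_apply]
        have h := himg _ hwj
        rwa [WG_rev' C hW, C.rev_rev] at h
      · rw [hσ'i, Equiv.Perm.mul_apply]
        refine inv'_wO.2 ⟨?_, inO_wO.2 ?_⟩
        · have h := (hσJ j hj).2
          rw [T.WT_rev hwWT] at h
          simpa using C.rev_pos h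
        · have h := hrevInO _ (inv'_wO.1 (hσJ j hj)).2
          rwa [C.rev_rev] at h
    have hcm : σ' * T.wO o = T.wO o * σ' := by
      refine commute_wO (T.mem_WT.1 hσ'T).1 ?_ ?_
      · exact fun j hj => fixes_orbit (T.mem_WT.1 hσ'T).1 (fun j hj => (hall j hj).1) (fun j hj => (hall j hj).2) hj
      · exact fun j hj => fixes_orbit (inv_mem (T.mem_WT.1 hσ'T).1) (fun j hj => (hall j hj).2)
          (fun j hj => by rw [inv_inv]; exact (hall j hj).1) hj
    have hσc : σ * T.wO o = T.wO o * σ := by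
      have e : σ = σ' * T.wO o := by rw [hσ', mul_assoc, hw2, mul_one]
      conv_rhs => rw [e, ← mul_assoc, ← hcm, mul_assoc σ', hw2, mul_one]
    have h2' : σ' * σ' = 1 := by
      calc σ' * σ' = σ * (T.wO o * σ) * T.wO o := by rw [hσ']; group
        _ = σ * σ * (T.wO o * T.wO o) := by rw [← hσc]; group
        _ = 1 := by rw [h2, hw2, mul_one]
    obtain ⟨w, hw, R, hR, he⟩ := ih _ (by rw [← ho] at hlen; omega) σ' rfl hσ'T h2'
    have hwW := (T.mem_WT.1 hw).1
    set Δ := ((T.J o).map C.p).map w with hΔ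
    have hwo : w * T.wO o * w⁻¹ = rhoP C Δ := by
      rw [hΔ, ← rhoP_conj C hwW, rhoP_pprod]; rfl
    have hπw : ∀ x, T.π (w x) = w (T.π x) := fun x => by
      rw [← Equiv.Perm.mul_apply, (T.mem_WT.1 hw).2, Equiv.Perm.mul_apply]
    have hΔs : (∃ δ, Δ = [δ] ∧ T.π δ = δ) ∨ (∃ δ, Δ = [δ, T.π δ] ∧ T.π (T.π δ) = δ ∧ Orth δ (T.π δ)) := by
      rcases hsh o with ⟨k, hk, hρ⟩ | ⟨k, hk, hρ, horth⟩
      · exact Or.inl ⟨w (C.p k), by rw [hΔ, hk]; rfl, by rw [hπw, T.π_p, hρ]⟩
      · refine Or.inr ⟨w (C.p k), by rw [hΔ, hk, hπw, T.π_p]; rfl, by rw [hπw, T.π_p, hπw, T.π_p, hρ], ?_⟩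
        rw [hπw, T.π_p]
        exact ⟨by rw [WG_pr C hwW]; exact horth.1, by rw [WG_pr C hwW]; exact horth.2⟩
    have hσe : σ = σ' * T.wO o := by rw [hσ', mul_assoc, hw2, mul_one]
    have hcomm : rhoP C R * rhoP C Δ = rhoP C Δ * rhoP C R := by
      rw [← he, ← hwo]
      calc w * σ' * w⁻¹ * (w * T.wO o * w⁻¹) = w * (σ' * T.wO o) * w⁻¹ := by group
        _ = _ := by rw [hcm]; group
    obtain ⟨w', hw', R', hR', he'⟩ := hc.2 R hR Δ hΔs hcomm
    refine ⟨w' * w, mul_mem hw' hw, R', hR', ?_⟩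
    rw [← he', ← he, ← hwo, hσe]
    group

theorem τ_prod (T : Tw C K) : ∀ {L : List (GL D.Idx K)}, (∀ g ∈ L, g ∈ D.group K) →
    T.τ L.prod = (L.map T.τ).prod
  | [], _ => T.τ_one
  | a :: L, h => by
    rw [List.prod_cons, T.τ_mul a (h a List.mem_cons_self) _
      (list_prod_mem fun g hg => h g (List.mem_cons_of_mem _ hg)),
      τ_prod T fun g hg => h g (List.mem_cons_of_mem _ hg), List.map_cons, List.prod_cons]

/-- A product over a π-stable set of commuting blocks permuted by τ is fixed. -/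
theorem τ_prod_stable (T : Tw C K) {R : List (Rt D)} (hperm : (R.map T.π).Perm R) (a : Rt D → GL D.Idx K)
    (ha : ∀ b ∈ R, a b ∈ D.group K) (hτ : ∀ b ∈ R, T.τ (a b) = a (T.π b))
    (hc : ∀ b ∈ R, ∀ c ∈ R, Commute (a b) (a c)) : T.τ (R.map a).prod = (R.map a).prod := by
  rw [τ_prod T (fun g hg => by obtain ⟨b, hb, rfl⟩ := List.mem_map.1 hg; exact ha b hb), List.map_map,
    show R.map (T.τ ∘ a) = (R.map T.π).map a by rw [List.map_map]; exact List.map_congr_left hτ]
  refine (hperm.map a).prod_eq' ?_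
  refine List.pairwise_of_forall_mem_list fun x hx y hy => ?_
  obtain ⟨b, hb, rfl⟩ := List.mem_map.1 hx
  obtain ⟨c, hc', rfl⟩ := List.mem_map.1 hy
  exact hc b (hperm.subset hb) c (hperm.subset hc')

theorem conj_prod {G : Type*} [Group G] {α : Type*} (a x : α → G) : ∀ {L : List α},
    L.Pairwise (fun b c => Commute (a b) (a c) ∧ Commute (a b) (x c) ∧ Commute (x b) (a c)) →
      (L.map a).prod * (L.map x).prod * (L.map a).prod⁻¹ = (L.map fun b => a b * x b * (a b)⁻¹).prod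
  | [], _ => by simp
  | b :: L, h => by
    obtain ⟨hb, hL⟩ := List.pairwise_cons.1 h
    rw [List.map_cons, List.prod_cons, List.map_cons, List.prod_cons, List.map_cons, List.prod_cons,
      ← conj_prod a x hL]
    have h1 : Commute (L.map a).prod (x b) := Commute.list_prod_left _ _ fun z hz => by
      obtain ⟨c, hc, rfl⟩ := List.mem_map.1 hz; exact (hb c hc).2.2.symm
    have h2 : Commute (a b) (L.map x).prod := Commute.list_prod_right _ _ fun z hz => by
      obtain ⟨c, hc, rfl⟩ := List.mem_map.1 hz; exact (hb c hc).2.1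
    have h3 : Commute (a b) (L.map a).prod := Commute.list_prod_right _ _ fun z hz => by
      obtain ⟨c, hc, rfl⟩ := List.mem_map.1 hz; exact (hb c hc).1
    calc a b * (L.map a).prod * (x b * (L.map x).prod) * (a b * (L.map a).prod)⁻¹
        = a b * ((L.map a).prod * x b) * (L.map x).prod * ((L.map a).prod⁻¹ * (a b)⁻¹) := by group
      _ = a b * x b * ((L.map a).prod * (L.map x).prod * (L.map a).prod⁻¹) * (a b)⁻¹ := by rw [h1.eq]; group
      _ = _ := by
        have h4 : Commute (a b) ((L.map a).prod * (L.map x).prod * (L.map a).prod⁻¹) :=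
          (h3.mul_right h2).mul_right h3.inv_right
        rw [mul_assoc (a b * x b), ← h4.inv_left.eq]
        group

variable [CharP K 2]

/-- The conjugator for one root. -/
noncomputable def gEl (C : Core D) (e : Kˣ → Kˣ) (ε : Rt D → Kˣ) (b : Rt D) : GL D.Idx K :=
  C.X K b.rev ((ε b)⁻¹ : Kˣ) * (C.nR K b (e (ε b)) * C.nR K b (-1))

theorem gEl_mem (e : Kˣ → Kˣ) (ε : Rt D → Kˣ) (b : Rt D) : gEl C e ε b ∈ C.US K {b} ⊔ C.US K {b.rev} := by
  have hn : ∀ u : Kˣ, C.nR K b u ∈ C.US K {b} ⊔ C.US K {b.rev} := fun u => by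
    unfold Core.nR
    exact mul_mem (mul_mem (Subgroup.mem_sup_left (C.X_mem_US K (Set.mem_singleton _) _))
      (Subgroup.mem_sup_right (C.X_mem_US K (Set.mem_singleton _) _)))
      (Subgroup.mem_sup_left (C.X_mem_US K (Set.mem_singleton _) _))
  exact mul_mem (Subgroup.mem_sup_right (C.X_mem_US K (Set.mem_singleton _) _)) (mul_mem (hn _) (hn _))

theorem gEl_conj {e : Kˣ → Kˣ} (he : ∀ u, e u * e u = u) (ε : Rt D → Kˣ) (b : Rt D) :
    gEl C e ε b * C.X K b 1 * (gEl C e ε b)⁻¹ = C.nR K b (ε b) := by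
  obtain ⟨φ, -, hφ⟩ := C.exists_slHom K b
  set s := e (ε b)
  have hs : (s : K) * (s : K) = (ε b : K) := congrArg Units.val (he (ε b))
  have hs0 : (s : K) ≠ 0 := s.ne_zero
  have hnR : ∀ u : Kˣ, φ (slN u) = C.nR K b u := fun u => by
    rw [slN, map_mul, map_mul, (hφ _).1, (hφ _).2]; rfl
  have hA : slL (((ε b)⁻¹ : Kˣ) : K) * (slN s * slN (-1)) * slU 1 =
      slN (ε b) * (slL (((ε b)⁻¹ : Kˣ) : K) * (slN s * slN (-1))) := by
    apply Subtype.ext
    simp only [Matrix.SpecialLinearGroup.coe_mul, slN_val, slU_val, slL_val, Matrix.mul_fin_two]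
    ext i j
    fin_cases i <;> fin_cases j <;>
      simp [Units.val_inv_eq_inv_val, ← hs, CharTwo.neg_eq, CharTwo.add_self_eq_zero, hs0]
  have h := congrArg φ hA
  simp only [map_mul, fun t => (hφ t).1, fun t => (hφ t).2, hnR] at h
  rw [gEl, h, mul_inv_cancel_right]

theorem xProd_fixed (T : Tw C K) {φ : K ≃+* K} (hf : ∀ r t, T.f r t = φ t) {R : List (Rt D)}
    (hR : R.Pairwise (fun a b => Orth a b ∧ Comm4 C K a b)) (hperm : (R.map T.π).Perm R) :
    T.τ (xProd C K R) = xProd C K R := by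
  refine τ_prod_stable T hperm (fun b => C.X K b 1) (fun b _ => C.X_mem_group _ _)
    (fun b _ => by rw [T.τ_X, hf, map_one]) fun b hb c hc => ?_
  by_cases hbc : b = c
  · rw [hbc]
  have : Comm4 C K b c :=
    haveI : Std.Symm (fun a b => Comm4 C K a b) := ⟨fun a b h => Comm4.symm h⟩
    List.Pairwise.forall (R := fun a b => Comm4 C K a b) (hR.imp And.right) hb hc hbc
  exact (this 1 1).1

/-- An involution of N¹ is conjugate in the twisted group to the product over a representative set. -/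
theorem tw_monomial_rep [Finite K] {T : Tw C K} {φ : K ≃+* K} (hf : ∀ r t, T.f r t = φ t)
    (hsh : Shape T) {reps : List (List (Rt D))} (hc : CoverT T reps)
    (hR : ∀ R ∈ reps, R.Pairwise (fun a b => Orth a b ∧ Comm4 C K a b))
    (hperm : ∀ R ∈ reps, (R.map T.π).Perm R) {m : GL D.Idx K}
    (hmW : m ∈ T.W) (hm : m ∈ D.monomialSubgroup K) (h2 : m * m = 1) :
    ∃ R ∈ reps, ∃ g ∈ T.W, g * m * g⁻¹ = xProd C K R := by
  classical
  obtain ⟨σ, hσ, ha⟩ := C.exists_acts hm
  have hσT : σ ∈ T.WT := T.mem_WT_of_acts hm (T.W_fix m hmW) ha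
  have hσ2 : σ * σ = 1 := by
    refine C.acts_unique K (C.acts_mul K ha ha) ?_
    rw [h2]; simpa [C.HT_one] using C.acts_HT K 1
  obtain ⟨w, hw, R, hRm, hwe⟩ := exists_repT hsh hc σ hσT hσ2
  obtain ⟨Q, hQW, hQN, hQa⟩ := T.exists_rep hw
  have hS := hR R hRm
  have hcomm : ∀ b ∈ R, ∀ c ∈ R, b ≠ c → Comm4 C K b c := fun b hb c hc' hne =>
    haveI : Std.Symm (fun a b => Comm4 C K a b) := ⟨fun a b h => Comm4.symm h⟩
    List.Pairwise.forall (R := fun a b => Comm4 C K a b) (hS.imp And.right) hb hc' hne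
  set m' := Q * m * Q⁻¹ with hm'
  have hm'W : m' ∈ T.W := mul_mem (mul_mem hQW hmW) (inv_mem hQW)
  have hm'N : m' ∈ D.monomialSubgroup K := mul_mem (mul_mem hQN hm) (inv_mem hQN)
  have hm'2 : m' * m' = 1 := by
    calc m' * m' = Q * (m * m) * Q⁻¹ := by rw [hm']; group
      _ = 1 := by rw [h2]; group
  have ha' := C.acts_mul K (C.acts_mul K hQa ha) (C.acts_inv K hQa)
  obtain ⟨⟨ρ, hρ, hρa, hρv⟩, hsq, -⟩ := nProd_spec hS
  have hρe : rhoP C R = ρ := by
    refine C.acts_unique K (g := nProd C K R) ?_ hρa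
    have key : ∀ L : List (Rt D), C.Acts (nProd C K L) (rhoP C L) := by
      intro L
      induction L with
      | nil => simpa [nProd, rhoP, C.HT_one] using C.acts_HT K 1
      | cons b L ih =>
        obtain ⟨s, -, hsa, hsr⟩ := acts_nR C b (1 : Kˣ)
        rw [eq_reflP hsr] at hsa
        have := C.acts_mul K hsa ih
        simpa [nProd, rhoP] using this
    exact key R
  rw [hwe, hρe] at ha'
  set n0 := nProd C K R
  have hn0 : n0 * n0 = 1 := by
    rw [hsq, units_neg_one]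
    simpa [Pi.one_def] using Core.diag_one C K
  have hn0N : n0 ∈ D.monomialSubgroup K := list_prod_mem fun z hz => by
    obtain ⟨γ, -, rfl⟩ := List.mem_map.1 hz
    exact nR_mem_monomial C γ 1
  have hn0G : n0 ∈ D.group K := C.monomial_le_group hn0N
  have hτnR : ∀ b : Rt D, ∀ u : Kˣ, T.τ (C.nR K b u) = C.nR K (T.π b) (Units.map (φ : K →* K) u) := by
    intro b u
    unfold Core.nR
    rw [T.τ_mul _ (mul_mem (C.X_mem_group _ _) (C.X_mem_group _ _)) _ (C.X_mem_group _ _),
      T.τ_mul _ (C.X_mem_group _ _) _ (C.X_mem_group _ _), T.τ_X, T.τ_X, T.π_rev, hf, hf]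
    simp
  have hn0f : T.τ n0 = n0 := by
    refine τ_prod_stable T (hperm R hRm) (fun b => C.nR K b 1) (fun b _ => C.nR_mem_group _ _)
      (fun b _ => by rw [hτnR, map_one]) fun b hb c hc' => ?_
    by_cases hbc : b = c
    · rw [hbc]
    · exact (hcomm b hb c hc' hbc).nR_nR 1 1
  obtain ⟨c, hk⟩ := C.mem_diagonal_iff.1 (C.mem_diagonal_of_acts_one (mul_mem hm'N (inv_mem hn0N))
    (by simpa using C.acts_mul K ha' (C.acts_inv K hρa)))
  have hkW : T.τ (C.HT K c) = C.HT K c := by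
    have e : C.HT K c = m' * n0⁻¹ := hk.symm
    rw [e, T.τ_mul _ (T.W_le hm'W) _ (inv_mem hn0G), T.W_fix _ hm'W, T.τ_inv hn0G, hn0f]
  have hm'e : m' = C.HT K c * n0 := by rw [← hk, inv_mul_cancel_right]
  set χ := C.chA c
  have hχπ : ∀ s, χ (T.π s) = Units.map (φ : K →* K) (χ s) := by
    intro s
    have e := congrArg T.τ (C.HT_X_conj K c s 1)
    rw [T.τ_mul _ (mul_mem (C.HT_mem_group c) (C.X_mem_group _ _)) _ (inv_mem (C.HT_mem_group c)),
      T.τ_mul _ (C.HT_mem_group c) _ (C.X_mem_group _ _), T.τ_inv (C.HT_mem_group c), hkW, T.τ_X, T.τ_X, hf, hf,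
      map_one, C.HT_X_conj, mul_one, mul_one] at e
    exact Units.ext (X_inj C e)
  choose ev he using hρa
  have hρρ : ∀ s, ρ (ρ s) = s := fun s => by
    have : ρ * ρ = 1 := by
      refine C.acts_unique K (C.acts_mul K (g := n0) (h := n0) ?_ ?_) ?_
      · exact fun r => ⟨ev r, he r⟩
      · exact fun r => ⟨ev r, he r⟩
      · rw [hn0]; simpa [C.HT_one] using C.acts_HT K 1
    rw [← Equiv.Perm.mul_apply, this, Equiv.Perm.one_apply]
  have hχ : ∀ s, χ s * χ (ρ s) = 1 := by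
    intro s
    have hee : (ev (ρ s) : K) * ev s = 1 := by
      refine X_inj C (r := s) ?_
      have h := he (ρ s) ((ev s : K) * 1)
      rw [← he s 1, hρρ s] at h
      rw [mul_one] at h
      calc C.X K s ((ev (ρ s) : K) * ev s) = n0 * (n0 * C.X K s 1 * n0⁻¹) * n0⁻¹ := h.symm
        _ = (n0 * n0) * C.X K s 1 * (n0 * n0)⁻¹ := by group
        _ = C.X K s 1 := by rw [hn0]; group
    have hstep : ∀ r t, m' * C.X K r t * m'⁻¹ = C.X K (ρ r) ((χ (ρ r) : K) * ((ev r : K) * t)) := by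
      intro r t
      calc m' * C.X K r t * m'⁻¹ = C.HT K c * (n0 * C.X K r t * n0⁻¹) * (C.HT K c)⁻¹ := by rw [hm'e]; group
        _ = _ := by rw [he r t, C.HT_X_conj]
    have h := hstep (ρ s) ((χ (ρ s) : K) * ((ev s : K) * 1))
    rw [← hstep s 1, hρρ s] at h
    have e0 : m' * (m' * C.X K s 1 * m'⁻¹) * m'⁻¹ = C.X K s 1 := by
      calc m' * (m' * C.X K s 1 * m'⁻¹) * m'⁻¹ = (m' * m') * C.X K s 1 * (m' * m')⁻¹ := by group
        _ = C.X K s 1 := by rw [hm'2]; group
    rw [e0] at h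
    refine Units.ext ?_
    have h' := X_inj C h
    push_cast
    linear_combination (χ s : K) * (χ (ρ s) : K) * (-1) * hee - h'
  have hchi : ∀ s, χ s * χ s = (R.map fun β => χ β ^ pr D β s).prod := by
    intro s
    have h1 : Additive.ofMul (χ (ρ s)) = Additive.ofMul (χ s) - (R.map fun β => pr D β s • Additive.ofMul (χ β)).sum := by
      rw [chA_eq_chv C c, hρv, map_sub, ← chA_eq_chv C c, map_list_sum, List.map_map]
      congr 2
      refine List.map_congr_left fun β _ => ?_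
      rw [Function.comp_apply, map_zsmul, ← chA_eq_chv C c]
    have h2' : Additive.ofMul (χ s) + Additive.ofMul (χ (ρ s)) = 0 := by
      rw [← ofMul_mul, hχ]; rfl
    rw [h1] at h2'
    have h3 : Additive.ofMul (χ s * χ s) = (R.map fun β => pr D β s • Additive.ofMul (χ β)).sum := by
      rw [ofMul_mul]
      exact sub_eq_zero.1 (by rw [← h2']; abel)
    have h4 := congrArg Additive.toMul h3
    rw [toMul_ofMul, toMul_list_sum, List.map_map] at h4
    exact h4
  obtain ⟨rt, hsqrt⟩ : ∃ rt : Kˣ → Kˣ, ∀ u, rt u * rt u = u := by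
    have key : ∀ u : Kˣ, ∃ w : Kˣ, w * w = u := fun u => by
      obtain ⟨w, hw⟩ := FiniteField.isSquare_of_char_two (ringChar.eq K 2) (u : K)
      have hw0 : w ≠ 0 := fun h => u.ne_zero (by rw [hw, h, mul_zero])
      exact ⟨Units.mk0 w hw0, Units.ext hw.symm⟩
    exact ⟨fun u => (key u).choose, fun u => (key u).choose_spec⟩
  have hrtφ : ∀ u, rt (Units.map (φ : K →* K) u) = Units.map (φ : K →* K) (rt u) := fun u => by
    refine Units.ext (CharTwo.sq_injective ?_)
    show (_ : K) ^ 2 = _ ^ 2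
    rw [sq, sq, ← Units.val_mul, ← Units.val_mul, hsqrt, ← map_mul, hsqrt]
  set ε := fun β => rt (χ β) with hε
  have hT : C.HT K c = (R.map fun β => Core.hD K β (ε β)).prod := by
    rw [prod_hD C, Core.HT]
    congr 1
    funext s
    change χ s = _
    refine Units.ext (CharTwo.sq_injective ?_)
    show (χ s : K) ^ 2 = _ ^ 2
    rw [sq, sq, ← Units.val_mul, ← Units.val_mul, hchi s, ← List.prod_map_mul]
    congr 2
    refine List.map_congr_left fun β _ => ?_
    rw [← mul_zpow, hsqrt]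
  set G := (R.map (gEl C rt ε)).prod with hG
  have hGmem : ∀ b, gEl C rt ε b ∈ D.group K := fun b =>
    sup_le (C.US_le_group _) (C.US_le_group _) (gEl_mem (C := C) rt ε b)
  have hτg : ∀ b, T.τ (gEl C rt ε b) = gEl C rt ε (T.π b) := fun b => by
    simp only [gEl]
    rw [T.τ_mul _ (C.X_mem_group _ _) _ (mul_mem (C.nR_mem_group _ _) (C.nR_mem_group _ _)),
      T.τ_mul _ (C.nR_mem_group _ _) _ (C.nR_mem_group _ _), T.τ_X, T.π_rev, hf, hτnR, hτnR]
    have he1 : ε (T.π b) = Units.map (φ : K →* K) (ε b) := by simp only [hε]; rw [hχπ, hrtφ]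
    rw [he1, hrtφ]
    simp [units_neg_one]
  have hGc : ∀ b ∈ R, ∀ c ∈ R, b ≠ c → ∀ x ∈ C.US K {b} ⊔ C.US K {b.rev},
      ∀ y ∈ C.US K {c} ⊔ C.US K {c.rev}, Commute x y := fun b hb c hc' hne x hx y hy =>
    commute_of_comm4 (hcomm b hb c hc' hne) hx hy
  have hGW : G ∈ T.W := by
    refine T.mem_W_iff.2 ⟨list_prod_mem fun z hz => by
      obtain ⟨b, -, rfl⟩ := List.mem_map.1 hz; exact hGmem b, ?_⟩
    refine τ_prod_stable T (hperm R hRm) (gEl C rt ε) (fun b _ => hGmem b) (fun b _ => hτg b) fun b hb c hc' => ?_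
    by_cases hbc : b = c
    · rw [hbc]
    · exact hGc b hb c hc' hbc _ (gEl_mem rt ε b) _ (gEl_mem rt ε c)
  have hXm : ∀ b : Rt D, C.X K b 1 ∈ C.US K {b} ⊔ C.US K {b.rev} := fun b =>
    Subgroup.mem_sup_left (C.X_mem_US K (Set.mem_singleton _) _)
  have hge : G * xProd C K R * G⁻¹ = m' := by
    rw [hG, xProd, conj_prod (gEl C rt ε) (fun b => C.X K b 1), hm'e, hT, prod_hD_mul ε hS]
    · exact congrArg List.prod (List.map_congr_left fun b _ => gEl_conj hsqrt ε b)
    · refine hS.imp_of_mem fun {a b} ha hb h => ?_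
      refine ⟨commute_of_comm4 h.2 (gEl_mem rt ε a) (gEl_mem rt ε b), commute_of_comm4 h.2 (gEl_mem rt ε a) (hXm b),
        commute_of_comm4 h.2 (hXm a) (gEl_mem rt ε b)⟩
  refine ⟨R, hRm, G⁻¹ * Q, mul_mem (inv_mem hGW) hQW, ?_⟩
  rw [hm'] at hge
  calc G⁻¹ * Q * m * (G⁻¹ * Q)⁻¹ = G⁻¹ * (Q * m * Q⁻¹) * G := by group
    _ = _ := by rw [← hge]; group

end Cfsg.Agent.Lib.EvenInvolutions
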