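import Cfsg.Agent.Lib.EvenInvolutions.TwF4
import Cfsg.Agent.Lib.TwistedF4Two.Main

/-!
The two classes of involutions of ²F₄(2) do not split in the Tits group: both representatives are centralised
by elements outside the derived subgroup.
-/

set_option autoImplicit false
set_option maxRecDepth 100000
set_option linter.unusedSectionVars false
set_option maxHeartbeats 200000

namespace Cfsg.Agent.Lib.EvenInvolutions.TwTits

open Cfsg.Lie Cfsg.Agent.Lib.ChevStructure
open Cfsg.Agent.Lib.TwistedF4Two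
open Cfsg.Agent.Lib.TwistedF4Two.Mat Cfsg.Agent.Lib.TwistedF4Two.Bruhat Cfsg.Agent.Lib.TwistedF4Two.Main
open Cfsg.Agent.Lib.TwistedF4Two.Cells
open scoped MatrixGroups

theorem el_eq_wordG (L : List ℕ) : el L = wordG TwF4.H (ZMod 2) L := rfl

theorem conjgen_certs : same (sw 0 ++ hword [0] ++ sw 0) [14, 23] = true ∧
    same (sw 1 ++ hword [1] ++ sw 1) [20, 22, 19] = true ∧ same (sw 1 ++ hword [2] ++ sw 1) [19, 17] = true ∧
    same (sw 1 ++ hword [1, 2] ++ sw 1) [20, 22, 17] = true ∧ same (sw 0 ++ sw 0) [] = true ∧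
    same (sw 1 ++ sw 1) [] = true := by decide +kernel

theorem mk_eq_of_conj {M : Type*} [Group M] {S : Subgroup M} {A : Subgroup S} (g b k : A)
    (h : ((k : S) : M) * ((g : S) : M) * ((k : S) : M)⁻¹ = ((b : S) : M)) : ConjClasses.mk b = ConjClasses.mk g :=
  (ConjClasses.mk_eq_mk_iff_isConj.2 (isConj_iff.2 ⟨k, Subtype.ext (Subtype.ext h)⟩)).symm

theorem eq_of_mk {M : Type*} [Group M] {S : Subgroup M} {A : Subgroup S} (g b : A)
    (e : ConjClasses.mk g = ConjClasses.mk b) : ∃ h : M, h * ((g : S) : M) * h⁻¹ = ((b : S) : M) := by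
  obtain ⟨h, he⟩ := isConj_iff.1 (ConjClasses.mk_eq_mk_iff_isConj.1 e)
  exact ⟨_, congrArg Subtype.val (congrArg Subtype.val he)⟩

/-- The subgroup of an involution. -/
def twoSub {G : Type*} [Group G] (a : G) (ha : a * a = 1) : Subgroup G where
  carrier := {x | x = 1 ∨ x = a}
  one_mem' := Or.inl rfl
  mul_mem' := by
    rintro x y (rfl | rfl) (rfl | rfl)
    · exact Or.inl (one_mul 1)
    · exact Or.inr (one_mul _)
    · exact Or.inr (mul_one _)
    · exact Or.inl ha
  inv_mem' := by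
    rintro x (rfl | rfl)
    · exact Or.inl inv_one
    · exact Or.inr (inv_eq_of_mul_eq_one_right ha)

theorem mem_twoSub {G : Type*} [Group G] {a : G} {ha : a * a = 1} {x : G} : x ∈ twoSub a ha ↔ x = 1 ∨ x = a := Iff.rfl

theorem ab_sq_conj {M : Type*} [Group M] {S : Subgroup M} {s h b : M} (hs : s ∈ S) (hh : h ∈ S) (h1 : s * s = 1)
    (e : s * h * s = b) : ab S b = ab S h := by
  have e' : s * h * s⁻¹ = b := by rw [inv_eq_of_mul_eq_one_right h1]; exact e
  rw [← e', ab_conj hs hh]

/-- The image in the abelianisation takes two values. -/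
theorem phi_cases : ∀ g ∈ G2F, Main.phi g = 1 ∨ Main.phi g = Main.phi (hE 1) := by
  obtain ⟨haa, hk⟩ := phi_hE
  have hm : ∀ k < 12, hE k ∈ G2F := fun k hk => U12_le (hE_mem (List.mem_range.2 hk))
  let N : Subgroup (Abelianization G2F) := twoSub (Main.phi (hE 1)) haa
  have hP' : ∀ L : List ℕ, (∀ k ∈ L, k < 12) → hP L ∈ G2F ∧ Main.phi (hP L) ∈ N := by
    intro L hL
    have hg : ∀ g ∈ L.map hE, g ∈ G2F := fun g hg => by
      obtain ⟨k, hk, rfl⟩ := List.mem_map.1 hg
      exact hm k (hL k hk)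
    refine ⟨Subgroup.list_prod_mem G2F hg, ?_⟩
    show ab G2F (L.map hE).prod ∈ N
    rw [ab_list hg]
    refine list_prod_mem fun x hx => ?_
    obtain ⟨g, hg', rfl⟩ := List.mem_map.1 hx
    obtain ⟨k, hk', rfl⟩ := List.mem_map.1 hg'
    show Main.phi (hE k) = 1 ∨ Main.phi (hE k) = Main.phi (hE 1)
    rw [hk k (hL k hk')]
    by_cases h : isA k
    · exact Or.inr (if_pos h)
    · exact Or.inl (if_neg h)
  intro g hg
  induction hg using Subgroup.closure_induction with
  | mem x hx =>
    obtain ⟨w, hw, hx⟩ := hx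
    have hx' : x = el (ones w) := Units.ext (hx.trans (wordMat_ones w))
    subst hx'
    have hm' := ones_bases hw
    generalize ones w = L at hm'
    obtain ⟨c1, c2, c3, c4, s0, s1⟩ := conjgen_certs
    have hs : ∀ i, ∀ (L : List ℕ) (B : List ℕ), (∀ k ∈ L, k < 12) → same (sw i ++ hword L ++ sw i) B = true →
        same (sw i ++ sw i) [] = true → Main.phi (el B) ∈ N := by
      intro i L B hL he hss
      have e := el_eq he
      rw [el_append, el_append, el_hword] at e
      have hss' : el (sw i) * el (sw i) = 1 := by rw [← el_append, el_eq hss, el_nil]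
      have hs' : el (sw i) ∈ G2F := sE_mem i
      have e2 : ab G2F (el B) = ab G2F (hP L) := ab_sq_conj hs' (hP' L hL).1 hss' e
      exact (show Main.phi (el B) = Main.phi (hP L) from e2) ▸ (hP' L hL).2
    have hu : ∀ (L : List ℕ) (B : List ℕ), (∀ k ∈ L, k < 12) → el B = hP L → Main.phi (el B) ∈ N := fun L B hL e =>
      e ▸ (hP' L hL).2
    have hb := baseCert_true
    simp only [baseCert, Bool.and_eq_true] at hb
    obtain ⟨⟨⟨⟨⟨⟨⟨-, -⟩, -⟩, -⟩, b5⟩, b6⟩, b7⟩, b8⟩ := hb
    simp only [bases, List.mem_cons, List.not_mem_nil, or_false] at hm'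
    rcases hm' with rfl | rfl | rfl | rfl | rfl | rfl | rfl | rfl | rfl
    · exact hu _ _ (by decide) ((el_eq b5).trans (el_hword _))
    · exact hs 0 _ _ (by decide) c1 s0
    · exact hu _ _ (by decide) ((el_eq b6).trans (el_hword _))
    · exact hu _ _ (by decide) ((el_eq b7).trans (el_hword _))
    · exact hs 1 _ _ (by decide) c2 s1
    · exact hs 1 _ _ (by decide) c3 s1
    · exact hu _ _ (by decide) ((el_eq b8).trans (el_hword _))
    · exact hs 1 _ _ (by decide) c4 s1
    · exact Or.inl (ab_one _)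
  | one => exact Or.inl (ab_one _)
  | mul x y hx hy ihx ihy =>
    show Main.phi (x * y) ∈ N
    rw [show Main.phi (x * y) = Main.phi x * Main.phi y from ab_mul (G := G2F) hx hy]
    exact N.mul_mem ihx ihy
  | inv x hx ihx =>
    have hx' : x ∈ G2F := hx
    have h : ab G2F (x⁻¹ * x) = ab G2F x⁻¹ * ab G2F x := ab_mul (inv_mem hx') hx'
    rw [inv_mul_cancel, ab_one] at h
    show Main.phi x⁻¹ ∈ N
    rw [show Main.phi x⁻¹ = (Main.phi x)⁻¹ from eq_inv_of_mul_eq_one_left h.symm]
    exact N.inv_mem ihx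

theorem comm_certs : same (hw 1 ++ [28, 30]) ([28, 30] ++ hw 1) = true ∧
    same (hw 3 ++ [33, 24]) ([33, 24] ++ hw 3) = true := by decide +kernel

/-- An element outside the derived subgroup centralising the representative. -/
theorem exists_centralizer {y : List ℕ} (hy : y ∈ CertTwF4.ys) :
    ∃ c ∈ G2F, Commute c (el y) ∧ Main.phi c = Main.phi (hE 1) := by
  have hm : ∀ k < 12, hE k ∈ G2F := fun k hk => U12_le (hE_mem (List.mem_range.2 hk))
  have h3 : Main.phi (hE 3) = Main.phi (hE 1) := by rw [phi_hE.2 3 (by norm_num)]; rfl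
  simp only [CertTwF4.ys, List.mem_cons, List.not_mem_nil, or_false] at hy
  rcases hy with rfl | rfl
  · refine ⟨hE 1, hm 1 (by norm_num), ?_, rfl⟩
    have e := el_eq comm_certs.1
    rw [el_append, el_append] at e
    exact e
  · refine ⟨hE 3, hm 3 (by norm_num), ?_, h3⟩
    have e := el_eq comm_certs.2
    rw [el_append, el_append] at e
    exact e

theorem mem_comm_iff (g : G2F) : g ∈ commutator ↥G2F ↔ Main.phi (g : GL chevF4.Idx (ZMod 2)) = 1 := by
  constructor
  · intro h
    rw [Main.phi, ab, dif_pos g.2]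
    exact (QuotientGroup.eq_one_iff g).2 h
  · exact mem_commutator_of_ab g

theorem involution_phi {g : GL chevF4.Idx (ZMod 2)} (hg : g ∈ G2F) (h2 : g * g = 1) : Main.phi g = 1 := by
  obtain ⟨c, hc, hu⟩ := exists_conj_mem U12_le isPGroup_U12 (fun x hx h => fix_coset hx h) hg h2
  refine mem_commutator_of_conj ⟨g, hg⟩ hc (phi_involution hu ?_)
  rw [show ∀ a b : GL chevF4.Idx (ZMod 2), a⁻¹ * b * a * (a⁻¹ * b * a) = a⁻¹ * (b * b) * a from
    fun a b => by group, h2, mul_one, inv_mul_cancel]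

theorem th : LieTwisted.Twist.F4.Th (RingEquiv.refl (ZMod 2)) 1 where
  two := inferInstance
  apply t := (pow_one t).symm
  sq := by decide

/-- Two classes of involutions in the Tits group. -/
theorem count : (ConjClasses.mk '' {g : Cfsg.Lie.TitsGroup | orderOf g = 2}).ncard = 2 := by
  classical
  have hys := fun y (hy : y ∈ CertTwF4.ys) => TwF4.ys_mem th y hy
  have hsq := fun y (hy : y ∈ CertTwF4.ys) => TwF4.ys_sq th y hy
  have hne : ∀ y ∈ CertTwF4.ys, wordG TwF4.H (ZMod 2) y ≠ 1 := ne_one_of_rank TwF4.H TwF4.ys_rank (by decide)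
  have hphi : ∀ y ∈ CertTwF4.ys, Main.phi (el y) = 1 := fun y hy => involution_phi (hys y hy) (hsq y hy)
  let f : {L // L ∈ CertTwF4.ys} → ConjClasses Cfsg.Lie.TitsGroup := fun L =>
    ConjClasses.mk ⟨⟨el L.1, hys L.1 L.2⟩, (mem_comm_iff _).2 (hphi L.1 L.2)⟩
  have himg : ConjClasses.mk '' {g : Cfsg.Lie.TitsGroup | orderOf g = 2} = Set.range f := by
    ext c
    constructor
    · rintro ⟨g, hg, rfl⟩
      have hg' : orderOf ((g : G2F) : GL chevF4.Idx (ZMod 2)) = 2 := by
        rw [Subgroup.orderOf_coe, Subgroup.orderOf_coe]; exact hg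
      set x := ((g : G2F) : GL chevF4.Idx (ZMod 2))
      have h2 : x * x = 1 := by
        have h := pow_orderOf_eq_one x
        rw [hg'] at h
        rw [← pow_two]; exact h
      have h1 : x ≠ 1 := fun e => by rw [e, orderOf_one] at hg'; omega
      obtain ⟨y, hy, h, hh, he⟩ := TwF4.classes th (g : G2F).2 h2 h1
      obtain ⟨z, hz, hzc, hzp⟩ := exists_centralizer hy
      have key : ∃ k ∈ G2F, Main.phi k = 1 ∧ k * x * k⁻¹ = el y := by
        rcases phi_cases h hh with hp | hp
        · exact ⟨h, hh, hp, he⟩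
        · refine ⟨z * h, mul_mem hz hh, ?_, ?_⟩
          · rw [Main.phi, ab_mul hz hh, show ab G2F z = _ from hzp, show ab G2F h = _ from hp]
            exact phi_hE.1
          · calc z * h * x * (z * h)⁻¹ = z * (h * x * h⁻¹) * z⁻¹ := by group
              _ = el y := by rw [he, ← el_eq_wordG, hzc.eq, mul_inv_cancel_right]
      obtain ⟨k, hk, hkp, hke⟩ := key
      exact ⟨⟨y, hy⟩, mk_eq_of_conj g _ ⟨⟨k, hk⟩, (mem_comm_iff _).2 hkp⟩ hke⟩
    · rintro ⟨⟨y, hy⟩, rfl⟩
      refine ⟨⟨⟨el y, hys y hy⟩, (mem_comm_iff _).2 (hphi y hy)⟩, ?_, rfl⟩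
      show orderOf _ = 2
      rw [← Subgroup.orderOf_coe, ← Subgroup.orderOf_coe]
      exact orderOf_eq_prime (by rw [pow_two]; exact hsq y hy) (hne y hy)
  have hinj : Function.Injective f := by
    intro L₁ L₂ e
    obtain ⟨h, he⟩ := eq_of_mk _ _ e
    exact Subtype.ext (TwF4.ys_inj L₁.2 L₂.2 (h := h) he)
  rw [himg, ← Nat.card_coe_set_eq, Nat.card_range_of_injective hinj,
    Nat.subtype_card CertTwF4.ys.toFinset (by simp), List.toFinset_card_of_nodup (by decide)]
  rfl

end Cfsg.Agent.Lib.EvenInvolutions.TwTits
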